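import Cfsg.Agent.Lib.Transfer.NormalComplement
import Cfsg.Agent.Lib.PF.OddOrder

/-!
# Perfect groups satisfying Frobenius' condition

A perfect group with Frobenius' condition at `p` has order prime to `p`; for `p = 2` it is trivial.
-/

set_option autoImplicit false
set_option linter.style.haveILetI false

namespace CfsgLib.Homogeneous

universe u

theorem not_dvd_of_frobeniusCond {p : ℕ} [Fact p.Prime] {X : Type u} [Group X] [Finite X]
    (hperf : commutator X = ⊤) (h : CfsgLib.Transfer.FrobeniusCond p X) : ¬ p ∣ Nat.card X := by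
  obtain ⟨P, N, hN, hc⟩ := CfsgLib.Transfer.hasNormalPComplement_of_frobeniusCond h
  haveI := hN
  intro hdvd
  haveI := P.2.isNilpotent
  let e := hc.symm.QuotientMulEquiv
  haveI : Group.IsSolvable (X ⧸ N) :=
    Group.isSolvable_of_isSolvable_injective (f := e.toMonoidHom) e.injective
  by_cases hs : Nontrivial (X ⧸ N)
  · have h1 := Group.IsSolvable.commutator_lt_top_of_nontrivial (X ⧸ N)
    have h2 : commutator (X ⧸ N) = ⊤ := by
      rw [commutator_def, ← Subgroup.map_top_of_surjective _ (QuotientGroup.mk'_surjective N),
        ← Subgroup.map_commutator]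
      exact congrArg _ hperf
    exact h1.ne h2
  · rw [not_nontrivial_iff_subsingleton] at hs
    have hN1 : N = ⊤ := by
      refine eq_top_iff.2 fun x _ => ?_
      rw [← QuotientGroup.eq_one_iff]
      exact Subsingleton.elim _ _
    have h3 := hc.card_mul
    rw [hN1, Subgroup.card_top] at h3
    have h5 : Nat.card (P : Subgroup X) = 1 :=
      Nat.eq_of_mul_eq_mul_left Nat.card_pos (h3.trans (mul_one _).symm)
    have := P.card_eq_multiplicity
    rw [h5] at this
    have h4 : 0 < (Nat.card X).factorization p :=
      (Fact.out : p.Prime).factorization_pos_of_dvd Nat.card_pos.ne' hdvd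
    exact (Nat.one_lt_pow h4.ne' (Fact.out : p.Prime).one_lt).ne this

theorem subsingleton_of_perfect_odd {X : Type u} [Group X] [Finite X] (hperf : commutator X = ⊤)
    (hodd : Odd (Nat.card X)) : Subsingleton X := by
  by_contra h
  rw [not_subsingleton_iff_nontrivial] at h
  haveI : Group.IsSolvable X := CfsgLib.PF.oddSolvable X hodd
  exact (Group.IsSolvable.commutator_lt_top_of_nontrivial X).ne hperf

theorem subsingleton_of_frobeniusCond_two {X : Type u} [Group X] [Finite X]
    (hperf : commutator X = ⊤) (h : CfsgLib.Transfer.FrobeniusCond 2 X) : Subsingleton X :=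
  haveI : Fact (Nat.Prime 2) := ⟨Nat.prime_two⟩
  subsingleton_of_perfect_odd hperf
    (Nat.not_even_iff_odd.1 fun he => not_dvd_of_frobeniusCond hperf h he.two_dvd)

end CfsgLib.Homogeneous
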