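import Cfsg.Agent.Lib.Homogeneous.AnisoCount
import Cfsg.Agent.Lib.Homogeneous.Frobenius
import Cfsg.Agent.Lib.Structure.TwoGroupSquares

/-!
# Perfect groups of isometries of an anisotropic quadratic map are trivial

`q : V → U` over two elements with bi-additive polar form and no non-trivial zero: a perfect finite
group of linear maps preserving `q` acts trivially.
-/

set_option autoImplicit false
set_option linter.unusedSimpArgs false
set_option linter.style.haveILetI false
set_option linter.unusedSectionVars false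

namespace CfsgLib.Homogeneous

open Module


universe u w

theorem zmod2_cases : ∀ c : ZMod 2, c = 0 ∨ c = 1 := by decide

open scoped Classical

section Basics

variable {V U : Type u} [AddCommGroup V] [Module (ZMod 2) V] [AddCommGroup U] [Module (ZMod 2) U]

theorem polar_comm (q : V → U) (x y : V) : polar q x y = polar q y x := by
  rw [polar, polar, add_comm x y]; abel

theorem polar_add_right {q : V → U}
    (hadd : ∀ x y z, polar q (x + y) z = polar q x z + polar q y z) (x y z : V) :
    polar q x (y + z) = polar q x y + polar q x z := by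
  rw [polar_comm, hadd, polar_comm q y, polar_comm q z]

theorem sub_eq_add_two (x y : V) : x - y = x + y := by
  rw [sub_eq_iff_eq_add, add_assoc, add_self_zero, add_zero]

theorem neg_two (x : V) : -x = x := by rw [← zero_sub, sub_eq_add_two, zero_add]

theorem q_add (q : V → U) (x y : V) : q (x + y) = q x + q y + polar q x y := by
  have e : q x + q y + (q (x + y) + q x + q y)
      = q (x + y) + ((q x + q x) + (q y + q y)) := by abel
  rw [polar, e, add_self_zero, add_self_zero, add_zero, add_zero]

theorem polar_self {q : V → U} (hq0 : q 0 = 0) (v : V) : polar q v v = 0 := by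
  rw [polar, add_self_zero, hq0, zero_add, add_self_zero]

end Basics

section Fixed

variable {V : Type u} [AddCommGroup V] [Module (ZMod 2) V] {X : Type w} [Group X]
  (ρ : X →* (V ≃ₗ[ZMod 2] V))

/-- The common fixed space. -/
def fixSub : Submodule (ZMod 2) V where
  carrier := {v | ∀ x, ρ x v = v}
  add_mem' ha hb x := by rw [map_add, ha x, hb x]
  zero_mem' x := map_zero _
  smul_mem' c v hv x := by rw [map_smul, hv x]

/-- The space spanned by the `ρ x v + v`. -/
def moveSub : Submodule (ZMod 2) V := Submodule.span (ZMod 2) {a | ∃ x v, a = ρ x v + v}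

theorem moveSub_invariant (x : X) {a : V} (ha : a ∈ moveSub ρ) : ρ x a ∈ moveSub ρ := by
  have h : moveSub ρ ≤ (moveSub ρ).comap (ρ x).toLinearMap := by
    rw [moveSub, Submodule.span_le]
    rintro _ ⟨y, v, rfl⟩
    refine Submodule.subset_span ⟨x * y * x⁻¹, ρ x v, ?_⟩
    show ρ x (ρ y v + v) = ρ (x * y * x⁻¹) (ρ x v) + ρ x v
    have h1 : ρ x⁻¹ (ρ x v) = v := by
      rw [← LinearEquiv.mul_apply, ← map_mul, inv_mul_cancel, map_one]
      rfl
    rw [map_add, map_mul, map_mul, LinearEquiv.mul_apply, LinearEquiv.mul_apply, h1]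
  exact h ha

/-- A perfect group moving everything into the fixed space is trivial. -/
theorem eq_one_of_move_fixed (hperf : commutator X = ⊤) (h : ∀ x v, ρ x v + v ∈ fixSub ρ) :
    ρ = 1 := by
  refine MonoidHom.ext fun x => LinearEquiv.ext fun v => ?_
  let c : X →* Multiplicative V := MonoidHom.mk' (fun x => Multiplicative.ofAdd (ρ x v + v))
    fun x y => congrArg Multiplicative.ofAdd (by
      have h1 := h y v x
      rw [map_add] at h1
      have h2 : ρ x (ρ y v) = ρ y v + v + ρ x v := by
        rw [← h1, add_assoc, add_self_zero, add_zero]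
      show ρ (x * y) v + v = (ρ x v + v) + (ρ y v + v)
      rw [map_mul, LinearEquiv.mul_apply, h2]
      abel)
  have hc : commutator X ≤ c.ker := Abelianization.commutator_subset_ker c
  rw [hperf] at hc
  have h2 : Multiplicative.ofAdd (ρ x v + v) = Multiplicative.ofAdd (0 : V) := hc (Subgroup.mem_top x)
  have h3 : ρ x v + v = 0 := Multiplicative.ofAdd.injective h2
  show ρ x v = v
  rw [eq_neg_of_add_eq_zero_left h3, neg_two]

end Fixed

section Irreducible

variable {V U : Type u} [AddCommGroup V] [Module (ZMod 2) V] [Finite V] [AddCommGroup U]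
  [Module (ZMod 2) U] [Finite U] {X : Type w} [Group X] [Finite X]
  {ρ : X →* (V ≃ₗ[ZMod 2] V)} {q : V → U}

/-- The irreducible, fixed point free, spanning case. -/
theorem eq_one_of_irreducible (hperf : commutator X = ⊤) (hz : ∀ v, q v = 0 ↔ v = 0)
    (hadd : ∀ x y z, polar q (x + y) z = polar q x z + polar q y z)
    (hinv : ∀ x v, q (ρ x v) = q v) (hspan : Submodule.span (ZMod 2) (Set.range q) = ⊤)
    (hirr : ∀ W : Submodule (ZMod 2) V, (∀ x, ∀ a ∈ W, ρ x a ∈ W) → W = ⊥ ∨ W = ⊤)
    (hF : fixSub ρ = ⊥) : ρ = 1 := by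
  haveI : Module.Finite (ZMod 2) V := Module.Finite.of_finite
  haveI : Module.Finite (ZMod 2) U := Module.Finite.of_finite
  by_contra hne
  have hq0 : q 0 = 0 := (hz 0).2 rfl
  haveI : Nontrivial V := by
    by_contra h
    rw [not_nontrivial_iff_subsingleton] at h
    exact hne (MonoidHom.ext fun x => LinearEquiv.ext fun v => Subsingleton.elim _ _)
  -- the polar form is `X`-invariant
  have hBinv : ∀ x a b, polar q (ρ x a) (ρ x b) = polar q a b := fun x a b => by
    rw [polar, polar, ← map_add, hinv, hinv, hinv]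
  -- forms
  have hsm0 : ∀ a : V, polar q 0 a = 0 := fun a => by
    have := hadd 0 0 a
    rw [add_zero] at this
    rw [this, add_self_zero]
  let T : Dual (ZMod 2) U → (V →ₗ[ZMod 2] Dual (ZMod 2) V) := fun φ =>
    AddMonoidHom.toZModLinearMap 2 (AddMonoidHom.mk'
      (fun a => AddMonoidHom.toZModLinearMap 2 (AddMonoidHom.mk' (fun b => φ (polar q a b))
        fun b c => by rw [polar_add_right hadd, map_add]))
      fun a b => LinearMap.ext fun c => by
        show φ (polar q (a + b) c) = φ (polar q a c) + φ (polar q b c)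
        rw [hadd, map_add])
  have hT : ∀ φ a b, T φ a b = φ (polar q a b) := fun φ a b => rfl
  have hTinj : ∀ φ : Dual (ZMod 2) U, φ ≠ 0 → Function.Injective (T φ) := by
    intro φ hφ
    rw [← LinearMap.ker_eq_bot]
    refine (hirr _ fun x a ha => ?_).resolve_right fun htop => hφ ?_
    · rw [LinearMap.mem_ker] at ha ⊢
      refine LinearMap.ext fun b => ?_
      have h1 : ρ x ((ρ x).symm b) = b := (ρ x).apply_symm_apply b
      rw [hT, ← h1, hBinv, ← hT, ha]
      rfl
    · -- `φ ∘ q` is linear and invariant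
      have hlin : ∀ a b, φ (q (a + b)) = φ (q a) + φ (q b) := fun a b => by
        have h1 : T φ a b = 0 := by
          have : T φ a = 0 := LinearMap.mem_ker.1 (htop ▸ Submodule.mem_top)
          rw [this]; rfl
        rw [q_add q a b, map_add, ← hT, h1, add_zero, map_add]
      let L : V →ₗ[ZMod 2] ZMod 2 := AddMonoidHom.toZModLinearMap 2
        (AddMonoidHom.mk' (fun a => φ (q a)) hlin)
      rcases hirr (LinearMap.ker L) (fun x a ha => by
        rw [LinearMap.mem_ker] at ha ⊢
        show φ (q (ρ x a)) = 0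
        rw [hinv]; exact ha) with h | h
      · exfalso
        refine hne (MonoidHom.ext fun x => LinearEquiv.ext fun v => ?_)
        refine LinearMap.ker_eq_bot.1 h ?_
        show φ (q (ρ x v)) = φ (q v)
        rw [hinv]
      · refine LinearMap.ext fun b => ?_
        have : Submodule.span (ZMod 2) (Set.range q) ≤ LinearMap.ker φ := by
          rw [Submodule.span_le]
          rintro _ ⟨a, rfl⟩
          exact LinearMap.mem_ker.1 (h ▸ Submodule.mem_top : a ∈ LinearMap.ker L)
        rw [hspan] at this
        exact this Submodule.mem_top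
  -- the commutant
  let D : Subalgebra (ZMod 2) (Module.End (ZMod 2) V) :=
    Subalgebra.centralizer (ZMod 2) (Set.range fun x => ((ρ x).toLinearMap : Module.End (ZMod 2) V))
  have hDmem : ∀ d : Module.End (ZMod 2) V, d ∈ D ↔ ∀ x v, d (ρ x v) = ρ x (d v) := by
    intro d
    rw [Subalgebra.mem_centralizer_iff]
    constructor
    · intro h x v
      exact (LinearMap.congr_fun (h _ ⟨x, rfl⟩) v).symm
    · rintro h _ ⟨x, rfl⟩
      exact LinearMap.ext fun v => (h x v).symm
  have hDinj : ∀ d : D, d ≠ 0 → Function.Injective (d : Module.End (ZMod 2) V) := by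
    intro d hd
    rw [← LinearMap.ker_eq_bot]
    refine (hirr _ fun x a ha => ?_).resolve_right fun h => hd (Subtype.ext (LinearMap.ker_eq_top.1 h))
    rw [LinearMap.mem_ker] at ha ⊢
    rw [(hDmem _).1 d.2, ha, map_zero]
  haveI : Finite (Module.End (ZMod 2) V) := Module.finite_of_finite (ZMod 2)
  haveI : Nontrivial D := by
    refine ⟨⟨1, 0, fun h => ?_⟩⟩
    obtain ⟨v, hv⟩ := exists_ne (0 : V)
    exact hv (LinearMap.congr_fun (congrArg Subtype.val h) v)
  haveI : IsDomain D := by
    haveI : NoZeroDivisors D := ⟨fun {a b} hab => by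
      by_contra h
      push Not at h
      exact h.2 (Subtype.ext (LinearMap.ext fun v => hDinj a h.1
        ((LinearMap.congr_fun (congrArg Subtype.val hab) v).trans (map_zero _).symm)))⟩
    exact NoZeroDivisors.to_isDomain D
  have hDcomm : ∀ a b : D, a * b = b * a := (Finite.isDomain_to_isField D).mul_comm
  obtain ⟨v0, hv0⟩ := exists_ne (0 : V)
  let ev : D → V := fun d => (d : Module.End (ZMod 2) V) v0
  have hevinj : Function.Injective ev := fun a b h => by
    by_contra hab
    refine hv0 (hDinj (a - b) (sub_ne_zero.2 hab) ?_)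
    rw [map_zero, Subalgebra.coe_sub, LinearMap.sub_apply]
    exact sub_eq_zero.2 h
  -- `D` has at least two dimensions to act on
  obtain ⟨v1, hv1⟩ : ∃ v1, ∀ d : D, (d : Module.End (ZMod 2) V) v0 ≠ v1 := by
    by_contra h
    push Not at h
    refine hne ?_
    choose δ hδ using h
    have hc : ∀ x y : X, ρ (x * y) = ρ (y * x) := by
      intro x y
      refine LinearEquiv.ext fun v => ?_
      rw [← hδ v, map_mul, map_mul, LinearEquiv.mul_apply, LinearEquiv.mul_apply,
        ← (hDmem _).1 (δ v).2, ← (hDmem _).1 (δ v).2, ← (hDmem _).1 (δ v).2,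
        ← (hDmem _).1 (δ v).2]
      congr 1
      conv_lhs => rw [← hδ (ρ y v0), ← (hDmem _).1 (δ (ρ y v0)).2, ← hδ (ρ x v0)]
      conv_rhs => rw [← hδ (ρ x v0), ← (hDmem _).1 (δ (ρ x v0)).2, ← hδ (ρ y v0)]
      exact LinearMap.congr_fun (congrArg Subtype.val (hDcomm _ _)) v0
    have hcomm : ρ.range ≤ Subgroup.centralizer (ρ.range : Set (V ≃ₗ[ZMod 2] V)) := by
      rintro _ ⟨x, rfl⟩ _ ⟨y, rfl⟩
      rw [← map_mul, ← map_mul, hc]
    have h1 : (commutator X).map ρ = ⊥ := by
      rw [commutator_def, Subgroup.map_commutator, ← MonoidHom.range_eq_map,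
        Subgroup.commutator_eq_bot_iff_le_centralizer]
      exact hcomm
    rw [hperf, ← MonoidHom.range_eq_map] at h1
    exact MonoidHom.range_eq_bot_iff.1 h1
  have hDD : Nat.card D ^ 2 ≤ Nat.card V := by
    rw [sq, ← Nat.card_prod]
    refine Nat.card_le_card_of_injective
      (fun ab : D × D => (ab.1 : Module.End (ZMod 2) V) v0 + (ab.2 : Module.End (ZMod 2) V) v1) ?_
    rintro ⟨a, b⟩ ⟨a', b'⟩ h
    have hb : b = b' := by
      by_contra hb
      obtain ⟨e, he⟩ := (Finite.isDomain_to_isField D).mul_inv_cancel (sub_ne_zero.2 hb)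
      have h1 : ((a' - a : D) : Module.End (ZMod 2) V) v0 = ((b - b' : D) : Module.End (ZMod 2) V) v1 := by
        simp only [Subalgebra.coe_sub, LinearMap.sub_apply]
        rw [sub_eq_sub_iff_add_eq_add, add_comm ((b : Module.End (ZMod 2) V) v1)]
        exact h.symm
      apply hv1 (e * (a' - a))
      rw [Subalgebra.coe_mul, Module.End.mul_apply, h1, ← Module.End.mul_apply, ← Subalgebra.coe_mul,
        hDcomm e, he]
      rfl
    subst hb
    have h2 : ev a = ev a' := add_right_cancel h
    rw [hevinj h2]
  have hUD : Nat.card U ≤ Nat.card D := by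
    have hcardD : Nat.card (Dual (ZMod 2) U) = Nat.card U := by
      rw [Module.natCard_eq_pow_finrank (K := ZMod 2), Module.natCard_eq_pow_finrank (K := ZMod 2) (V := U),
        Subspace.dual_finrank_eq]
    rw [← hcardD]
    by_cases hall : ∀ φ : Dual (ZMod 2) U, φ = 0
    · haveI : Subsingleton (Dual (ZMod 2) U) := ⟨fun a b => by rw [hall a, hall b]⟩
      rw [Nat.card_unique]
      exact Nat.card_pos
    push Not at hall
    obtain ⟨φ0, hφ0⟩ := hall
    let e0 : V ≃ₗ[ZMod 2] Dual (ZMod 2) V :=
      LinearEquiv.ofBijective (T φ0) ⟨hTinj φ0 hφ0,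
        (LinearMap.injective_iff_surjective_of_finrank_eq_finrank
          (Subspace.dual_finrank_eq (K := ZMod 2) (V := V)).symm).1 (hTinj φ0 hφ0)⟩
    have hmem : ∀ φ, e0.symm.toLinearMap.comp (T φ) ∈ D := by
      intro φ
      rw [hDmem]
      intro x v
      apply e0.injective
      show e0 (e0.symm (T φ (ρ x v))) = T φ0 (ρ x (e0.symm (T φ v)))
      rw [e0.apply_symm_apply]
      refine LinearMap.ext fun b => ?_
      have h1 : ρ x ((ρ x).symm b) = b := (ρ x).apply_symm_apply b
      rw [hT, hT]
      conv_lhs => rw [← h1, hBinv, ← hT]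
      conv_rhs => rw [← h1, hBinv, ← hT]
      rw [show T φ0 (e0.symm (T φ v)) = e0 (e0.symm (T φ v)) from rfl, e0.apply_symm_apply]
    refine Nat.card_le_card_of_injective (fun φ => (⟨_, hmem φ⟩ : D)) fun φ ψ h => ?_
    by_contra hne'
    refine hv0 (hTinj (φ - ψ) (sub_ne_zero.2 hne') ?_)
    rw [map_zero]
    refine LinearMap.ext fun b => ?_
    have h2 := LinearMap.congr_fun (e0.symm.injective (LinearMap.congr_fun (congrArg Subtype.val h) v0)) b
    rw [hT] at h2 ⊢
    rw [LinearMap.sub_apply, h2, ← hT, sub_self]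
    rfl
  have hVU : Nat.card V ≤ Nat.card U ^ 2 :=
    CfsgLib.Structure.card_le_sq_of_anisotropic q hq0 (polar q) (q_add q) hadd fun v => (hz v).1
  have hcard : Nat.card V = Nat.card U ^ 2 :=
    le_antisymm hVU ((Nat.pow_le_pow_left hUD 2).trans hDD)
  have hnd : ∀ d, d ≠ 0 → ∀ u, ∃ c, polar q c d = u := by
    intro d hd u
    by_contra hu
    push Not at hu
    let Bd : V →ₗ[ZMod 2] U := AddMonoidHom.toZModLinearMap 2
      (AddMonoidHom.mk' (fun c => polar q c d) fun a b => hadd a b d)
    have hnot : u ∉ LinearMap.range Bd := by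
      rintro ⟨c, hc⟩
      exact hu c hc
    obtain ⟨φ, hφu, hφ⟩ := Submodule.exists_dual_map_eq_bot_of_notMem hnot inferInstance
    refine hd (hTinj φ (fun h => hφu (by rw [h]; rfl)) ?_)
    rw [map_zero]
    refine LinearMap.ext fun c => ?_
    rw [hT, polar_comm, LinearMap.zero_apply, ← Submodule.mem_bot (ZMod 2), ← hφ]
    exact Submodule.mem_map_of_mem ⟨c, rfl⟩
  -- an element of odd order with a fixed vector is trivial
  have hodd : ∀ x : X, Odd (orderOf (ρ x)) → ∀ w0 : V, w0 ≠ 0 → ρ x w0 = w0 → ρ x = 1 := by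
    intro x hx w0 hw0 hfix
    by_cases h4 : 4 ≤ Nat.card U
    · exact isometry_eq_one_of_nondegenerate q hz hadd hnd hcard h4 (ρ x) (hinv x) hx
        (pow_orderOf_eq_one _) hw0 hfix
    · -- only four vectors
      have hU2 : Nat.card U ≤ 2 := by
        rw [Module.natCard_eq_pow_finrank (K := ZMod 2), Nat.card_zmod] at h4 ⊢
        rcases Nat.lt_or_ge (Module.finrank (ZMod 2) U) 2 with h | h
        · exact Nat.pow_le_pow_right (by norm_num : 1 ≤ 2) (Nat.lt_succ_iff.1 h)
        · exact absurd (Nat.pow_le_pow_right (by norm_num : 1 ≤ 2) h) h4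
      have hV4 : Nat.card V ≤ 4 := hVU.trans (Nat.pow_le_pow_left hU2 2)
      refine LinearEquiv.ext fun v => ?_
      show ρ x v = v
      by_contra hv
      haveI : Fintype V := Fintype.ofFinite V
      have hsub : ({0, w0, v, v + w0, ρ x v} : Finset V).card ≤ 4 := by
        refine (Finset.card_le_univ _).trans ?_
        rwa [← Nat.card_eq_fintype_card]
      have h1 : v ≠ 0 := fun h => hv (by rw [h, map_zero])
      have h2 : v ≠ w0 := fun h => hv (by rw [h, hfix])
      have h3 : v + w0 ≠ 0 := fun h => h2 (by rw [eq_neg_of_add_eq_zero_left h, neg_two])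
      have h5 : ρ x v = v + w0 := by
        by_contra h6
        have h7 : ρ x v ≠ 0 := fun h => h1 (by simpa using congrArg (ρ x).symm h)
        have h8 : ρ x v ≠ w0 := fun h => h2 ((ρ x).injective (by rw [h, hfix]))
        have : ({0, w0, v, v + w0, ρ x v} : Finset V).card = 5 := by
          rw [Finset.card_insert_of_notMem, Finset.card_insert_of_notMem, Finset.card_insert_of_notMem,
            Finset.card_insert_of_notMem, Finset.card_singleton] <;>
            simp only [Finset.mem_insert, Finset.mem_singleton, not_or]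
          · exact Ne.symm h6
          · exact ⟨fun h => hw0 (by simpa using h.symm), Ne.symm hv⟩
          · exact ⟨Ne.symm h2, fun h => h1 (by simpa using h), Ne.symm h8⟩
          · exact ⟨Ne.symm hw0, Ne.symm h1, Ne.symm h3, Ne.symm h7⟩
        omega
      have hiter : ∀ i : ℕ, ((ρ x) ^ (2 * i)) v = v := by
        intro i
        induction i with
        | zero => rfl
        | succ i ih =>
          rw [Nat.mul_succ, pow_add, LinearEquiv.mul_apply, pow_two, LinearEquiv.mul_apply, h5, map_add,
            h5, hfix, add_assoc, add_self_zero, add_zero, ih]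
      obtain ⟨i, hi⟩ := hx
      have h9 : ((ρ x) ^ orderOf (ρ x)) v = v := by rw [pow_orderOf_eq_one]; rfl
      rw [hi, pow_succ', LinearEquiv.mul_apply, hiter] at h9
      exact hv h9
  -- Frobenius' condition at the prime two
  haveI : Finite (V ≃ₗ[ZMod 2] V) := Finite.of_injective _ DFunLike.coe_injective
  have hrperf : commutator ρ.range = ⊤ := by
    rw [commutator_def, ← Subgroup.map_top_of_surjective _ ρ.rangeRestrict_surjective,
      ← Subgroup.map_commutator]
    exact congrArg _ hperf
  have hF2 : CfsgLib.Transfer.FrobeniusCond 2 ρ.range := by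
    intro Q hQ g hg hcop
    rw [Subgroup.mem_centralizer_iff]
    intro r hr
    by_contra hne'
    have hr1 : r ≠ 1 := by rintro rfl; exact hne' (by rw [one_mul, mul_one])
    -- fixed vectors inside the commutator space
    let M : Submodule (ZMod 2) V :=
      Submodule.span (ZMod 2) {a | ∃ k ∈ Q, ∃ v, a = (k : V ≃ₗ[ZMod 2] V) v + v}
    have hMinv : ∀ k ∈ Q, ∀ a ∈ M, (k : V ≃ₗ[ZMod 2] V) a ∈ M := fun k hk a ha => by
      have h1 : (k : V ≃ₗ[ZMod 2] V) a + a ∈ M := Submodule.subset_span ⟨k, hk, a, rfl⟩
      have := M.add_mem h1 ha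
      rwa [add_assoc, add_self_zero, add_zero] at this
    letI : MulAction Q M :=
      { smul := fun k a => ⟨((k : ρ.range) : V ≃ₗ[ZMod 2] V) a, hMinv _ k.2 a a.2⟩
        one_smul := fun a => Subtype.ext rfl
        mul_smul := fun k l a => Subtype.ext rfl }
    obtain ⟨r', hr'⟩ : ∃ v, (r : V ≃ₗ[ZMod 2] V) v ≠ v := by
      by_contra h
      push Not at h
      exact hr1 (Subtype.ext (LinearEquiv.ext h))
    have hMne : (⟨(r : V ≃ₗ[ZMod 2] V) r' + r', Submodule.subset_span ⟨r, hr, r', rfl⟩⟩ : M) ≠ 0 := by
      intro h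
      apply hr'
      have h1 := congrArg Subtype.val h
      exact (eq_neg_of_add_eq_zero_left h1).trans (neg_two r')
    haveI : Nontrivial M := ⟨⟨_, _, hMne⟩⟩
    haveI : Fact (Nat.Prime 2) := ⟨Nat.prime_two⟩
    obtain ⟨a, ha, ha0⟩ := hQ.exists_fixed_point_of_prime_dvd_card_of_fixed_point M
      (by rw [Module.natCard_eq_pow_finrank (K := ZMod 2), Nat.card_zmod]
          exact dvd_pow_self 2 Module.finrank_pos.ne')
      (a := (0 : M)) (fun k => Subtype.ext (map_zero ((k : ρ.range) : V ≃ₗ[ZMod 2] V)))
    have haQ : ∀ k ∈ Q, (k : V ≃ₗ[ZMod 2] V) (a : V) = a := fun k hk =>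
      congrArg Subtype.val (ha ⟨k, hk⟩)
    have ha0' : (a : V) ≠ 0 := fun h => ha0 (Subtype.ext h.symm)
    -- fixed vectors are orthogonal to the commutator space
    have hperp : ∀ b : V, (∀ k ∈ Q, (k : V ≃ₗ[ZMod 2] V) b = b) → ∀ c ∈ M, polar q b c = 0 := by
      intro b hb c hc
      induction hc using Submodule.span_induction with
      | mem c hc =>
        obtain ⟨k, hk, v, rfl⟩ := hc
        obtain ⟨x, hx⟩ := k.2
        rw [polar_add_right hadd]
        conv_lhs => enter [1, 2]; rw [← hb k hk]
        rw [← hx, hBinv, add_self_zero]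
      | zero => rw [polar_comm, hsm0]
      | add y z _ _ hy hz' => rw [polar_add_right hadd, hy, hz', add_zero]
      | smul t y _ hy =>
        rcases zmod2_cases t with rfl | rfl
        · rw [zero_smul, polar_comm, hsm0]
        · rwa [one_smul]
    set b : V := (g : V ≃ₗ[ZMod 2] V) a with hb
    have hbQ : ∀ k ∈ Q, (k : V ≃ₗ[ZMod 2] V) b = b := by
      intro k hk
      have h1 : g⁻¹ * k * g ∈ Q := by
        have h3 := (Subgroup.mem_normalizer_iff.1 (inv_mem hg) k).1 hk
        rwa [inv_inv] at h3
      have h2 := haQ _ h1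
      have h3 : (k : V ≃ₗ[ZMod 2] V) b = (g : V ≃ₗ[ZMod 2] V) ((g⁻¹ * k * g : ρ.range).1 a) := by
        show _ = (g : V ≃ₗ[ZMod 2] V) (((g : V ≃ₗ[ZMod 2] V)⁻¹ * k * g) a)
        rw [← LinearEquiv.mul_apply (g : V ≃ₗ[ZMod 2] V) ((g : V ≃ₗ[ZMod 2] V)⁻¹ * k * g),
          show (g : V ≃ₗ[ZMod 2] V) * ((g : V ≃ₗ[ZMod 2] V)⁻¹ * k * g) = (k : V ≃ₗ[ZMod 2] V) * g by group,
          LinearEquiv.mul_apply]
      rw [h3, h2]
    have hab : polar q b a = 0 := hperp b hbQ a a.2
    obtain ⟨x, hx⟩ := g.2
    have hba : b = a := by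
      have h1 : q (b + (a : V)) = 0 := by
        rw [q_add q b a, hab, add_zero, hb, ← hx, hinv, add_self_zero]
      rw [eq_neg_of_add_eq_zero_left ((hz _).1 h1), neg_two]
    have hgo : Odd (orderOf (ρ x)) := by
      rw [hx, Subgroup.orderOf_coe]
      exact hcop.odd_of_right
    have h1 := hodd x hgo a ha0' (by rw [hx]; exact hba)
    rw [hx] at h1
    have hg1 : g = 1 := Subtype.ext h1
    exact hne' (by rw [hg1, mul_one, one_mul])
  haveI := subsingleton_of_frobeniusCond_two hrperf hF2
  exact hne (MonoidHom.ext fun x =>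
    congrArg Subtype.val (Subsingleton.elim (ρ.rangeRestrict x) 1))

end Irreducible

section Main

variable {X : Type w} [Group X] [Finite X]

/-- A perfect group preserving an anisotropic quadratic map acts trivially. -/
theorem eq_one_of_anisotropic (hperf : commutator X = ⊤) :
    ∀ (n : ℕ) {V U : Type u} [AddCommGroup V] [Module (ZMod 2) V] [Finite V] [AddCommGroup U]
      [Module (ZMod 2) U] [Finite U], Nat.card V ≤ n →
      ∀ (ρ : X →* (V ≃ₗ[ZMod 2] V)) (q : V → U), (∀ v, q v = 0 ↔ v = 0) →
      (∀ x y z, polar q (x + y) z = polar q x z + polar q y z) →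
      (∀ x v, q (ρ x v) = q v) → ρ = 1 := by
  intro n
  induction n with
  | zero =>
    intro V U _ _ _ _ _ _ h
    exact absurd h (by simpa using Nat.card_pos (α := V).ne')
  | succ n ih =>
    intro V U _ _ _ _ _ _ hn ρ q hz hadd hinv
    by_cases hFtop : fixSub ρ = ⊤
    · exact MonoidHom.ext fun x => LinearEquiv.ext fun v => (hFtop.ge Submodule.mem_top : v ∈ fixSub ρ) x
    have hsmall : ∀ W : Submodule (ZMod 2) V, W ≠ ⊤ → (∀ x, ∀ a ∈ W, ρ x a ∈ W) → W ≤ fixSub ρ := by
      intro W hW hWi
      let σ : X →* (W ≃ₗ[ZMod 2] W) :=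
        { toFun := fun x =>
            { toFun := fun a => ⟨ρ x a, hWi x a a.2⟩
              invFun := fun a => ⟨ρ x⁻¹ a, hWi x⁻¹ a a.2⟩
              map_add' := fun a b => Subtype.ext (map_add (ρ x) (a : V) b)
              map_smul' := fun c a => Subtype.ext (map_smul (ρ x) c (a : V))
              left_inv := fun a => Subtype.ext (by
                show ρ x⁻¹ (ρ x a) = a
                rw [← LinearEquiv.mul_apply, ← map_mul, inv_mul_cancel, map_one]; rfl)
              right_inv := fun a => Subtype.ext (by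
                show ρ x (ρ x⁻¹ a) = a
                rw [← LinearEquiv.mul_apply, ← map_mul, mul_inv_cancel, map_one]; rfl) }
          map_one' := LinearEquiv.ext fun a => Subtype.ext (by show ρ 1 (a : V) = a; rw [map_one]; rfl)
          map_mul' := fun x y => LinearEquiv.ext fun a => Subtype.ext (by
            show ρ (x * y) (a : V) = ρ x (ρ y a); rw [map_mul]; rfl) }
      have hlt : Nat.card W ≤ n := by
        have h1 : Nat.card W < Nat.card V :=
          lt_of_le_of_ne (Nat.card_le_card_of_injective _ Subtype.val_injective) fun h => hW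
            (Submodule.toAddSubgroup_injective (AddSubgroup.eq_top_of_card_eq W.toAddSubgroup h))
        omega
      have := ih hlt σ (fun a : W => q a) (fun a => (hz a).trans ⟨fun h => Subtype.ext h, congrArg Subtype.val⟩)
        (fun a b c => hadd a b c) (fun x a => hinv x a)
      intro a ha x
      exact congrArg Subtype.val (LinearEquiv.congr_fun (DFunLike.congr_fun this x) ⟨a, ha⟩)
    have hmove_fix : ∀ x v, v ∈ fixSub ρ → ∀ b, polar q v (ρ x b) = polar q v b := by
      intro x v hv b
      conv_lhs => rw [← hv x]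
      rw [polar, polar, ← map_add, hinv, hinv, hinv]
    by_cases hM : moveSub ρ = ⊤
    swap
    · exact eq_one_of_move_fixed ρ hperf fun x v =>
        hsmall _ hM (fun y a ha => moveSub_invariant ρ y ha) (Submodule.subset_span ⟨x, v, rfl⟩)
    by_cases hF : fixSub ρ = ⊥
    · let U0 := Submodule.span (ZMod 2) (Set.range q)
      let q0 : V → U0 := fun v => ⟨q v, Submodule.subset_span ⟨v, rfl⟩⟩
      refine eq_one_of_irreducible (q := q0) hperf
        (fun v => ⟨fun h => (hz v).1 (congrArg Subtype.val h), fun h => Subtype.ext ((hz v).2 h)⟩)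
        (fun a b c => Subtype.ext (hadd a b c)) (fun x v => Subtype.ext (hinv x v)) ?_
        (fun W hWi => ?_) hF
      · have : Set.range q0 = U0.subtype ⁻¹' Set.range q := by
          ext a
          exact ⟨fun ⟨v, hv⟩ => ⟨v, congrArg Subtype.val hv⟩, fun ⟨v, hv⟩ => ⟨v, Subtype.ext hv⟩⟩
        rw [this]
        exact Submodule.span_span_coe_preimage
      · by_cases hW : W = ⊤
        · exact Or.inr hW
        · exact Or.inl (le_bot_iff.1 (hF ▸ hsmall W hW hWi))
    -- the fixed space is in the radical
    set F := fixSub ρ with hFdef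
    have hrad : ∀ v ∈ F, ∀ b, polar q v b = 0 := by
      intro v hv b
      have hb : b ∈ moveSub ρ := hM ▸ Submodule.mem_top
      induction hb using Submodule.span_induction with
      | mem c hc =>
        obtain ⟨x, b', rfl⟩ := hc
        rw [polar_add_right hadd, hmove_fix x v hv, add_self_zero]
      | zero =>
        have := polar_add_right hadd v 0 0
        rw [add_zero] at this
        rw [this, add_self_zero]
      | add y z _ _ hy hz' => rw [polar_add_right hadd, hy, hz', add_zero]
      | smul t y _ hy =>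
        rcases zmod2_cases t with rfl | rfl
        · have := polar_add_right hadd v 0 0
          rw [add_zero] at this
          rw [zero_smul, this, add_self_zero]
        · rwa [one_smul]
    let qF : F →ₗ[ZMod 2] U := AddMonoidHom.toZModLinearMap 2
      (AddMonoidHom.mk' (fun a : F => q a) fun a b => by
        rw [Submodule.coe_add, q_add q, hrad a a.2, add_zero])
    let S := LinearMap.range qF
    let qb : V ⧸ F → U ⧸ S := Quotient.lift (fun v => S.mkQ (q v)) (fun a b hab => by
      have hab' : a - b ∈ F := (Submodule.quotientRel_def _).1 hab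
      rw [Submodule.mkQ_apply, Submodule.mkQ_apply, Submodule.Quotient.eq,
        show a = (a - b) + b by abel, q_add q, hrad _ hab', add_zero, add_sub_cancel_right]
      exact ⟨⟨a - b, hab'⟩, rfl⟩)
    have hqb : ∀ v, qb (F.mkQ v) = S.mkQ (q v) := fun v => rfl
    let σ : X →* ((V ⧸ F) ≃ₗ[ZMod 2] (V ⧸ F)) :=
      { toFun := fun x => Submodule.Quotient.equiv F F (ρ x) (le_antisymm
          (fun a ⟨b, hb, hab⟩ => by rw [← hab]; show ρ x b ∈ F; rw [hb x]; exact hb)
          (fun a ha => ⟨a, ha, ha x⟩))
        map_one' := LinearEquiv.ext fun v => by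
          obtain ⟨v, rfl⟩ := F.mkQ_surjective v
          show F.mkQ (ρ 1 v) = F.mkQ v
          rw [map_one]; rfl
        map_mul' := fun x y => LinearEquiv.ext fun v => by
          obtain ⟨v, rfl⟩ := F.mkQ_surjective v
          show F.mkQ (ρ (x * y) v) = F.mkQ (ρ x (ρ y v))
          rw [map_mul]; rfl }
    haveI : Finite (V ⧸ F) := Finite.of_surjective _ F.mkQ_surjective
    haveI : Finite (U ⧸ S) := Finite.of_surjective _ S.mkQ_surjective
    have hlt : Nat.card (V ⧸ F) ≤ n := by
      have h1 := Submodule.card_eq_card_quotient_mul_card F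
      have h2 : 1 < Nat.card F := by
        haveI := Submodule.nontrivial_iff_ne_bot.2 hF
        exact Finite.one_lt_card
      have h3 : 0 < Nat.card (V ⧸ F) := Nat.card_pos
      nlinarith
    have := ih hlt σ qb
      (fun v => by
        obtain ⟨v, rfl⟩ := F.mkQ_surjective v
        rw [hqb, Submodule.mkQ_apply, Submodule.mkQ_apply, Submodule.Quotient.mk_eq_zero,
          Submodule.Quotient.mk_eq_zero]
        constructor
        · rintro ⟨a, ha⟩
          have ha' : q (a : V) = q v := ha
          have h1 : q (v + a) = 0 := by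
            rw [q_add q, ha', polar_comm, hrad a a.2, add_zero, add_self_zero]
          rw [eq_neg_of_add_eq_zero_left ((hz _).1 h1)]
          exact F.neg_mem a.2
        · exact fun hv => ⟨⟨v, hv⟩, rfl⟩)
      (fun a b c => by
        obtain ⟨a, rfl⟩ := F.mkQ_surjective a
        obtain ⟨b, rfl⟩ := F.mkQ_surjective b
        obtain ⟨c, rfl⟩ := F.mkQ_surjective c
        simp only [polar, ← map_add, hqb]
        exact congrArg S.mkQ (hadd a b c))
      (fun x v => by
        obtain ⟨v, rfl⟩ := F.mkQ_surjective v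
        show qb (F.mkQ (ρ x v)) = qb (F.mkQ v)
        rw [hqb, hqb, hinv])
    refine eq_one_of_move_fixed ρ hperf fun x v => ?_
    have h1 : F.mkQ (ρ x v) = F.mkQ v := LinearEquiv.congr_fun (DFunLike.congr_fun this x) (F.mkQ v)
    rw [← Submodule.Quotient.mk_eq_zero, ← Submodule.mkQ_apply, map_add, h1]
    exact add_self_zero _

end Main

end CfsgLib.Homogeneous
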