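import Cfsg.Agent.Lib.TwoGroups.AnisotropicForm

/-!
# Anisotropic quadratic maps of maximal size

`q : V → U` anisotropic over two elements, `|V| = |U|²`, with polar form surjective at every
non-zero vector: the non-zero fibres have equal size, so an isometry of odd order with a non-zero
fixed vector is trivial.
-/

set_option autoImplicit false
set_option linter.style.haveILetI false

namespace CfsgLib.Homogeneous

open Finset CfsgLib.AnisotropicForm
open scoped Classical

/-- The polar form. -/
def polar {V U : Type*} [Add V] [Add U] (q : V → U) (x y : V) : U := q (x + y) + q x + q y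

theorem add_self_zero {M : Type*} [AddCommGroup M] [Module (ZMod 2) M] (m : M) : m + m = 0 := by
  rw [← two_smul (ZMod 2) m, show (2 : ZMod 2) = 0 from rfl, zero_smul]

variable {V U : Type*} [AddCommGroup V] [Module (ZMod 2) V] [Finite V]
  [AddCommGroup U] [Module (ZMod 2) U] [Finite U]

theorem isometry_eq_one_of_nondegenerate (q : V → U) (hz : ∀ v, q v = 0 ↔ v = 0)
    (hadd : ∀ x y z, polar q (x + y) z = polar q x z + polar q y z)
    (hnd : ∀ d, d ≠ 0 → ∀ u, ∃ c, polar q c d = u) (hcard : Nat.card V = Nat.card U ^ 2)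
    (h4 : 4 ≤ Nat.card U) (l : V ≃ₗ[ZMod 2] V) (hl : ∀ v, q (l v) = q v) {k : ℕ} (hk : Odd k)
    (hlk : l ^ k = 1) {w0 : V} (hw0 : w0 ≠ 0) (hfix : l w0 = w0) : l = 1 := by
  haveI : Fintype (Multiplicative U) := Fintype.ofFinite _
  haveI : Fintype (Multiplicative V) := Fintype.ofFinite _
  let q' : Multiplicative V → Multiplicative U := fun w => Multiplicative.ofAdd (q w.toAdd)
  have hV : ∀ v : Multiplicative U, v * v = 1 := fun v => congrArg Multiplicative.ofAdd (add_self_zero v.toAdd)
  have hW : ∀ w : Multiplicative V, w * w = 1 := fun v => congrArg Multiplicative.ofAdd (add_self_zero v.toAdd)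
  have hB : ∀ a b d : Multiplicative V, q' (a * b * d) * q' (a * b) * q' d =
      (q' (a * d) * q' a * q' d) * (q' (b * d) * q' b * q' d) := fun a b d =>
    congrArg Multiplicative.ofAdd (hadd a.toAdd b.toAdd d.toAdd)
  have hzero : ∀ w, q' w = 1 ↔ w = 1 := fun w => hz w.toAdd
  have hcW : (Fintype.card (Multiplicative V) : ℤ) = (Nat.card U : ℤ) ^ 2 := by
    rw [← Nat.card_eq_fintype_card, Nat.card_congr Multiplicative.toAdd, hcard]
    push_cast; rfl
  have hcU : (Fintype.card (Multiplicative U) : ℤ) = (Nat.card U : ℤ) := by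
    rw [← Nat.card_eq_fintype_card, Nat.card_congr Multiplicative.toAdd]
  set N : ℤ := (Nat.card U : ℤ) with hN
  have hN0 : N ≠ 0 := by
    rw [hN]; exact_mod_cast (show Nat.card U ≠ 0 by omega)
  -- the square of each non-trivial sum
  have hgs : ∀ ψ : AddChar (Additive (Multiplicative U)) ℂ, ψ ≠ 0 →
      gsum ψ q' * gsum ψ q' = N ^ 2 := by
    intro ψ hψ
    have h1 : gsum ψ q' * gsum ψ q'
        = ∑ d, sgn ψ (q' d) * ∑ c, sgn ψ (q' (c * d) * q' c * q' d) := by
      calc gsum ψ q' * gsum ψ q' = ∑ c, ∑ d, sgn ψ (q' c) * sgn ψ (q' (c * d)) := by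
            rw [gsum, Finset.sum_mul]
            refine Finset.sum_congr rfl fun c _ => ?_
            rw [Finset.mul_sum]
            exact (Fintype.sum_equiv (Equiv.mulLeft c) _ _ fun d => rfl).symm
        _ = ∑ d, ∑ c, sgn ψ (q' c) * sgn ψ (q' (c * d)) := Finset.sum_comm
        _ = _ := by
            refine Finset.sum_congr rfl fun d _ => ?_
            rw [Finset.mul_sum]
            refine Finset.sum_congr rfl fun c _ => ?_
            rw [sgn_mul hV, sgn_mul hV]
            linear_combination (-(sgn ψ (q' c) * sgn ψ (q' (c * d)))) * sgn_sq ψ (q' d)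
    have h0 : ∀ d : Multiplicative V, d ≠ 1 →
        ∑ c, sgn ψ (q' (c * d) * q' c * q' d) = 0 := by
      intro d hd
      obtain ⟨u, hu⟩ := exists_sgn_ne_one hψ
      obtain ⟨e, he⟩ := hnd d.toAdd (fun h => hd h) u.toAdd
      have he' : q' (Multiplicative.ofAdd e * d) * q' (Multiplicative.ofAdd e) * q' d = u :=
        congrArg Multiplicative.ofAdd he
      have hstep : sgn ψ u * ∑ c, sgn ψ (q' (c * d) * q' c * q' d)
          = ∑ c, sgn ψ (q' (c * d) * q' c * q' d) := by
        rw [Finset.mul_sum]
        refine Fintype.sum_equiv (Equiv.mulLeft (Multiplicative.ofAdd e)) _ _ fun c => ?_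
        rw [← sgn_mul hV, Equiv.coe_mulLeft, hB, he']
      have h2 : (sgn ψ u - 1) * ∑ c, sgn ψ (q' (c * d) * q' c * q' d) = 0 := by
        rw [sub_mul, one_mul, hstep, sub_self]
      exact (mul_eq_zero.1 h2).resolve_left (sub_ne_zero.2 hu)
    rw [h1, Finset.sum_eq_single (1 : Multiplicative V)]
    · have hq1 : q' 1 = 1 := (hzero 1).2 rfl
      rw [hq1, sgn_one, one_mul, ← hcW, ← Finset.card_univ, Finset.card_eq_sum_ones]
      push_cast
      refine Finset.sum_congr rfl fun c _ => ?_
      rw [mul_one c, mul_one, hV, sgn_one]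
    · intro d _ hd
      rw [h0 d hd, mul_zero]
    · simp
  have hpm : ∀ ψ : AddChar (Additive (Multiplicative U)) ℂ, ψ ≠ 0 →
      gsum ψ q' = N ∨ gsum ψ q' = -N := fun ψ hψ =>
    mul_self_eq_mul_self_iff.1 (by rw [hgs ψ hψ, sq])
  have hnsum : ∀ v, ∑ ψ : AddChar (Additive (Multiplicative U)) ℂ, sgn ψ v
      = if v = 1 then N else 0 := by
    intro v
    apply @Int.cast_injective ℂ
    push_cast [apply_ite]
    simp only [sgn_cast hV, AddChar.sum_apply_eq_ite]
    rw [hN, ← Nat.card_congr (Additive.toMul.trans Multiplicative.toAdd) (α := Additive (Multiplicative U)),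
      Nat.card_eq_fintype_card]
    rcases eq_or_ne v 1 with rfl | hv
    · simp
    · rw [if_neg hv, if_neg]
      simpa using hv
  have htot : ∀ v, ∑ ψ : AddChar (Additive (Multiplicative U)) ℂ, sgn ψ v * gsum ψ q'
      = N * ((univ.filter fun w => q' w = v).card : ℤ) := by
    intro v
    calc ∑ ψ : AddChar (Additive (Multiplicative U)) ℂ, sgn ψ v * gsum ψ q'
        = ∑ w, ∑ ψ : AddChar (Additive (Multiplicative U)) ℂ, sgn ψ (v * q' w) := by
          rw [Finset.sum_comm]
          refine Finset.sum_congr rfl fun ψ _ => ?_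
          rw [gsum, Finset.mul_sum]
          exact Finset.sum_congr rfl fun w _ => (sgn_mul hV ψ v (q' w)).symm
      _ = ∑ w, if q' w = v then N else 0 := by
          refine Finset.sum_congr rfl fun w _ => ?_
          rw [hnsum]
          refine if_congr ?_ rfl rfl
          rw [mul_eq_one_iff_eq_inv, show (q' w)⁻¹ = q' w from inv_eq_of_mul_eq_one_right (hV _)]
          exact eq_comm
      _ = _ := by rw [← Finset.sum_filter, Finset.sum_const, nsmul_eq_mul, mul_comm]
  have hg0 : gsum (0 : AddChar (Additive (Multiplicative U)) ℂ) q' = N ^ 2 := by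
    rw [← hcW]; simp [gsum, sgn]
  -- every non-trivial sum is `-N`
  have hneg : ∀ ψ : AddChar (Additive (Multiplicative U)) ℂ, ψ ≠ 0 → gsum ψ q' = -N := by
    have h1 := htot 1
    have h11 : ((univ.filter fun w => q' w = 1).card : ℤ) = 1 := by
      have : (univ.filter fun w => q' w = 1) = {1} := by ext w; simp [hzero]
      rw [this]; simp
    rw [h11, mul_one] at h1
    simp only [sgn_one, one_mul] at h1
    rw [← Finset.add_sum_erase univ _ (mem_univ (0 : AddChar (Additive (Multiplicative U)) ℂ)), hg0]
      at h1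
    have h2 : ∑ ψ ∈ univ.erase (0 : AddChar (Additive (Multiplicative U)) ℂ), (gsum ψ q' + N) = 0 := by
      rw [Finset.sum_add_distrib, Finset.sum_const, Finset.card_erase_of_mem (mem_univ _),
        Finset.card_univ, AddChar.card_eq, Fintype.card_additive, nsmul_eq_mul,
        Nat.cast_sub Fintype.card_pos, hcU]
      push_cast
      linear_combination h1
    intro ψ hψ
    by_contra hne
    have hnn : ∀ φ ∈ univ.erase (0 : AddChar (Additive (Multiplicative U)) ℂ), 0 ≤ gsum φ q' + N := by
      intro φ hφ
      have hNn : 0 ≤ N := by rw [hN]; positivity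
      rcases hpm φ (Finset.ne_of_mem_erase hφ) with h | h <;> rw [h] <;> linarith
    have h3 := (Finset.sum_eq_zero_iff_of_nonneg hnn).1 h2 ψ (Finset.mem_erase.2 ⟨hψ, mem_univ _⟩)
    exact hne (eq_neg_of_add_eq_zero_left h3)
  have hfib : ∀ v, v ≠ 1 → ((univ.filter fun w => q' w = v).card : ℤ) = N + 1 := by
    intro v hv
    have h1 := htot v
    have h2 := hnsum v
    rw [if_neg hv] at h2
    rw [← Finset.add_sum_erase univ _ (mem_univ (0 : AddChar (Additive (Multiplicative U)) ℂ)), hg0]
      at h1
    rw [← Finset.add_sum_erase univ _ (mem_univ (0 : AddChar (Additive (Multiplicative U)) ℂ))] at h2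
    rw [Finset.sum_congr rfl (fun ψ hψ => by rw [hneg ψ (Finset.ne_of_mem_erase hψ)]),
      ← Finset.sum_mul] at h1
    have h0 : sgn (0 : AddChar (Additive (Multiplicative U)) ℂ) v = 1 := by simp [sgn]
    rw [h0] at h1 h2
    exact mul_left_cancel₀ hN0 (by linear_combination -h1 + (-N) * h2)
  let L : MulAut (Multiplicative V) := AddEquiv.toMultiplicative l.toAddEquiv
  have hLp : ∀ j : ℕ, ∀ w : Multiplicative V, (L ^ j) w = Multiplicative.ofAdd ((l ^ j) w.toAdd) := by
    intro j
    induction j with
    | zero => intro w; rfl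
    | succ j ih =>
      intro w
      rw [pow_succ, MulAut.mul_apply, ih, pow_succ]
      rfl
  have hL := isometry_eq_one (V := Multiplicative U) (W := Multiplicative V) hV hW
    (by rw [← Nat.card_eq_fintype_card, Nat.card_congr Multiplicative.toAdd]; exact h4)
    q' hzero hB
    (fun v => by
      rcases eq_or_ne v 1 with rfl | hv
      · exact ⟨1, (hzero 1).2 rfl⟩
      · have h1 := hfib v hv
        have : (univ.filter fun w => q' w = v).Nonempty := by
          rw [← Finset.card_pos]
          have : 0 < N := lt_of_le_of_ne (by rw [hN]; positivity) hN0.symm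
          omega
        obtain ⟨w, hw⟩ := this
        exact ⟨w, (Finset.mem_filter.1 hw).2⟩)
    (fun u v hu hv => by exact_mod_cast (hfib u hu).trans (hfib v hv).symm)
    L (fun w => congrArg Multiplicative.ofAdd (hl w.toAdd)) hk
    (MulEquiv.ext fun w => by rw [hLp, hlk]; rfl) (w0 := Multiplicative.ofAdd w0)
    (fun h => hw0 h) (congrArg Multiplicative.ofAdd hfix)
  exact LinearEquiv.ext fun v => congrArg (fun e : MulAut (Multiplicative V) => (e (Multiplicative.ofAdd v)).toAdd) hL

end CfsgLib.Homogeneous
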