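import Mathlib

/-!
# Homogeneous finite groups: first consequences

Every isomorphism between two subgroups extends to an automorphism of the group. A characteristic
subgroup therefore contains all elements of an order it meets, and the automorphisms that a
characteristic subgroup induces by conjugation on any subgroup `U` form a normal subgroup of
`MulAut U`.
-/

set_option autoImplicit false

namespace CfsgLib.Homogeneous

universe u

/-- Every isomorphism between two subgroups is induced by an automorphism. -/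
def Hom (G : Type u) [Group G] : Prop :=
  ∀ (A B : Subgroup G) (e : ↥A ≃* ↥B), ∃ φ : G ≃* G, ∀ a : ↥A, φ (a : G) = (e a : G)

variable {G : Type u} [Group G]

theorem map_mem_of_char {N : Subgroup G} [hN : N.Characteristic] (φ : G ≃* G) {x : G} (hx : x ∈ N) :
    φ x ∈ N := by
  have h := Subgroup.characteristic_iff_map_eq.1 hN φ
  rw [← h]
  exact Subgroup.mem_map_of_mem _ hx

theorem map_mem_iff_of_char {N : Subgroup G} [hN : N.Characteristic] (φ : G ≃* G) {x : G} :
    φ x ∈ N ↔ x ∈ N :=
  ⟨fun h => by simpa using map_mem_of_char φ.symm h, map_mem_of_char φ⟩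

/-- An automorphism of a subgroup extends. -/
theorem Hom.exists_extension (hG : Hom G) {U : Subgroup G} (e : MulAut U) :
    ∃ φ : G ≃* G, ∀ u : U, φ (u : G) = (e u : G) :=
  hG U U e

/-- Two elements of the same order are related by an automorphism. -/
theorem Hom.exists_map_eq [Finite G] (hG : Hom G) {x y : G} (h : orderOf x = orderOf y) :
    ∃ φ : G ≃* G, φ x = y := by
  let f : Multiplicative (ZMod (orderOf x)) ≃* Subgroup.zpowers x :=
    zmodMulEquivOfGenerator (g := (⟨x, Subgroup.mem_zpowers x⟩ : Subgroup.zpowers x))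
      (fun z => by
        obtain ⟨z, k, rfl⟩ := z
        exact ⟨k, by ext; simp⟩) (Nat.card_zpowers x)
  let g : Multiplicative (ZMod (orderOf x)) ≃* Subgroup.zpowers y :=
    zmodMulEquivOfGenerator (g := (⟨y, Subgroup.mem_zpowers y⟩ : Subgroup.zpowers y))
      (fun z => by
        obtain ⟨z, k, rfl⟩ := z
        exact ⟨k, by ext; simp⟩) (by rw [Nat.card_zpowers, h])
  obtain ⟨φ, hφ⟩ := hG _ _ (f.symm.trans g)
  refine ⟨φ, ?_⟩
  have hf : f (Multiplicative.ofAdd 1) = ⟨x, Subgroup.mem_zpowers x⟩ := by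
    simp [f]
  have hg : g (Multiplicative.ofAdd 1) = ⟨y, Subgroup.mem_zpowers y⟩ := by
    simp [g]
  have h1 := hφ ⟨x, Subgroup.mem_zpowers x⟩
  rw [MulEquiv.trans_apply, ← hf, MulEquiv.symm_apply_apply, hg, hf] at h1
  exact h1

/-- A characteristic subgroup contains every element of an order it meets. -/
theorem Hom.mem_of_orderOf_eq [Finite G] (hG : Hom G) {N : Subgroup G} [N.Characteristic] {x y : G}
    (hx : x ∈ N) (h : orderOf x = orderOf y) : y ∈ N := by
  obtain ⟨φ, rfl⟩ := hG.exists_map_eq h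
  exact map_mem_of_char φ hx

/-- The automorphisms of `U` induced by conjugation with elements of `H`. -/
def autImg (H U : Subgroup G) : Subgroup (MulAut U) where
  carrier := {e | ∃ g ∈ H, ∀ u : U, (e u : G) = g * u * g⁻¹}
  one_mem' := ⟨1, H.one_mem, fun u => by simp⟩
  mul_mem' := by
    rintro a b ⟨g, hg, hga⟩ ⟨k, hk, hkb⟩
    refine ⟨g * k, H.mul_mem hg hk, fun u => ?_⟩
    rw [MulAut.mul_apply, hga, hkb]
    group
  inv_mem' := by
    rintro a ⟨g, hg, hga⟩
    refine ⟨g⁻¹, H.inv_mem hg, fun u => ?_⟩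
    have h1 := hga (a⁻¹ u)
    rw [MulAut.apply_inv_self] at h1
    rw [h1]
    group

theorem mem_autImg {H U : Subgroup G} {e : MulAut U} :
    e ∈ autImg H U ↔ ∃ g ∈ H, ∀ u : U, (e u : G) = g * u * g⁻¹ :=
  Iff.rfl

theorem autImg_mono {H K : Subgroup G} (h : H ≤ K) (U : Subgroup G) : autImg H U ≤ autImg K U :=
  fun _ ⟨g, hg, he⟩ => ⟨g, h hg, he⟩

/-- Conjugation by an element of the normaliser as an automorphism of `U`. -/
noncomputable def conjOn {U : Subgroup G} {g : G} (hg : g ∈ Subgroup.normalizer (U : Set G)) :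
    MulAut U :=
  Subgroup.normalizerMonoidHom U ⟨g, hg⟩

theorem conjOn_apply {U : Subgroup G} {g : G} (hg : g ∈ Subgroup.normalizer (U : Set G)) (u : U) :
    (conjOn hg u : G) = g * u * g⁻¹ := rfl

theorem conjOn_mem_autImg {H U : Subgroup G} {g : G} (hH : g ∈ H)
    (hg : g ∈ Subgroup.normalizer (U : Set G)) : conjOn hg ∈ autImg H U :=
  ⟨g, hH, fun _ => rfl⟩

theorem conjOn_eq_one_iff {U : Subgroup G} {g : G} (hg : g ∈ Subgroup.normalizer (U : Set G)) :
    conjOn hg = 1 ↔ g ∈ Subgroup.centralizer (U : Set G) := by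
  constructor
  · intro h u hu
    have h1 := conjOn_apply hg ⟨u, hu⟩
    rw [h] at h1
    change u = g * u * g⁻¹ at h1
    exact eq_mul_inv_iff_mul_eq.1 h1
  · intro h
    ext u
    rw [conjOn_apply, MulAut.one_apply]
    have h1 := Subgroup.mem_centralizer_iff.1 h u u.2
    rw [← h1]
    group

theorem mem_normalizer_of_autImg [Finite G] {U : Subgroup G} {g : G} {e : MulAut U}
    (he : ∀ u : U, (e u : G) = g * u * g⁻¹) : g ∈ Subgroup.normalizer (U : Set G) :=
  Subgroup.mem_normalizer_fintype fun n hn => by rw [← he ⟨n, hn⟩]; exact (e ⟨n, hn⟩).2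

/-- The induced automorphisms are normal among all automorphisms of `U`. -/
theorem Hom.autImg_normal (hG : Hom G) (H U : Subgroup G) [H.Characteristic] :
    (autImg H U).Normal := by
  constructor
  rintro e ⟨g, hg, he⟩ a
  obtain ⟨φ, hφ⟩ := hG.exists_extension a
  refine ⟨φ g, map_mem_of_char φ hg, fun u => ?_⟩
  rw [MulAut.mul_apply, MulAut.mul_apply, ← hφ, he, map_mul, map_mul, map_inv]
  congr 2
  rw [hφ, MulAut.apply_inv_self]

end CfsgLib.Homogeneous
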