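import Cfsg.Agent.Lib.Homogeneous.FixSylow
import Cfsg.Agent.Lib.Coprime.Action
import Cfsg.Agent.Lib.InvChar.Kazarin
import Cfsg.Agent.Lib.Components.Basic
import Mathlib

/-!
# The coprime part centralises the component

The centraliser in `L` of an element of order a power of a prime not dividing `|L|` has index a power of
two, so by Kazarin's theorem the element is in the solvable radical of `L⟨h⟩`, hence centralises `L`.
-/

set_option autoImplicit false
set_option linter.unusedSectionVars false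
set_option linter.style.haveILetI false

namespace CfsgLib.Homogeneous

universe u

variable {G : Type u} [Group G] [Finite G]

/-- Step 7. -/
theorem mem_centralizer_of_coprime (hG : Hom G) {L : Subgroup G} [L.Characteristic]
    [Group.IsSolvable (G ⧸ L)] (hq : Cfsg.IsQuasisimple L) (h2 : 2 ∣ Nat.card L)
    (hidx : (Nat.card L).Coprime L.index) {r : ℕ} [Fact r.Prime] (hr : ¬ r ∣ Nat.card L) {h : G} {k : ℕ}
    (hk : orderOf h = r ^ k) : h ∈ Subgroup.centralizer (L : Set G) := by
  classical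
  have hr2 : r ≠ 2 := fun e => hr (e ▸ h2)
  have hcopL : (Nat.card (Subgroup.zpowers h)).Coprime (Nat.card L) := by
    rw [Nat.card_zpowers, hk]
    exact Nat.Coprime.pow_left _ (((Fact.out : r.Prime).coprime_iff_not_dvd).2 hr)
  have hLn : Subgroup.zpowers h ≤ Subgroup.normalizer (L : Set G) :=
    fun x _ => Subgroup.le_normalizer_of_normal (Subgroup.mem_top x)
  -- the index of the centraliser in `L` is a power of two
  set C := Subgroup.centralizer ({h} : Set G) with hC
  have hd0 : C.relIndex L ≠ 0 := Subgroup.index_ne_zero_of_finite (H := C.subgroupOf L)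
  have hdL : C.relIndex L ∣ Nat.card L := Subgroup.relIndex_dvd_card _ _
  obtain ⟨e, he⟩ : ∃ e, C.relIndex L ∣ 2 ^ e := by
    refine ⟨(C.relIndex L).primeFactorsList.length, dvd_of_eq (Nat.eq_prime_pow_of_unique_prime_dvd hd0 ?_)⟩
    intro p hp hpd
    by_contra hp2
    haveI : Fact p.Prime := ⟨hp⟩
    have hpL : p ∣ Nat.card L := hpd.trans hdL
    have hpi : ¬ p ∣ L.index := fun h' => hp.not_dvd_one (hidx ▸ Nat.dvd_gcd hpL h')
    obtain ⟨S, hS⟩ := CfsgLib.Coprime.exists_invariant_sylow (Subgroup.zpowers h) L hLn hcopL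
      (Or.inl inferInstance) p
    have hfix := fixes_sylow hG hp2 hpL hpi hr hr2 hk S hS
    have hle : (S : Subgroup L) ≤ C.subgroupOf L := fun x hx =>
      Subgroup.mem_centralizer_singleton_iff.2 (hfix (x : G) ⟨x, hx, rfl⟩).eq.symm
    exact S.not_dvd_index (hpd.trans (Subgroup.index_dvd_of_le hle))
  -- Kazarin in `L⟨h⟩`
  set Y := L ⊔ Subgroup.zpowers h with hY
  have hLY : L ≤ Y := le_sup_left
  let hh : Y := ⟨h, Subgroup.mem_sup_right (Subgroup.mem_zpowers h)⟩
  set C' := Subgroup.centralizer ({hh} : Set Y) with hC'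
  have hCC : C' = C.subgroupOf Y := by
    ext y
    rw [Subgroup.mem_subgroupOf, hC', hC, Subgroup.mem_centralizer_singleton_iff,
      Subgroup.mem_centralizer_singleton_iff]
    exact Subtype.ext_iff
  have htop : C' ⊔ L.subgroupOf Y = ⊤ := by
    refine eq_top_iff.2 fun y _ => ?_
    have hy : (y : G) ∈ (L ⊔ Subgroup.zpowers h : Subgroup G) := y.2
    obtain ⟨l, hl, z, hz, e'⟩ := Subgroup.mem_sup_of_normal_left.1 hy
    have h1 : (⟨l, hLY hl⟩ : Y) * ⟨z, Subgroup.mem_sup_right hz⟩ = y := Subtype.ext e'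
    rw [← h1]
    refine Subgroup.mul_mem _ (Subgroup.mem_sup_right hl) (Subgroup.mem_sup_left ?_)
    rw [hCC]
    refine Subgroup.mem_centralizer_singleton_iff.2 ?_
    obtain ⟨a, rfl⟩ := hz
    exact (Commute.self_zpow h a).eq.symm
  have hcl : C'.index ∣ 2 ^ e := by
    rw [← Subgroup.relIndex_top_right, ← htop, CfsgLib.InvChar.relIndex_eq_relIndex_sup, hCC,
      Subgroup.relIndex_subgroupOf hLY]
    exact he
  have hrad : hh ∈ Cfsg.solvableRadical Y :=
    CfsgLib.InvChar.mem_solvableRadical_of_class Nat.prime_two hh hcl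
  haveI := CfsgLib.Structure.solvableRadical_normal (G := Y)
  set R := Cfsg.solvableRadical Y with hR
  have hRs : Group.IsSolvable R := CfsgLib.Structure.isSolvable_solvableRadical
  let R0 : Subgroup L := R.comap (Subgroup.inclusion hLY)
  have hR0 : R0 ≠ ⊤ := by
    intro h'
    haveI := hRs
    have hsL : Group.IsSolvable L := Group.isSolvable_of_isSolvable_injective
      (f := (Subgroup.inclusion hLY).codRestrict R (fun x => (h'.ge (Subgroup.mem_top x) : x ∈ R0)))
      fun a b e' => Subtype.ext (congrArg (fun v : R => ((v : Y) : G)) e')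
    have hb := eq_bot_of_perfect_solvable (⊤ : Subgroup L)
      (by rw [← commutator_def]; exact CfsgLib.Components.quasisimple_commutator_eq_top hq)
      (Group.isSolvable_of_isSolvable_injective (f := (⊤ : Subgroup L).subtype) Subtype.val_injective)
    haveI := CfsgLib.Components.quasisimple_nontrivial hq
    exact bot_ne_top hb.symm
  have hR0c : R0 ≤ Subgroup.center L :=
    (CfsgLib.Components.quasisimple_normal_eq_top_or_le_center hq R0).resolve_left hR0
  have hdiff : ∀ x : L, (⟨h * x * h⁻¹ * (x : G)⁻¹, mul_mem ((inferInstance : L.Normal).conj_mem x x.2 h)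
      (inv_mem x.2)⟩ : L) ∈ Subgroup.center L := fun x => hR0c (by
    show (⟨h * x * h⁻¹ * (x : G)⁻¹, _⟩ : Y) ∈ R
    have h1 : hh * (⟨x, hLY x.2⟩ * hh⁻¹ * (⟨x, hLY x.2⟩ : Y)⁻¹) ∈ R :=
      R.mul_mem hrad ((inferInstance : R.Normal).conj_mem _ (R.inv_mem hrad) _)
    convert h1 using 1
    exact Subtype.ext (by simp [hh, mul_assoc]))
  letI iC : CommGroup (Subgroup.center L) :=
    { (inferInstance : Group (Subgroup.center L)) with
      mul_comm := fun u w => Subtype.ext (Subgroup.mem_center_iff.1 w.2 u) }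
  let ψ : L →* Subgroup.center L := MonoidHom.mk' (fun x => ⟨_, hdiff x⟩) fun x y => by
    refine Subtype.ext (Subtype.ext ?_)
    have hc := congrArg (fun v : L => (v : G)) (Subgroup.mem_center_iff.1 (hdiff y) x)
    simp only [Subgroup.coe_mul] at hc ⊢
    calc h * ((x : G) * y) * h⁻¹ * ((x : G) * y)⁻¹
        = h * x * h⁻¹ * (h * y * h⁻¹ * (y : G)⁻¹) * (x : G)⁻¹ := by group
      _ = h * x * h⁻¹ * (x : G)⁻¹ * ((x : G) * (h * y * h⁻¹ * (y : G)⁻¹)) * (x : G)⁻¹ := by group
      _ = h * x * h⁻¹ * (x : G)⁻¹ * (h * y * h⁻¹ * (y : G)⁻¹ * x) * (x : G)⁻¹ := by rw [hc]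
      _ = h * x * h⁻¹ * (x : G)⁻¹ * (h * y * h⁻¹ * (y : G)⁻¹) := by group
  refine Subgroup.mem_centralizer_iff.2 fun x hx => ?_
  have h1 : (⟨x, hx⟩ : L) ∈ ψ.ker := by
    refine Abelianization.commutator_subset_ker ψ ?_
    rw [CfsgLib.Components.quasisimple_commutator_eq_top hq]
    exact Subgroup.mem_top _
  have h2 : h * x * h⁻¹ * x⁻¹ = 1 :=
    congrArg (fun v : Subgroup.center L => ((v : L) : G)) (MonoidHom.mem_ker.1 h1)
  exact (mul_inv_eq_iff_eq_mul.1 (mul_inv_eq_one.1 h2)).symm

end CfsgLib.Homogeneous
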