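import Cfsg.Agent.Lib.PGroup.Class2
import Mathlib

/-!
# The commutator form on the quotient by the centre

For a group of class at most two and exponent `p` the quotient by the centre is an `F_p`-space, the
automorphisms act on it and the commutator is a bilinear map.
-/

set_option autoImplicit false
set_option linter.unusedSectionVars false
set_option linter.style.haveILetI false

namespace CfsgLib.Homogeneous

open scoped commutatorElement
open Subgroup (center)

universe u

/-- The data attached to a class two group of exponent `p`. -/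
def HasCentreForm (p : ℕ) (X : Type u) [Group X] : Prop :=
  ∃ (V U : Type u) (_ : AddCommGroup V) (_ : Module (ZMod p) V) (_ : Finite V) (_ : AddCommGroup U)
    (_ : Module (ZMod p) U) (q : X → V) (act : MulAut X →* (V ≃ₗ[ZMod p] V))
    (b : V →ₗ[ZMod p] V →ₗ[ZMod p] U),
    (∀ x y, q (x * y) = q x + q y) ∧ Function.Surjective q ∧ (∀ x, q x = 0 ↔ x ∈ center X) ∧
      (∀ φ x, act φ (q x) = q (φ x)) ∧
      ∀ x y x' y', b (q x) (q y) = b (q x') (q y') ↔ ⁅x, y⁆ = ⁅x', y'⁆

theorem hasCentreForm_aux {p : ℕ} {X : Type u} [Group X] [Finite X] {V U : Type u} [AddCommGroup V]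
    [Module (ZMod p) V] [AddCommGroup U] [Module (ZMod p) U] (q : X → V)
    (hq : ∀ x y, q (x * y) = q x + q y) (hqs : Function.Surjective q)
    (hker : ∀ x, q x = 0 ↔ x ∈ center X) (ι : X → U) (hι : ∀ x ∈ center X, ∀ y ∈ center X, ι (x * y) = ι x + ι y)
    (hιi : ∀ x ∈ center X, ∀ y ∈ center X, ι x = ι y → x = y)
    (hcc : ∀ x y : X, ⁅x, y⁆ ∈ center X) : HasCentreForm p X := by
  have hq0 : ∀ x, q x⁻¹ = - q x := fun x => by
    have h := hq x⁻¹ x
    rw [inv_mul_cancel, (hker 1).2 (one_mem _)] at h
    exact eq_neg_of_add_eq_zero_left h.symm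
  have hdiff : ∀ x x', q x = q x' → x'⁻¹ * x ∈ center X := fun x x' e =>
    (hker _).1 (by rw [hq, hq0, e, neg_add_cancel])
  let sect : V → X := Function.surjInv hqs
  have hsect : ∀ v, q (sect v) = v := Function.surjInv_eq hqs
  let c : X → X → U := fun x y => ι ⁅x, y⁆
  have hcl : ∀ x y z, c (x * y) z = c x z + c y z := fun x y z => by
    show ι _ = ι _ + ι _
    rw [CfsgLib.PGroup.commutatorElement_mul_left_of_central x y z (hcc y z), hι _ (hcc x z) _ (hcc y z)]
  have hcr : ∀ x y z, c x (y * z) = c x y + c x z := fun x y z => by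
    show ι _ = ι _ + ι _
    rw [CfsgLib.PGroup.commutatorElement_mul_right_of_central x y z (hcc x z), hι _ (hcc x y) _ (hcc x z)]
  have hι1 : ι 1 = 0 := by
    have := hι 1 (one_mem _) 1 (one_mem _)
    rw [one_mul, left_eq_add] at this
    exact this
  have hwd : ∀ x x' y y', q x = q x' → q y = q y' → c x y = c x' y' := by
    intro x x' y y' e1 e2
    have h1 : ∀ z y, z ∈ center X → c z y = 0 := fun z y hz => by
      show ι _ = 0
      rw [commutatorElement_eq_one_iff_mul_comm.2 (Subgroup.mem_center_iff.1 hz y).symm, hι1]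
    have h2 : ∀ z y, z ∈ center X → c y z = 0 := fun z y hz => by
      show ι _ = 0
      rw [commutatorElement_eq_one_iff_mul_comm.2 (Subgroup.mem_center_iff.1 hz y), hι1]
    conv_lhs => rw [← mul_inv_cancel_left x' x, ← mul_inv_cancel_left y' y]
    rw [hcl, h1 _ _ (hdiff x x' e1), add_zero, hcr, h2 _ _ (hdiff y y' e2), add_zero]
  let b0 : V →+ V →+ U := AddMonoidHom.mk'
    (fun u => AddMonoidHom.mk' (fun w => c (sect u) (sect w)) fun w w' => by
      rw [← hcr]; exact hwd _ _ _ _ rfl (by rw [hq, hsect, hsect, hsect]))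
    fun u u' => AddMonoidHom.ext fun w => by
      show c (sect (u + u')) (sect w) = c (sect u) (sect w) + c (sect u') (sect w)
      rw [← hcl]; exact hwd _ _ _ _ (by rw [hq, hsect, hsect, hsect]) rfl
  let b1 : V →+ (V →ₗ[ZMod p] U) := AddMonoidHom.mk' (fun u => (b0 u).toZModLinearMap p)
    fun u u' => LinearMap.ext fun w => by simp
  have hb : ∀ x y, b1.toZModLinearMap p (q x) (q y) = c x y := fun x y => hwd _ _ _ _ (hsect _) (hsect _)
  have hφwd : ∀ (φ : MulAut X) x x', q x = q x' → q (φ x) = q (φ x') := by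
    intro φ x x' e
    have h1 : φ (x'⁻¹ * x) ∈ center X := Subgroup.mem_center_iff.2 fun g => by
      obtain ⟨g, rfl⟩ := φ.surjective g
      rw [← map_mul, ← map_mul, Subgroup.mem_center_iff.1 (hdiff x x' e) g]
    have h2 := (hker _).2 h1
    rw [map_mul, hq, map_inv, hq0, neg_add_eq_zero] at h2
    exact h2.symm
  let act0 : MulAut X → (V ≃ₗ[ZMod p] V) := fun φ =>
    let e : V ≃+ V :=
      { toFun := fun v => q (φ (sect v))
        invFun := fun v => q (φ.symm (sect v))
        left_inv := fun v => by
          show q (φ.symm (sect (q (φ (sect v))))) = v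
          rw [hφwd φ.symm _ (φ (sect v)) (hsect _), φ.symm_apply_apply, hsect]
        right_inv := fun v => by
          show q (φ (sect (q (φ.symm (sect v))))) = v
          rw [hφwd φ _ (φ.symm (sect v)) (hsect _), φ.apply_symm_apply, hsect]
        map_add' := fun v w => by
          rw [hφwd φ (sect (v + w)) (sect v * sect w) (by rw [hq, hsect, hsect, hsect]), map_mul, hq] }
    e.toLinearEquiv fun a v => ZMod.map_smul e a v
  have hact : ∀ φ x, act0 φ (q x) = q (φ x) := fun φ x => hφwd φ _ _ (hsect _)
  let act : MulAut X →* (V ≃ₗ[ZMod p] V) := MonoidHom.mk' act0 fun φ ψ => LinearEquiv.ext fun v => by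
    obtain ⟨x, rfl⟩ := hqs v
    rw [LinearEquiv.mul_apply, hact, hact, hact]
    rfl
  refine ⟨V, U, inferInstance, inferInstance, Finite.of_surjective q hqs, inferInstance, inferInstance, q, act,
    b1.toZModLinearMap p, hq, hqs, hker, hact, fun x y x' y' => ?_⟩
  rw [hb, hb]
  exact ⟨hιi _ (hcc x y) _ (hcc x' y'), fun e => congrArg ι e⟩

theorem hasCentreForm {p : ℕ} {X : Type u} [Group X] [Finite X]
    (hexp : ∀ x : X, x ^ p = 1) (hcc : ∀ x y : X, ⁅x, y⁆ ∈ center X) : HasCentreForm p X := by
  classical
  letI iQ : CommGroup (X ⧸ center X) :=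
    { (inferInstance : Group (X ⧸ center X)) with
      mul_comm := fun u w => by
        obtain ⟨x, rfl⟩ := QuotientGroup.mk_surjective u
        obtain ⟨y, rfl⟩ := QuotientGroup.mk_surjective w
        rw [← QuotientGroup.mk_mul, ← QuotientGroup.mk_mul, QuotientGroup.eq]
        have h1 : (x * y)⁻¹ * (y * x) = ⁅y⁻¹, x⁻¹⁆ := by simp [commutatorElement_def, mul_assoc]
        rw [h1]
        exact hcc _ _ }
  letI iC : CommGroup (center X) :=
    { (inferInstance : Group (center X)) with
      mul_comm := fun u w => Subtype.ext (Subgroup.mem_center_iff.1 w.2 u) }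
  have hV : ∀ v : Additive (X ⧸ center X), p • v = 0 := fun v => by
    obtain ⟨x, hx⟩ := QuotientGroup.mk_surjective (Additive.toMul v)
    refine (Additive.toMul (α := X ⧸ center X)).injective ?_
    show (Additive.toMul v : X ⧸ center X) ^ p = 1
    rw [← hx, ← QuotientGroup.mk_pow, hexp]
    rfl
  have hU : ∀ v : Additive (center X), p • v = 0 := fun v => by
    refine (Additive.toMul (α := center X)).injective ?_
    show (Additive.toMul v : center X) ^ p = 1
    exact Subtype.ext (by rw [SubgroupClass.coe_pow, hexp]; rfl)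
  letI := AddCommGroup.zmodModule (n := p) hV
  letI := AddCommGroup.zmodModule (n := p) hU
  refine hasCentreForm_aux (V := Additive (X ⧸ center X)) (U := Additive (center X))
    (fun x => Additive.ofMul (x : X ⧸ center X)) (fun x y => rfl)
    (fun v => by
      obtain ⟨x, hx⟩ := QuotientGroup.mk_surjective (Additive.toMul v)
      exact ⟨x, congrArg Additive.ofMul hx⟩)
    (fun x => QuotientGroup.eq_one_iff x)
    (fun x => if hx : x ∈ center X then Additive.ofMul ⟨x, hx⟩ else 0) ?_ ?_ hcc
  · intro x hx y hy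
    simp only [dif_pos hx, dif_pos hy, dif_pos (mul_mem hx hy)]
    rfl
  · intro x hx y hy e
    simp only [dif_pos hx, dif_pos hy] at e
    exact congrArg Subtype.val (Additive.ofMul.injective e)

end CfsgLib.Homogeneous
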