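import Cfsg.Agent.Lib.Homogeneous.Elementary

/-!
# A perfect characteristic subgroup centralises every characteristic elementary abelian subgroup

In a homogeneous group a perfect characteristic subgroup acts trivially on a characteristic
elementary abelian subgroup `E`: otherwise all transvections of `E` are induced, and an element of
`p`-power order inducing a transvection leads to an isomorphism of subgroups which does not extend.
-/

set_option autoImplicit false
set_option linter.unusedSimpArgs false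
set_option linter.style.haveILetI false
set_option maxHeartbeats 1000000

namespace CfsgLib.Homogeneous

open scoped commutatorElement

universe u

variable {G : Type u} [Group G]

/-- The map `(i, j) ↦ xⁱ bʲ` for commuting `x`, `b`. -/
def pairHom {x b : G} (hc : Commute x b) :
    Multiplicative (ℤ × ℤ) →* G where
  toFun ij := x ^ (Multiplicative.toAdd ij).1 * b ^ (Multiplicative.toAdd ij).2
  map_one' := by simp
  map_mul' a c := by
    simp only [toAdd_mul, Prod.fst_add, Prod.snd_add, zpow_add]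
    rw [mul_assoc, mul_assoc, ← mul_assoc (x ^ (Multiplicative.toAdd c).1)]
    rw [((hc.zpow_zpow _ _).eq : x ^ (Multiplicative.toAdd c).1 * b ^ (Multiplicative.toAdd a).2 = _)]
    rw [mul_assoc]

theorem mem_ker_pairHom {p : ℕ} [Fact p.Prime] {x b : G} (hc : Commute x b) (hb : b ^ p = 1)
    (hbx : b ∉ Subgroup.zpowers x) (ij : Multiplicative (ℤ × ℤ)) :
    ij ∈ (pairHom hc).ker ↔
      x ^ (Multiplicative.toAdd ij).1 = 1 ∧ (p : ℤ) ∣ (Multiplicative.toAdd ij).2 := by
  set i := (Multiplicative.toAdd ij).1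
  set j := (Multiplicative.toAdd ij).2
  rw [MonoidHom.mem_ker]
  constructor
  · intro h
    have hj : (p : ℤ) ∣ j := by
      by_contra hj
      have hcop : IsCoprime (p : ℤ) j :=
        (Nat.prime_iff_prime_int.1 Fact.out).coprime_iff_not_dvd.2 hj
      obtain ⟨u, v, huv⟩ := hcop
      apply hbx
      have hbj : b ^ j = x ^ (-i) := by
        rw [zpow_neg]
        exact eq_inv_of_mul_eq_one_right h
      have : b = (b ^ j) ^ v := by
        conv_lhs => rw [← zpow_one b, ← huv, zpow_add, mul_comm u, zpow_mul, zpow_natCast, hb, one_zpow,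
          one_mul, mul_comm v, zpow_mul]
      rw [this, hbj, ← zpow_mul]
      exact ⟨_, rfl⟩
    refine ⟨?_, hj⟩
    obtain ⟨k, hk⟩ := hj
    have h1 : b ^ j = 1 := by rw [hk, zpow_mul, zpow_natCast, hb, one_zpow]
    change x ^ i * b ^ j = 1 at h
    rwa [h1, mul_one] at h
  · rintro ⟨h1, k, hk⟩
    show x ^ i * b ^ j = 1
    rw [h1, hk, zpow_mul, zpow_natCast, hb, one_zpow, mul_one]

/-- `x ↦ x`, `b ↦ c` extends to an automorphism. -/
theorem Hom.exists_fixing (hG : Hom G) {p : ℕ} [Fact p.Prime] {x b c : G} (hxb : Commute x b)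
    (hxc : Commute x c) (hb : b ^ p = 1) (hc : c ^ p = 1) (hbx : b ∉ Subgroup.zpowers x)
    (hcx : c ∉ Subgroup.zpowers x) : ∃ φ : G ≃* G, φ x = x ∧ φ b = c := by
  have hk : (pairHom hxb).ker = (pairHom hxc).ker :=
    SetLike.ext fun ij => by rw [mem_ker_pairHom hxb hb hbx, mem_ker_pairHom hxc hc hcx]
  let e : (pairHom hxb).range ≃* (pairHom hxc).range :=
    (QuotientGroup.quotientKerEquivRange (pairHom hxb)).symm.trans
      ((QuotientGroup.quotientMulEquivOfEq hk).trans (QuotientGroup.quotientKerEquivRange (pairHom hxc)))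
  have he : ∀ ij, (e ⟨pairHom hxb ij, ij, rfl⟩ : G) = pairHom hxc ij := by
    intro ij
    have : (QuotientGroup.quotientKerEquivRange (pairHom hxb)).symm ⟨pairHom hxb ij, ij, rfl⟩ =
        QuotientGroup.mk ij := by
      rw [MulEquiv.symm_apply_eq]
      rfl
    simp only [e, MulEquiv.trans_apply, this]
    rfl
  obtain ⟨φ, hφ⟩ := hG _ _ e
  refine ⟨φ, ?_, ?_⟩
  · have := hφ ⟨pairHom hxb (Multiplicative.ofAdd (1, 0)), _, rfl⟩
    rw [he] at this
    simpa [pairHom] using this
  · have := hφ ⟨pairHom hxb (Multiplicative.ofAdd (0, 1)), _, rfl⟩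
    rw [he] at this
    simpa [pairHom] using this

section Block

variable {p n : ℕ} [Fact p.Prime]

/-- The transvection `vⱼ ↦ vᵢ + vⱼ` on coordinates. -/
noncomputable def ct (i j : Fin n) (hij : i ≠ j) (c : ZMod p) :
    (Fin n → ZMod p) ≃ₗ[ZMod p] (Fin n → ZMod p) :=
  LinearEquiv.transvection (f := c • (LinearMap.proj j : (Fin n → ZMod p) →ₗ[ZMod p] ZMod p))
    (v := Pi.single i 1) (by simp [hij.symm])

theorem ct_apply (i j : Fin n) (hij : i ≠ j) (c : ZMod p) (v : Fin n → ZMod p) (k : Fin n) :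
    ct i j hij c v k = v k + if k = i then c * v j else 0 := by
  rw [ct, tvApply, Pi.add_apply, Pi.smul_apply, LinearMap.smul_apply, LinearMap.proj_apply,
    Pi.single_apply, smul_eq_mul, smul_eq_mul]
  split <;> simp

/-- The element `s` with fixed space the common kernel of two coordinates, and `T` fixing it. -/
theorem exists_block {I : Subgroup ((Fin n → ZMod p) ≃ₗ[ZMod p] (Fin n → ZMod p))} (hT : AllT I)
    (i j : Fin n) (hij : i ≠ j) :
    ∃ s ∈ I, ∃ r : ℕ, r.Prime ∧ r ≠ p ∧ orderOf s = r ∧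
      (ct i j hij (1 : ZMod p)) * s * (ct i j hij (1 : ZMod p))⁻¹ ∈ Subgroup.zpowers s ∧
      ∀ v, s v = v → v i = 0 := by
  have hmem : ∀ (a b : Fin n) (h : a ≠ b) (c : ZMod p), ct a b h c ∈ I := fun a b h c => hT _ _ _
  have hji := hij.symm
  by_cases hp : p = 2
  · subst hp
    obtain ⟨s, hs⟩ : ∃ s, s = ct i j hij (1 : ZMod 2) * ct j i hji 1 := ⟨_, rfl⟩
    have hsv : ∀ (v : Fin n → ZMod 2) k, s v k =
        if k = i then v j else if k = j then v i + v j else v k := by
      intro v k
      rw [hs, LinearEquiv.mul_apply, ct_apply, ct_apply, ct_apply]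
      rcases eq_or_ne k i with rfl | hki
      · simp [hij, hji]
        rw [add_comm (v j), ← add_assoc, CharTwo.add_self_eq_zero, zero_add]
      · rcases eq_or_ne k j with rfl | hkj
        · simp [hki, add_comm]
        · simp [hki, hkj]
    have hs3 : s ^ 3 = 1 := by
      refine LinearEquiv.ext fun v => funext fun k => ?_
      rw [pow_succ, pow_succ, pow_one, LinearEquiv.mul_apply, LinearEquiv.mul_apply, oneApply]
      simp only [hsv]
      rcases eq_or_ne k i with rfl | hki
      · simp [hij, hji]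
        rw [add_comm, add_assoc, CharTwo.add_self_eq_zero, add_zero]
      · rcases eq_or_ne k j with rfl | hkj
        · simp [hki, hji]
          rw [show v i + v k + (v k + (v i + v k)) = v k + ((v i + v i) + (v k + v k)) by abel,
            CharTwo.add_self_eq_zero, CharTwo.add_self_eq_zero]
          simp
        · simp [hki, hkj]
    have hfix : ∀ v, s v = v → v i = 0 := fun v hv => by
      have h1 := congrFun hv i
      have h2 := congrFun hv j
      rw [hsv] at h1 h2
      simp [hji] at h1 h2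
      exact h2
    refine ⟨s, hs ▸ I.mul_mem (hmem _ _ _ _) (hmem _ _ _ _), 3, Nat.prime_three, by norm_num,
      orderOf_eq_prime hs3 fun h => ?_, ?_, hfix⟩
    · have := hfix (Pi.single i 1) (by rw [h, oneApply])
      simp at this
    · refine Subgroup.mem_zpowers_iff.2 ⟨2, ?_⟩
      rw [eq_mul_inv_iff_mul_eq]
      refine LinearEquiv.ext fun v => funext fun k => ?_
      rw [show (2 : ℤ) = ((2 : ℕ) : ℤ) from rfl, zpow_natCast, pow_two, LinearEquiv.mul_apply,
        LinearEquiv.mul_apply, LinearEquiv.mul_apply]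
      simp only [hsv, ct_apply]
      have e2 : ∀ a b : ZMod 2, b + (a + b) = a := fun a b => by
        rw [add_left_comm, CharTwo.add_self_eq_zero, add_zero]
      rcases eq_or_ne k i with rfl | hki
      · simp [hij, hji, e2]
        rw [add_assoc, CharTwo.add_self_eq_zero, add_zero]
      · rcases eq_or_ne k j with rfl | hkj
        · simp [hki, hji, e2]
        · simp [hki, hkj]
  · set w := ct i j hij (1 : ZMod p) * ct j i hji (-1) * ct i j hij 1 with hw
    obtain ⟨s, hs⟩ : ∃ s, s = w * w := ⟨_, rfl⟩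
    have hwv : ∀ (v : Fin n → ZMod p) k, w v k =
        if k = i then v j else if k = j then -v i else v k := by
      intro v k
      rw [hw, LinearEquiv.mul_apply, LinearEquiv.mul_apply, ct_apply, ct_apply, ct_apply, ct_apply]
      rcases eq_or_ne k i with rfl | hki
      · simp [hij, hji, ct_apply]
      · rcases eq_or_ne k j with rfl | hkj
        · simp [hki, hji, ct_apply]
        · simp [hki, hkj]
    have hsv : ∀ (v : Fin n → ZMod p) k, s v k = if k = i ∨ k = j then -v k else v k := by
      intro v k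
      rw [hs, LinearEquiv.mul_apply]
      simp only [hwv]
      rcases eq_or_ne k i with rfl | hki
      · simp [hji]
      · rcases eq_or_ne k j with rfl | hkj
        · simp [hki]
        · simp [hki, hkj]
    have h2 : (2 : ZMod p) ≠ 0 := by
      intro h
      have h' : ((2 : ℕ) : ZMod p) = 0 := by exact_mod_cast h
      rw [ZMod.natCast_eq_zero_iff] at h'
      have := Nat.le_of_dvd (by norm_num) h'
      have := (Fact.out : p.Prime).two_le
      omega
    have hfix : ∀ v, s v = v → v i = 0 := fun v hv => by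
      have h1 := congrFun hv i
      rw [hsv, if_pos (Or.inl rfl)] at h1
      have h3 : (2 : ZMod p) * v i = 0 := by linear_combination -h1
      exact (mul_eq_zero.1 h3).resolve_left h2
    refine ⟨s, ?_, 2, Nat.prime_two, Ne.symm hp, orderOf_eq_prime ?_ fun h => ?_, ?_, hfix⟩
    · rw [hs]
      exact I.mul_mem (I.mul_mem (I.mul_mem (hmem _ _ _ _) (hmem _ _ _ _)) (hmem _ _ _ _))
        (I.mul_mem (I.mul_mem (hmem _ _ _ _) (hmem _ _ _ _)) (hmem _ _ _ _))
    · refine LinearEquiv.ext fun v => funext fun k => ?_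
      rw [pow_two, LinearEquiv.mul_apply, oneApply]
      simp only [hsv]
      split <;> simp
    · have := hfix (Pi.single i 1) (by rw [h, oneApply])
      simp at this
    · convert Subgroup.mem_zpowers s using 1
      rw [mul_inv_eq_iff_eq_mul]
      refine LinearEquiv.ext fun v => funext fun k => ?_
      rw [LinearEquiv.mul_apply, LinearEquiv.mul_apply]
      simp only [hsv, ct_apply]
      rcases eq_or_ne k i with rfl | hki
      · simp [add_comm]
      · simp [hki]

end Block

section Main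

variable [Finite G] {p : ℕ} [Fact p.Prime]

theorem exists_model_of_perfect {n : ℕ} {E : Subgroup G} (m : Model p n E) (hG : Hom G) (K : Subgroup G)
    [K.Characteristic] [E.Normal] (hperf : ⁅K, K⁆ = K)
    (hK : ¬ K ≤ Subgroup.centralizer (E : Set G)) :
    AllT (m.img (⊤ : Subgroup G)) ∧ 2 ≤ n := by
  have hN : ∀ g : G, g ∈ Subgroup.normalizer (E : Set G) := fun g =>
    Subgroup.le_normalizer_of_normal (Subgroup.mem_top g)
  have hJe : m.img K = (K.subgroupOf (Subgroup.normalizer (E : Set G))).map (Model.action E m) := by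
    refine le_antisymm (fun L hL => ?_) ?_
    · obtain ⟨g, hg, rfl⟩ := m.exists_action_eq hL
      exact ⟨g, hg, rfl⟩
    · rintro _ ⟨g, hg, rfl⟩
      exact m.action_mem_img g hg
  have hJp : ⁅m.img K, m.img K⁆ = m.img K := by
    rw [hJe, ← Subgroup.map_commutator]
    congr 1
    apply Subgroup.map_injective (Subgroup.subtype_injective _)
    rw [Subgroup.map_commutator, Subgroup.subgroupOf_map_subtype,
      inf_eq_left.2 (fun g _ => hN g), hperf]
  have hJne : m.img K ≠ ⊥ := by
    intro h
    refine hK fun g hg => (m.action_eq_one_iff ⟨g, hN g⟩).1 ?_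
    rw [← Subgroup.mem_bot, ← h]
    exact m.action_mem_img _ hg
  have hT := allT_of_perfect (m.img_normal hG K) hJp hJne
  refine ⟨fun a f h => m.img_mono le_top (hT a f h), ?_⟩
  by_contra hn
  refine hJne (eq_bot_of_perfect_solvable _ hJp (Group.isSolvable_of_comm fun x y => ?_))
  refine Subtype.ext (mul_comm_of_not_nonscalar ?_ ?_) <;>
  · rintro ⟨a, ha⟩
    have := (linearIndependent_pair_of_notMem (Nonscalar.ne_zero ha) ha).fintype_card_le_finrank
    rw [Fintype.card_fin, Module.finrank_fin_fun] at this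
    omega

/-- A perfect characteristic subgroup centralises a characteristic elementary abelian subgroup. -/
theorem le_centralizer_of_char_elementary (hG : Hom G) (E : Subgroup G) [E.Characteristic]
    (hE : Cfsg.IsElementaryAbelian p E) (K : Subgroup G) [K.Characteristic] (hperf : ⁅K, K⁆ = K) :
    K ≤ Subgroup.centralizer (E : Set G) := by
  by_contra hK
  obtain ⟨n, ⟨m⟩⟩ := exists_model hE
  obtain ⟨hT, hn⟩ := exists_model_of_perfect m hG K hperf hK
  have hN : ∀ g : G, g ∈ Subgroup.normalizer (E : Set G) := fun g =>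
    Subgroup.le_normalizer_of_normal (Subgroup.mem_top g)
  let F : G →* ((Fin n → ZMod p) ≃ₗ[ZMod p] (Fin n → ZMod p)) :=
    (Model.action E m).comp ((MonoidHom.id G).codRestrict _ hN)
  have hF : ∀ (g : G) (u : E), ∃ u' : E, (u' : G) = g * u * g⁻¹ ∧ F g (m.vec u) = m.vec u' :=
    fun g u => m.action_apply ⟨g, hN g⟩ u
  have hsurj : ∀ L ∈ m.img (⊤ : Subgroup G), ∃ g, F g = L := fun L hL => by
    obtain ⟨g, -, hg⟩ := m.exists_action_eq hL
    exact ⟨g, hg⟩
  have hker : ∀ u : E, F u = 1 := fun u => by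
    refine (m.action_eq_one_iff ⟨(u : G), hN u⟩).2 fun v hv => ?_
    haveI := hE.1
    exact congrArg Subtype.val (mul_comm' (⟨v, hv⟩ : E) u)
  let i : Fin n := ⟨0, by omega⟩
  let j : Fin n := ⟨1, by omega⟩
  have hij : i ≠ j := by simp [i, j, Fin.ext_iff]
  set t := ct i j hij (1 : ZMod p) with ht
  obtain ⟨s, hsI, r, hr, hrp, hsr, hts, hfix⟩ := exists_block hT i j hij
  haveI : Fact r.Prime := ⟨hr⟩
  obtain ⟨g, hg⟩ := hsurj t (hT _ _ _)
  obtain ⟨σ, hσ⟩ := hsurj s hsI
  set H := (Subgroup.zpowers s).comap F with hH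
  have hgH : g ∈ Subgroup.normalizer (H : Set G) := by
    refine Subgroup.mem_normalizer_fintype fun y hy => ?_
    obtain ⟨k, hk⟩ := Subgroup.mem_zpowers_iff.1 (Subgroup.mem_comap.1 hy)
    show g * y * g⁻¹ ∈ H
    rw [hH, Subgroup.mem_comap, map_mul, map_mul, map_inv, ← hk, hg, ← conj_zpow]
    exact zpow_mem hts k
  let Q : Sylow r H := default
  set Q' := (Q : Subgroup H).map H.subtype with hQ'
  have hQr : IsPGroup r Q' := Q.2.map _
  -- the Sylow subgroup maps onto `⟨s⟩`
  have hQs : ∀ L ∈ Subgroup.zpowers s, ∃ q ∈ Q', F q = L := by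
    let F' : H →* Subgroup.zpowers s := (F.comp H.subtype).codRestrict _ fun y => y.2
    have hF' : Function.Surjective F' := by
      rintro ⟨L, k, rfl⟩
      exact ⟨⟨σ ^ k, Subgroup.mem_comap.2 (by rw [map_zpow, hσ]; exact ⟨k, rfl⟩)⟩,
        Subtype.ext (show F (σ ^ k) = s ^ k by rw [map_zpow, hσ])⟩
    haveI : Finite ((Fin n → ZMod p) ≃ₗ[ZMod p] (Fin n → ZMod p)) :=
      Finite.of_injective _ DFunLike.coe_injective
    have htop : (Q.mapSurjective hF' : Subgroup (Subgroup.zpowers s)) = ⊤ := by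
      refine Subgroup.eq_top_of_card_eq _ ?_
      rw [Sylow.card_eq_multiplicity, Nat.card_zpowers, hsr, hr.factorization_self, pow_one]
    intro L hL
    obtain ⟨q, hq, hqL⟩ := (htop.ge (Subgroup.mem_top (⟨L, hL⟩ : Subgroup.zpowers s)) :
      (⟨L, hL⟩ : Subgroup.zpowers s) ∈ (Q : Subgroup H).map F')
    exact ⟨q, ⟨q, hq, rfl⟩, congrArg Subtype.val hqL⟩
  obtain ⟨k, hk, hkg⟩ := exists_mul_mem_normalizer Q hgH
  obtain ⟨q, hq, hqk⟩ := hQs (F k)⁻¹ (inv_mem (Subgroup.mem_comap.1 hk))
  set y := q * (k * g) with hy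
  have hyN : y ∈ Subgroup.normalizer (Q' : Set G) := mul_mem (Subgroup.le_normalizer hq) hkg
  have hFy : F y = t := by rw [hy, map_mul, map_mul, hqk, hg, inv_mul_cancel_left]
  have htp : t ^ p ^ 1 = 1 := by
    rw [pow_one, ht, ct, transvection_pow]
    refine LinearEquiv.ext fun v => ?_
    simp [tvApply, oneApply]
  obtain ⟨e, ⟨k', hk'⟩, he⟩ := exists_pow_pPart (p := p) y
  set x := y ^ e with hx
  have hFx : F x = t := by rw [hx, map_pow_pPart he F (j := 1) (by rw [hFy]; exact htp), hFy]
  have hxN : x ∈ Subgroup.normalizer (Q' : Set G) := pow_mem hyN e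
  -- `E` contains the elements of order `p`
  have hb0 : ∀ i : Fin n, (Pi.single i 1 : Fin n → ZMod p) ≠ 0 := fun i h => by
    simpa using congrFun h i
  set a := m.elt (Pi.single i 1) with ha
  have hap : orderOf (a : G) = p := by
    refine orderOf_eq_prime (hE.2 _ a.2) fun h => hb0 i ?_
    rw [← m.vec_elt (Pi.single i 1), ← ha, m.vec_eq_zero]
    exact Subtype.ext h
  have hEmem : ∀ z : G, orderOf z = p → z ∈ E := fun z hz =>
    hG.mem_of_orderOf_eq a.2 (by rw [hap, hz])
  have htne : t ≠ 1 := fun h => by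
    have h1 := congrFun (LinearEquiv.congr_fun h (Pi.single j 1)) i
    rw [ht, ct_apply, oneApply] at h1
    simp [hij] at h1
  have hk'0 : k' ≠ 0 := by
    rintro rfl
    rw [pow_zero, orderOf_eq_one_iff] at hk'
    exact htne (by rw [← hFx, hk', map_one])
  set w := x ^ (p ^ (k' - 1)) with hw
  have hwp : orderOf w = p := by
    rw [hw, orderOf_pow, hk']
    have h1 : p ^ (k' - 1) ∣ p ^ k' := pow_dvd_pow p (by omega)
    rw [Nat.gcd_eq_right h1]
    conv_lhs => rw [show k' = (k' - 1) + 1 by omega, pow_succ]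
    rw [show (k' - 1) + 1 - 1 = k' - 1 by omega]
    exact Nat.mul_div_cancel_left _ (pow_pos (Fact.out : p.Prime).pos _)
  have hwE : w ∈ E := hEmem w hwp
  -- `E ∩ N(Q)` is fixed by `s`
  have hEQ : ∀ u : E, (u : G) ∈ Subgroup.normalizer (Q' : Set G) → s (m.vec u) = m.vec u := by
    intro u hu
    obtain ⟨q, hq, hqs⟩ := hQs s (Subgroup.mem_zpowers s)
    obtain ⟨u', hu', hu''⟩ := hF q u
    have h1 : q * (u : G) * q⁻¹ * (u : G)⁻¹ ∈ E ⊓ Q' :=
      Subgroup.mem_inf.2 ⟨E.mul_mem (hu' ▸ u'.2) (E.inv_mem u.2), by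
        rw [show q * (u : G) * q⁻¹ * (u : G)⁻¹ = q * ((u : G) * q⁻¹ * (u : G)⁻¹) by group]
        exact mul_mem hq ((Subgroup.mem_normalizer_iff.1 hu q⁻¹).1 (inv_mem hq))⟩
    have hEp : IsPGroup p E := fun z => ⟨1, Subtype.ext (by simpa using hE.2 _ z.2)⟩
    have hdis : E ⊓ Q' = ⊥ := disjoint_iff.1 (IsPGroup.disjoint_of_ne p r (Ne.symm hrp) E Q' hEp hQr)
    rw [hdis, Subgroup.mem_bot, mul_inv_eq_one, ← hu'] at h1
    rw [← hqs, hu'', Subtype.ext h1]
  have hwi : m.vec ⟨w, hwE⟩ i = 0 := hfix _ (hEQ ⟨w, hwE⟩ (pow_mem hxN _))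
  -- `a = ⁅x, a'⁆`
  set a' := m.elt (Pi.single j 1) with ha'
  obtain ⟨a'', ha'', hxa'⟩ := hF x a'
  have haa : (a : G) = x * a' * x⁻¹ * (a' : G)⁻¹ := by
    have h1 : a = a'' * a'⁻¹ := by
      refine m.vec_injective ?_
      rw [m.vec_mul, m.vec_inv, ← hxa', hFx, ha, ha', m.vec_elt, m.vec_elt]
      funext k
      rw [Pi.add_apply, Pi.neg_apply, ht, ct_apply]
      rcases eq_or_ne k i with rfl | hki
      · simp [hij]
      · simp [hki]
    rw [h1, Subgroup.coe_mul, Subgroup.coe_inv, ha'']
  have hxa : Commute x (a : G) := by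
    obtain ⟨u', hu', hu''⟩ := hF x a
    have : u' = a := by
      refine m.vec_injective ?_
      rw [← hu'', hFx, ha, m.vec_elt]
      funext k
      rw [ht, ct_apply]
      simp [hij.symm]
    rw [this] at hu'
    exact (eq_mul_inv_iff_mul_eq.1 hu').symm
  have hwx : w ∈ Subgroup.zpowers x := pow_mem (Subgroup.mem_zpowers x) _
  have hax : (a : G) ∉ Subgroup.zpowers x := by
    intro h
    have h1 := hfix _ (hEQ a (Subgroup.zpowers_le.2 hxN h))
    rw [ha, m.vec_elt] at h1
    simp at h1
  have hxw : Commute x w := (Commute.refl x).pow_right _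
  obtain ⟨φ, hφx, hφa⟩ := hG.exists_fixing (p := p) (x := x) (b := a) (c := a * w) hxa
    (hxa.mul_right hxw) (hE.2 _ a.2) (hE.2 _ (mul_mem a.2 hwE)) hax
    (fun h => hax (by simpa using mul_mem h (inv_mem hwx)))
  set b' : E := ⟨φ a', map_mem_of_char φ a'.2⟩ with hb'
  obtain ⟨b'', hb'', hxb'⟩ := hF x b'
  have h1 : a * ⟨w, hwE⟩ = b'' * b'⁻¹ := by
    refine Subtype.ext ?_
    rw [Subgroup.coe_mul, Subgroup.coe_mul, Subgroup.coe_inv, hb'', ← hφa, haa, map_mul, map_mul,
      map_mul, map_inv, map_inv, hφx]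
  have h2 := congrArg m.vec h1
  rw [m.vec_mul, m.vec_mul, m.vec_inv, ← hxb', hFx, ha, m.vec_elt] at h2
  have hw0 : m.vec ⟨w, hwE⟩ = 0 := by
    funext k
    rcases eq_or_ne k i with rfl | hki
    · simpa using hwi
    · have h3 := congrFun h2 k
      rw [Pi.add_apply, Pi.add_apply, Pi.neg_apply, ht, ct_apply] at h3
      simpa [hki] using h3
  rw [m.vec_eq_zero, Subtype.ext_iff] at hw0
  rw [show w = 1 from hw0, orderOf_one] at hwp
  exact (Fact.out : p.Prime).ne_one hwp.symm

end Main

end CfsgLib.Homogeneous
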