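import Mathlib
import Cfsg.Agent.Lib.PGroup.Class2

/-!
# Lifting an isometry of the commutator form

In a class two group of exponent `p` (odd), every linear map of the quotient by a central subgroup
containing all commutators which preserves commutators lifts to an automorphism.
-/

set_option autoImplicit false
set_option linter.style.haveILetI false

namespace CfsgLib.Homogeneous

open scoped commutatorElement
open Subgroup (center)

universe u

theorem exists_lift {X : Type u} [Group X] [Finite X] {p : ℕ} [Fact p.Prime] (hp2 : p ≠ 2)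
    (hexp : ∀ x : X, x ^ p = 1) (Z : Subgroup X) (hZc : Z ≤ Subgroup.center X)
    (hcomm : ∀ x y : X, ⁅x, y⁆ ∈ Z) {V : Type u} [AddCommGroup V] [Module (ZMod p) V] (q : X → V)
    (hq : ∀ x y, q (x * y) = q x + q y) (hqs : Function.Surjective q) (hker : ∀ x, q x = 0 ↔ x ∈ Z)
    (g : V ≃ₗ[ZMod p] V)
    (hg : ∀ x y x' y', q x' = g (q x) → q y' = g (q y) → ⁅x', y'⁆ = ⁅x, y⁆) :
    ∃ φ : MulAut X, ∀ x, q (φ x) = g (q x) := by
  classical
  have hp : Odd p := (Fact.out : p.Prime).odd_of_ne_two hp2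
  obtain ⟨m, hm⟩ : ∃ m, p + 1 = 2 * m := by
    obtain ⟨k, rfl⟩ := hp; exact ⟨k + 1, by ring⟩
  have hc : ∀ x y : X, ⁅x, y⁆ ∈ center X := fun x y => hZc (hcomm x y)
  let c : X → X → X := fun a b => ⁅a, b⁆ ^ m
  have hcZ : ∀ a b, c a b ∈ Z := fun a b => Z.pow_mem (hcomm a b) m
  have hcc : ∀ a b g, c a b * g = g * c a b := fun a b g =>
    ((Subgroup.mem_center_iff.1 (hZc (hcZ a b))) g).symm
  have hz1 : ∀ a : X, ∀ z ∈ center X, ⁅a, z⁆ = 1 := fun a z hz =>
    commutatorElement_eq_one_iff_mul_comm.2 (Subgroup.mem_center_iff.1 hz a)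
  have hz2 : ∀ a : X, ∀ z ∈ center X, ⁅z, a⁆ = 1 := fun a z hz =>
    commutatorElement_eq_one_iff_mul_comm.2 (Subgroup.mem_center_iff.1 hz a).symm
  have hcr : ∀ a x y, c a (x * y) = c a x * c a y := fun a x y => by
    show _ ^ m = _ ^ m * _ ^ m
    rw [CfsgLib.PGroup.commutatorElement_mul_right_of_central _ _ _ (hc a y),
      (Commute.symm (Subgroup.mem_center_iff.1 (hc a x) _)).mul_pow]
  have hcl : ∀ a x y, c (x * y) a = c x a * c y a := fun a x y => by
    show _ ^ m = _ ^ m * _ ^ m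
    rw [CfsgLib.PGroup.commutatorElement_mul_left_of_central _ _ _ (hc y a),
      (Commute.symm (Subgroup.mem_center_iff.1 (hc x a) _)).mul_pow]
  have hc1r : ∀ a : X, ∀ z ∈ center X, c a z = 1 := fun a z hz => by
    show _ ^ m = 1; rw [hz1 a z hz, one_pow]
  have hc1l : ∀ a : X, ∀ z ∈ center X, c z a = 1 := fun a z hz => by
    show _ ^ m = 1; rw [hz2 a z hz, one_pow]
  have hswap : ∀ x y : X, x * y * c y x = y * x * c x y := by
    intro x y
    have h2 : c x y * c x y = ⁅x, y⁆ := by
      show _ ^ m * _ ^ m = _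
      rw [← pow_add, ← two_mul, ← hm, pow_succ, hexp, one_mul]
    have h3 : c y x = (c x y)⁻¹ := by
      show _ ^ m = (_ ^ m)⁻¹
      rw [← inv_pow, commutatorElement_inv]
    rw [h3, mul_inv_eq_iff_eq_mul, CfsgLib.PGroup.mul_eq_commutatorElement_mul x y, mul_assoc (y * x),
      h2]
    exact (Subgroup.mem_center_iff.1 (hc x y) (y * x)).symm
  have hassoc : ∀ x y z : X,
      (x * y * c y x) * z * c z (x * y * c y x) = x * (y * z * c z y) * c (y * z * c z y) x := by
    intro x y z
    rw [hcr z (x * y), hcr z x y, hc1r z _ (hZc (hcZ y x)), mul_one, hcl x (y * z), hcl x y z,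
      hc1l x _ (hZc (hcZ z y)), mul_one]
    rw [mul_assoc (x * y) (c y x) z, hcc y x z]
    simp only [mul_assoc]
    congr 3
    rw [← mul_assoc (c z y), hcc z y (c y x), mul_assoc, hcc z y (c z x)]
  letI : Zero X := ⟨1⟩
  letI : Add X := ⟨fun x y => x * y * c y x⟩
  letI : Neg X := ⟨fun x => x⁻¹⟩
  letI AG : AddCommGroup X :=
    { add := fun x y => x * y * c y x
      zero := 1
      neg := fun x => x⁻¹
      add_assoc := hassoc
      zero_add := fun x => by show 1 * x * c x 1 = x; rw [hc1r x 1 (one_mem _), one_mul, mul_one]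
      add_zero := fun x => by show x * 1 * c 1 x = x; rw [hc1l x 1 (one_mem _), mul_one, mul_one]
      add_comm := hswap
      neg_add_cancel := fun x => by
        show x⁻¹ * x * c x x⁻¹ = 1
        rw [inv_mul_cancel, one_mul]
        show _ ^ m = 1
        rw [commutatorElement_eq_one_iff_mul_comm.2 (by simp), one_pow]
      nsmul := nsmulRec
      zsmul := zsmulRec }
  have hns : ∀ (n : ℕ) (x : X), n • x = x ^ n := by
    intro n x
    induction n with
    | zero => rw [zero_nsmul, pow_zero]; rfl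
    | succ n ih =>
      rw [succ_nsmul, ih, pow_succ]
      show x ^ n * x * c x (x ^ n) = _
      rw [show c x (x ^ n) = 1 by
        show _ ^ m = 1
        rw [commutatorElement_eq_one_iff_mul_comm.2 (Commute.self_pow x n).eq, one_pow], mul_one]
  letI : Module (ZMod p) X :=
    AddCommGroup.zmodModule (n := p) fun x => by rw [hns, hexp]; rfl
  have hq0 : ∀ z ∈ Z, q z = 0 := fun z hz => (hker z).2 hz
  let Q : X →+ V := AddMonoidHom.mk' q fun x y => by
    show q (x * y * c y x) = _
    rw [hq, hq, hq0 _ (hcZ y x), add_zero]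
  obtain ⟨t', ht⟩ := LinearMap.exists_rightInverse_of_surjective (Q.toZModLinearMap p)
    (LinearMap.range_eq_top.2 hqs)
  let t : V → X := fun u => t'.toFun u
  have htq : ∀ u, q (t u) = u := fun u => LinearMap.congr_fun ht u
  have htadd : ∀ u w, t (u + w) = t u * t w * c (t w) (t u) := fun u w => t'.map_add' u w
  let φ0 : X → X := fun x => t (g (q x)) * ((t (q x))⁻¹ * x)
  have hζ : ∀ x, (t (q x))⁻¹ * x ∈ Z := fun x => by
    refine (hker _).1 ?_
    have h := hq (t (q x)) ((t (q x))⁻¹ * x)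
    rw [mul_inv_cancel_left, htq] at h
    simpa using h
  have hmul : ∀ x y, φ0 (x * y) = φ0 x * φ0 y := by
    intro x y
    show t (g (q (x * y))) * ((t (q (x * y)))⁻¹ * (x * y)) = _
    have hcg : c (t (g (q y))) (t (g (q x))) = c (t (q y)) (t (q x)) := by
      show _ ^ m = _ ^ m
      rw [hg (t (q y)) (t (q x)) (t (g (q y))) (t (g (q x))) (by rw [htq, htq]) (by rw [htq, htq])]
    rw [hq, map_add g, htadd, htadd, hcg]
    set A := t (g (q x)); set B := t (g (q y)); set a := t (q x); set b := t (q y)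
    show A * B * c b a * ((a * b * c b a)⁻¹ * (x * y)) = A * (a⁻¹ * x) * (B * (b⁻¹ * y))
    have hk : ∀ g, g * (a⁻¹ * x) = (a⁻¹ * x) * g := fun g =>
      Subgroup.mem_center_iff.1 (hZc (hζ x)) g
    calc A * B * c b a * ((a * b * c b a)⁻¹ * (x * y)) = A * B * (b⁻¹ * (a⁻¹ * x) * y) := by group
      _ = A * B * ((a⁻¹ * x) * b⁻¹ * y) := by rw [hk b⁻¹]
      _ = A * (B * (a⁻¹ * x)) * (b⁻¹ * y) := by group
      _ = A * (a⁻¹ * x) * (B * (b⁻¹ * y)) := by rw [hk B]; group
  have hφq : ∀ x, q (φ0 x) = g (q x) := fun x => by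
    show q (_ * _) = _
    rw [hq, htq, hq0 _ (hζ x), add_zero]
  have hinj : Function.Injective φ0 := by
    intro x y h
    have h1 : q x = q y := g.injective (by rw [← hφq, ← hφq, h])
    have h2 : t (g (q x)) * ((t (q x))⁻¹ * x) = t (g (q y)) * ((t (q y))⁻¹ * y) := h
    rw [h1] at h2
    exact mul_left_cancel (mul_left_cancel h2)
  exact ⟨MulEquiv.ofBijective (MonoidHom.mk' φ0 hmul) ⟨hinj, Finite.surjective_of_injective hinj⟩, hφq⟩

end CfsgLib.Homogeneous
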