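import Cfsg.Agent.Lib.Homogeneous.Radical

/-!
# A homogeneous group has at most one component

A non-solvable homogeneous group has exactly one component; it is characteristic.
-/

set_option autoImplicit false
set_option linter.unusedSimpArgs false
set_option linter.style.haveILetI false

namespace CfsgLib.Homogeneous

open scoped commutatorElement

universe u

variable {G : Type u} [Group G] [Finite G]

/-- An odd automorphism fixing the elements of order dividing four of a 2-group with central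
involutions is trivial. -/
theorem eq_one_of_fix_four {N : Type u} [Group N] [Finite N] (hN : IsPGroup 2 N) (ψ : MulAut N)
    (hψ : Odd (orderOf ψ)) (hfix : ∀ n : N, n ^ 4 = 1 → ψ n = n)
    (hcen : ∀ n : N, n * n = 1 → n ∈ Subgroup.center N) : ψ = 1 := by
  haveI : Fact (Nat.Prime 2) := ⟨Nat.prime_two⟩
  obtain ⟨H, hHc, hHC, hcom, hsq⟩ := CfsgLib.PGroup.exists_critical hN
  haveI := hHc
  have hmem : ∀ {h : N}, h ∈ H → ψ h ∈ H := fun {h} hh => by
    rw [← Subgroup.characteristic_iff_map_eq.1 hHc ψ]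
    exact Subgroup.mem_map_of_mem _ hh
  have hfix2 : ∀ n : N, n * n = 1 → ψ n = n := fun n hn =>
    hfix n (by rw [show 4 = 2 * 2 from rfl, pow_mul, pow_two n, hn, one_pow])
  have hZ : ∀ z ∈ H ⊓ Subgroup.centralizer (H : Set N), ψ z = z := fun z hz => by
    obtain ⟨k, hk⟩ := hN z
    exact fixed_of_commuting hN ψ hψ hfix2 k z
      ((Subgroup.mem_centralizer_iff.1 hz.2 (ψ z) (hmem hz.1)).symm) hk
  have hHfix : ∀ h ∈ H, ψ h = h := by
    intro h hh
    set y := h⁻¹ * ψ h with hy
    have hsqh : ψ (h * h) = h * h := hZ _ (by simpa [pow_two] using hsq h hh)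
    have hss : ψ h * ψ h = h * h := by rw [← map_mul, hsqh]
    have hs : ∀ b ∈ H, b * (h * h) = (h * h) * b := fun b hb => by
      simpa [pow_two] using Subgroup.mem_centralizer_iff.1 (hsq h hh).2 b hb
    set c := ⁅ψ h, h⁆ with hc
    have hcc : ∀ b ∈ H, b * c = c * b := fun b hb =>
      Subgroup.mem_centralizer_iff.1 (hcom (ψ h) h hh).2 b hb
    have hba : ψ h * h = c * (h * ψ h) := by rw [hc, commutatorElement_def]; group
    have habab : h * ψ h * (h * ψ h) = c * ((h * h) * (ψ h * ψ h)) :=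
      calc h * ψ h * (h * ψ h) = h * (ψ h * h) * ψ h := by group
        _ = (h * c) * h * (ψ h * ψ h) := by rw [hba]; group
        _ = _ := by rw [hcc h hh]; group
    have hy2 : y * y = c := by
      have hinv : h⁻¹ = (h * h)⁻¹ * h := by group
      have hcomm : Commute (h * ψ h) (h * h)⁻¹ :=
        Commute.inv_right (hs _ (H.mul_mem hh (hmem hh)))
      calc y * y = (h * h)⁻¹ * ((h * ψ h) * (h * h)⁻¹) * (h * ψ h) := by rw [hy, hinv]; group
        _ = (h * h)⁻¹ * (h * h)⁻¹ * (h * ψ h * (h * ψ h)) := by rw [hcomm.eq]; group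
        _ = (h * h)⁻¹ * (h * h)⁻¹ * (c * (h * h * (h * h))) := by rw [habab, hss]
        _ = _ := by
          have h1 : c * (h * h * (h * h)) = (h * h * (h * h)) * c :=
            (hcc _ (H.mul_mem (H.mul_mem hh hh) (H.mul_mem hh hh))).symm
          rw [h1]; group
    have hc2 : c * c = 1 := by
      have h1 : ψ h * ψ h * h = c * c * (h * (ψ h * ψ h)) :=
        calc ψ h * ψ h * h = ψ h * (ψ h * h) := by group
          _ = (ψ h * c) * (h * ψ h) := by rw [hba]; group
          _ = c * (ψ h * h) * ψ h := by rw [hcc _ (hmem hh)]; group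
          _ = _ := by rw [hba]; group
      rw [hss, hs h hh] at h1
      exact right_eq_mul.1 h1
    have hy4 : y ^ 4 = 1 := by
      rw [show 4 = 2 * 2 from rfl, pow_mul, pow_two y, hy2, pow_two, hc2]
    exact fixed_of_mul_fixed hN ψ hψ (hfix y hy4) (by rw [hy, mul_inv_cancel_left])
  refine MulEquiv.ext fun n => ?_
  show ψ n = n
  have hd : n⁻¹ * ψ n ∈ Subgroup.centralizer (H : Set N) := by
    intro h hh
    have hnn : n * h * n⁻¹ ∈ H := Subgroup.Normal.conj_mem inferInstance h hh n
    have h1 : ψ n * h * (ψ n)⁻¹ = n * h * n⁻¹ := by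
      have h2 := hHfix _ hnn
      rw [map_mul, map_mul, map_inv, hHfix h hh] at h2
      exact h2
    have h3 : n⁻¹ * (ψ n * h * (ψ n)⁻¹) * ψ n = h * (n⁻¹ * ψ n) := by rw [h1]; group
    rw [← h3]; group
  exact fixed_of_mul_fixed hN ψ hψ (hHfix _ (hHC hd)) (mul_inv_cancel_left _ _).symm

/-- The last term of the derived series. -/
theorem exists_core : ∃ (K : Subgroup G) (n : ℕ), K.Characteristic ∧ ⁅K, K⁆ = K ∧
    derivedSeries G n = K ∧ ∀ M : Subgroup G, ⁅M, M⁆ = M → M ≤ K := by
  obtain ⟨n, hn⟩ : ∃ n, derivedSeries G (n + 1) = derivedSeries G n := by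
    obtain ⟨a, b, hab, h⟩ := Finite.exists_ne_map_eq_of_infinite (derivedSeries G)
    wlog hlt : a < b generalizing a b
    · exact this b a hab.symm h.symm (lt_of_le_of_ne (not_lt.1 hlt) hab.symm)
    exact ⟨a, le_antisymm (derivedSeries_antitone G (Nat.le_succ a))
      (h.le.trans (derivedSeries_antitone G hlt))⟩
  refine ⟨derivedSeries G n, n, inferInstance, (derivedSeries_succ G n).symm.trans hn, rfl, fun M hM => ?_⟩
  have h : ∀ k, M ≤ derivedSeries G k := by
    intro k
    induction k with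
    | zero => exact le_top
    | succ k ih => rw [derivedSeries_succ, ← hM]; exact Subgroup.commutator_mono ih ih
  exact h n

theorem component_perfect {L : Subgroup G} (hL : Cfsg.IsComponent L) : ⁅L, L⁆ = L :=
  CfsgLib.Components.component_commutator_self hL

theorem component_not_odd {L : Subgroup G} (hL : Cfsg.IsComponent L) : 2 ∣ Nat.card L := by
  by_contra h
  haveI : Group.IsSolvable L :=
    CfsgLib.PF.oddSolvable L (Nat.odd_iff.2 (Nat.two_dvd_ne_zero.1 h))
  exact CfsgLib.Components.component_not_isSolvable hL inferInstance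

theorem component_exists_odd_prime {L : Subgroup G} (hL : Cfsg.IsComponent L) :
    ∃ p : ℕ, p.Prime ∧ p ≠ 2 ∧ p ∣ Nat.card L := by
  by_contra h
  push Not at h
  haveI : Fact (Nat.Prime 2) := ⟨Nat.prime_two⟩
  have h2 : IsPGroup 2 L := IsPGroup.of_card (n := (Nat.card L).primeFactorsList.length)
    (Nat.eq_prime_pow_of_unique_prime_dvd Nat.card_pos.ne' fun {d} hd hdvd => by
      by_contra hd2
      exact h d hd hd2 hdvd)
  haveI := h2.isNilpotent
  exact CfsgLib.Components.component_not_isSolvable hL inferInstance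

/-- A central element of a component of `p`-power order lies in `O_p(G)`. -/
theorem mem_pCore_of_mem_center {p : ℕ} [Fact p.Prime] {L : Subgroup G} (hL : Cfsg.IsComponent L)
    {z : G} (hz : z ∈ L) (hc : z ∈ Subgroup.centralizer (L : Set G)) {k : ℕ} (hk : orderOf z = p ^ k) :
    z ∈ Cfsg.pCore p G := by
  have hsn : (Subgroup.zpowers z).IsSubnormal := by
    have hle : Subgroup.zpowers z ≤ L := Subgroup.zpowers_le.2 hz
    have hn : ((Subgroup.zpowers z).subgroupOf L).Normal := by
      refine (Subgroup.normal_subgroupOf_iff_le_normalizer hle).2 fun g hg => ?_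
      refine Subgroup.centralizer_le_normalizer _ fun w hw => ?_
      obtain ⟨i, rfl⟩ := Subgroup.mem_zpowers_iff.1 hw
      exact (Commute.zpow_left (hc g hg).symm i).eq
    have h1 := hn.isSubnormal.trans' hL.1
    rwa [Subgroup.subgroupOf_map_subtype, inf_eq_left.2 hle] at h1
  exact CfsgLib.PCore.le_pCore_of_isSubnormal hsn
    (IsPGroup.of_card (n := k) (by rw [Nat.card_zpowers, hk])) (Subgroup.mem_zpowers z)

/-- Each component has a non-central element of a common small two-power order. -/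
theorem exists_noncentral_two (hG : Hom G) :
    ∃ d : ℕ, ∀ L : Subgroup G, Cfsg.IsComponent L →
      ∃ x ∈ L, x ∉ Subgroup.centralizer (L : Set G) ∧ orderOf x = d := by
  haveI : Fact (Nat.Prime 2) := ⟨Nat.prime_two⟩
  obtain ⟨K, n, hKc, hKp, -, hKmax⟩ := exists_core (G := G)
  haveI := hKc
  by_cases h2 : Cfsg.pCore 2 G = ⊥
  · refine ⟨2, fun L hL => ?_⟩
    obtain ⟨x, hx⟩ := exists_prime_orderOf_dvd_card' 2 (component_not_odd hL)
    refine ⟨x, x.2, fun hc => ?_, by rwa [Subgroup.orderOf_coe]⟩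
    have := mem_pCore_of_mem_center hL x.2 hc (k := 1) (by rw [Subgroup.orderOf_coe, hx, pow_one])
    rw [h2, Subgroup.mem_bot] at this
    rw [show x = 1 from Subtype.ext this, orderOf_one] at hx
    norm_num at hx
  · refine ⟨4, fun L hL => ?_⟩
    have hLK := hKmax L (component_perfect hL)
    have hinv : ∀ x : L, x * x = 1 → x ∈ Subgroup.center L := fun x hx =>
      Subgroup.mem_center_iff.2 fun y => Subtype.ext
        ((le_centralizer_of_pow_eq_one hG K hKp h2 (z := (x : G))
          (congrArg Subtype.val ((pow_two x).trans hx))).2 (hLK y.2) (x : G) rfl).symm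
    by_contra hall
    push Not at hall
    have hcen4 : ∀ x : L, x ^ 4 = 1 → x ∈ Subgroup.center L := by
      intro x hx
      by_cases hx2 : x * x = 1
      · exact hinv x hx2
      by_contra hxc
      refine hall x x.2 (fun hc => hxc (Subgroup.mem_center_iff.2 fun y => Subtype.ext (hc y y.2))) ?_
      rw [Subgroup.orderOf_coe]
      exact orderOf_eq_prime_pow (p := 2) (n := 1) (by rwa [pow_one, pow_two]) hx
    have hperf := commutator_subgroup_eq_top (component_perfect hL)
    refine not_dvd_of_frobeniusCond (p := 2) hperf ?_ (component_not_odd hL)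
    intro Q hQ g hg hcop
    have h1 : Subgroup.normalizerMonoidHom Q ⟨g, hg⟩ = 1 := by
      refine eq_one_of_fix_four hQ _ ?_ (fun m hm => Subtype.ext ?_) fun m hm => ?_
      · refine Odd.of_dvd_nat ?_ (orderOf_map_dvd _ _)
        rw [← Subgroup.orderOf_coe]
        exact hcop.odd_of_right
      · show g * (m : L) * g⁻¹ = m
        rw [Subgroup.mem_center_iff.1 (hcen4 _ (congrArg Subtype.val hm)) g, mul_inv_cancel_right]
      · exact Subgroup.mem_center_iff.2 fun y => Subtype.ext
          (Subgroup.mem_center_iff.1 (hinv _ (congrArg Subtype.val hm)) y)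
    intro y hy
    have h3 := congrArg Subtype.val (MulEquiv.congr_fun h1 ⟨y, hy⟩)
    change g * y * g⁻¹ = y at h3
    exact (mul_inv_eq_iff_eq_mul.1 h3).symm

theorem isComponent_map_aut (φ : G ≃* G) {L : Subgroup G} (hL : Cfsg.IsComponent L) :
    Cfsg.IsComponent (L.map φ.toMonoidHom) :=
  (CfsgLib.Components.map_component_eq_bot_or_isComponent φ.surjective hL).resolve_left fun h =>
    CfsgLib.Components.component_ne_bot hL
      ((Subgroup.map_eq_bot_iff_of_injective _ φ.injective).1 h)

/-- Components of a homogeneous group: at most one. -/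
theorem component_unique (hG : Hom G) {L₁ L₂ : Subgroup G} (h₁ : Cfsg.IsComponent L₁)
    (h₂ : Cfsg.IsComponent L₂) : L₁ = L₂ := by
  by_contra hne
  have hcom : ∀ {A B : Subgroup G}, Cfsg.IsComponent A → Cfsg.IsComponent B → A ≠ B →
      ∀ a ∈ A, ∀ b ∈ B, a * b = b * a := fun hA hB hne a ha b hb =>
    commutatorElement_eq_one_iff_mul_comm.1 (Subgroup.mem_bot.1
      ((CfsgLib.Components.commutator_components_eq_bot hA hB hne).le
        (Subgroup.commutator_mem_commutator ha hb)))
  obtain ⟨K, n, hKc, hKp, -, hKmax⟩ := exists_core (G := G)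
  haveI := hKc
  obtain ⟨d, hd⟩ := exists_noncentral_two hG
  obtain ⟨x₁, hx₁, -, hd₁⟩ := hd L₁ h₁
  obtain ⟨x₂, hx₂, hn₂, hd₂⟩ := hd L₂ h₂
  obtain ⟨φ, hφ⟩ := hG.exists_map_eq (hd₁.trans hd₂.symm)
  have hmap : L₁.map φ.toMonoidHom = L₂ := by
    by_contra hne'
    have hx : x₂ ∈ L₁.map φ.toMonoidHom := hφ ▸ Subgroup.mem_map_of_mem _ hx₁
    exact hn₂ fun y hy => (hcom (isComponent_map_aut φ h₁) h₂ hne' x₂ hx y hy).symm
  have hcard : Nat.card L₂ = Nat.card L₁ := by
    rw [← hmap, Subgroup.card_map_of_injective φ.injective]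
  obtain ⟨p, hp, hp2, hpd⟩ := component_exists_odd_prime h₁
  haveI : Fact p.Prime := ⟨hp⟩
  have hcore : Cfsg.pCore p G = ⊥ := pCore_eq_bot_of_dvd hG K hKp hp2
    (hpd.trans (Subgroup.card_dvd_of_le (hKmax L₁ (component_perfect h₁))))
  obtain ⟨a₁, ha₁⟩ := exists_prime_orderOf_dvd_card' p hpd
  obtain ⟨a₂, ha₂⟩ := exists_prime_orderOf_dvd_card' p (hcard ▸ hpd)
  rw [← Subgroup.orderOf_coe] at ha₁ ha₂
  have hnc : ∀ {L : Subgroup G}, Cfsg.IsComponent L → ∀ a ∈ L, orderOf a = p →
      a ∉ Subgroup.centralizer (L : Set G) := fun hL a ha hao hc => by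
    have := mem_pCore_of_mem_center hL ha hc (k := 1) (by rw [hao, pow_one])
    rw [hcore, Subgroup.mem_bot] at this
    rw [this, orderOf_one] at hao
    exact hp.ne_one hao.symm
  have hc12 : Commute (a₁ : G) a₂ := hcom h₁ h₂ hne _ a₁.2 _ a₂.2
  have ha12 : orderOf ((a₁ : G) * a₂) = p := by
    refine orderOf_eq_prime ?_ fun h => hnc h₁ _ a₁.2 ha₁ fun y hy => ?_
    · rw [hc12.mul_pow, show (a₁ : G) ^ p = 1 by rw [← ha₁, pow_orderOf_eq_one],
        show (a₂ : G) ^ p = 1 by rw [← ha₂, pow_orderOf_eq_one], one_mul]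
    · have h3 : (a₁ : G) ∈ L₂ := by
        rw [eq_inv_of_mul_eq_one_left h]
        exact L₂.inv_mem a₂.2
      exact hcom h₁ h₂ hne y hy _ h3
  obtain ⟨ψ, hψ⟩ := hG.exists_map_eq (ha₁.trans ha12.symm)
  have hprod : (a₁ : G) * a₂ ∈ L₁.map ψ.toMonoidHom := hψ ▸ Subgroup.mem_map_of_mem _ a₁.2
  by_cases h3 : L₁.map ψ.toMonoidHom = L₁
  · rw [h3] at hprod
    have h4 : (a₂ : G) ∈ L₁ := by
      have := L₁.mul_mem (L₁.inv_mem a₁.2) hprod
      rwa [inv_mul_cancel_left] at this
    exact hnc h₂ _ a₂.2 ha₂ fun y hy => (hcom h₁ h₂ hne _ h4 y hy).symm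
  · refine hnc h₁ _ a₁.2 ha₁ fun y hy => ?_
    have e1 : Commute y ((a₁ : G) * a₂) := hcom h₁ (isComponent_map_aut ψ h₁) (Ne.symm h3) y hy _ hprod
    have e2 : Commute y (a₂ : G) := hcom h₁ h₂ hne y hy _ a₂.2
    have e3 := e1.mul_right e2.inv_right
    rw [mul_inv_cancel_right] at e3
    exact e3.eq

/-- A non-solvable homogeneous group has a characteristic component. -/
theorem exists_component (hG : Hom G) (hns : ¬ Group.IsSolvable G) :
    ∃ L : Subgroup G, Cfsg.IsComponent L ∧ L.Characteristic ∧ Cfsg.layer G = L := by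
  obtain ⟨K, n, hKc, hKp, hKn, -⟩ := exists_core (G := G)
  haveI := hKc
  obtain ⟨L, hL⟩ : ∃ L : Subgroup G, Cfsg.IsComponent L := by
    by_contra h
    push Not at h
    have hlay : Cfsg.layer G = ⊥ := le_bot_iff.1 (sSup_le fun L hL => absurd hL (h L))
    have hKF : K ≤ Cfsg.fittingSubgroup G := by
      refine le_trans ?_ CfsgLib.Components.centralizer_generalizedFitting_le_fitting
      rw [Cfsg.generalizedFittingSubgroup, hlay, bot_sup_eq]
      exact le_centralizer_fitting hG K hKp
    haveI := CfsgLib.Components.fitting_isSolvable (G := G)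
    have hKs : Group.IsSolvable K :=
      Group.isSolvable_of_isSolvable_injective (Subgroup.inclusion_injective hKF)
    exact hns ⟨⟨n, hKn.trans (eq_bot_of_perfect_solvable K hKp hKs)⟩⟩
  have hlay : Cfsg.layer G = L :=
    le_antisymm (sSup_le fun M hM => (component_unique hG hM hL).le)
      (CfsgLib.Components.component_le_layer hL)
  refine ⟨L, hL, Subgroup.characteristic_iff_map_eq.2 fun φ => ?_, hlay⟩
  exact component_unique hG (isComponent_map_aut φ hL) hL

end CfsgLib.Homogeneous
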