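import Cfsg.Agent.Lib.Homogeneous.Linear

/-!
# Normal subgroups of the general linear group: dimension two and consequences

Dimension two with `p ≥ 5`, membership of the elements of determinant one, a fixed point free
`p'`-element, and perfect normal subgroups.
-/

set_option autoImplicit false
set_option linter.unusedSimpArgs false
set_option linter.style.haveILetI false

namespace CfsgLib.Homogeneous

open Module
open scoped commutatorElement

variable {p : ℕ} [Fact p.Prime] {V : Type*} [AddCommGroup V] [Module (ZMod p) V] [Finite V]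

/-- In dimension two, `p ≥ 5`, a non-scalar normal subgroup contains all transvections. -/
theorem allT_of_nonscalar_two {J : Subgroup (V ≃ₗ[ZMod p] V)} (hJ : J.Normal) {u : V ≃ₗ[ZMod p] V}
    (hu : u ∈ J) (hn : Nonscalar u) (hd : finrank (ZMod p) V = 2) (hp5 : 5 ≤ p) : AllT J := by
  obtain ⟨a, ha⟩ := hn
  have ha0 : a ≠ 0 := Nonscalar.ne_zero ha
  have hli := linearIndependent_pair_of_notMem ha0 ha
  let B : Basis (Fin 2) (ZMod p) V :=
    basisOfLinearIndependentOfCardEqFinrank hli (by rw [Fintype.card_fin, hd])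
  have hB : ∀ i, B i = ![a, u a] i := fun i => by
    simp [B, coe_basisOfLinearIndependentOfCardEqFinrank]
  have hBa : B 0 = a := hB 0
  have hBb : B 1 = u a := hB 1
  set b := u a with hbdef
  set f : Dual (ZMod p) V := B.coord 0 with hf
  have hfa : f a = 1 := by rw [hf, ← hBa]; simp [B.coord_apply]
  have hfb : f b = 0 := by rw [hf, ← hBb]; simp [B.coord_apply]
  -- scale the first basis vector
  have h2 : (2 : ZMod p) ≠ 0 := by
    intro h
    have h' : ((2 : ℕ) : ZMod p) = 0 := by exact_mod_cast h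
    rw [ZMod.natCast_eq_zero_iff] at h'
    have := Nat.le_of_dvd (by norm_num) h'
    omega
  have h3 : (3 : ZMod p) ≠ 0 := by
    intro h
    have h' : ((3 : ℕ) : ZMod p) = 0 := by exact_mod_cast h
    rw [ZMod.natCast_eq_zero_iff] at h'
    have := Nat.le_of_dvd (by norm_num) h'
    omega
  set t : (ZMod p)ˣ := Units.mk0 2 h2 with ht
  set D : V ≃ₗ[ZMod p] V := B.equiv (B.unitsSMul ![t, 1]) (Equiv.refl _) with hD
  have hDa : D a = (2 : ZMod p) • a := by
    rw [← hBa, hD, Basis.equiv_apply, Equiv.refl_apply, Basis.unitsSMul_apply]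
    simp [ht, Units.smul_def]
  have hDb : D b = b := by
    rw [← hBb, hD, Basis.equiv_apply, Equiv.refl_apply, Basis.unitsSMul_apply]
    simp [Units.smul_def]
  -- the action of `u` on the second basis vector
  set c : ZMod p := f (u b) with hc
  set τ : ZMod p := B.coord 1 (u b) with hτ
  have hub : u b = c • a + τ • b := by
    have := B.sum_repr (u b)
    rw [Fin.sum_univ_two, hBa, hBb] at this
    rw [hc, hτ, hf, B.coord_apply, B.coord_apply]
    exact this.symm
  have hc0 : c ≠ 0 := by
    intro h0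
    rw [h0, zero_smul, zero_add] at hub
    have h1 : b = τ • a := u.injective (by rw [map_smul, ← hbdef, hub])
    exact ha (Submodule.mem_span_singleton.2 ⟨τ, h1.symm⟩)
  set M : V ≃ₗ[ZMod p] V := ⁅u, D⁆ with hM
  have hMJ : M ∈ J := commutator_mem_of_normal hJ hu D
  have hMmul : M * (D * u) = u * D := by rw [hM, commutatorElement_def]; group
  have hMv : ∀ v, M (D (u v)) = u (D v) := fun v => by
    have := LinearEquiv.congr_fun hMmul v
    simpa using this
  have hMb : M b = (2 : ZMod p) • b := by
    have := hMv a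
    rwa [← hbdef, hDb, hDa, map_smul, ← hbdef] at this
  have hMa : f (M a) = (2 : ZMod p)⁻¹ := by
    have := congrArg f (hMv b)
    rw [hDb, hub, map_add, map_smul, map_smul, hDb, hDa, map_add, map_smul, map_smul, map_smul,
      hMb, map_add, map_smul, map_smul, map_smul, map_add, map_smul, map_smul, hfa, hfb] at this
    simp only [smul_eq_mul, mul_zero, add_zero, mul_one] at this
    apply eq_inv_of_mul_eq_one_left
    rw [map_smul, hfb, smul_zero, add_zero] at this
    exact mul_left_cancel₀ hc0 (by rw [mul_one]; linear_combination this)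
  have hfM : ∀ w, f (M w) = (2 : ZMod p)⁻¹ * f w := by
    intro w
    have : f.comp (M : V ≃ₗ[ZMod p] V).toLinearMap = (2 : ZMod p)⁻¹ • f := by
      refine B.ext fun i => ?_
      fin_cases i
      · simp [hBa, hMa, hfa]
      · simp [hBb, hMb, hfb]
    simpa using LinearMap.congr_fun this w
  have hfMi : ∀ w, f ((M⁻¹ : V ≃ₗ[ZMod p] V) w) = 2 * f w := by
    intro w
    have := hfM ((M⁻¹ : V ≃ₗ[ZMod p] V) w)
    rw [← LinearEquiv.mul_apply, mul_inv_cancel, oneApply] at this
    rw [this, ← mul_assoc, mul_inv_cancel₀ h2, one_mul]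
  set f' : Dual (ZMod p) V := (3 : ZMod p) • f with hf'
  have hf'b : f' b = 0 := by simp [hf', hfb]
  have hb0 : b ≠ 0 := hBb ▸ B.ne_zero 1
  have hf'0 : f' ≠ 0 := fun h => h3 (by simpa [hf', hfa] using LinearMap.congr_fun h a)
  refine allT_of_mem hJ hf'b hf'0 hb0 ?_
  have h1 := commutator_mem_of_normal hJ hMJ (LinearEquiv.transvection hfb)
  rw [commutator_transvection] at h1
  convert h1 using 1
  refine LinearEquiv.ext fun w => ?_
  simp only [LinearEquiv.mul_apply, tvApply, LinearMap.neg_apply, LinearMap.comp_apply,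
    LinearEquiv.coe_coe, map_add, map_smul, hMb, hfMi, hfb, hf', LinearMap.smul_apply, smul_eq_mul]
  module

/-- The special linear group is inside a normal subgroup containing all transvections. -/
theorem mem_of_det_eq_one {J : Subgroup (V ≃ₗ[ZMod p] V)} (hT : AllT J) {e : V ≃ₗ[ZMod p] V}
    (he : LinearEquiv.det e = 1) : e ∈ J := by
  classical
  set n := finrank (ZMod p) V
  let b : Basis (Fin n) (ZMod p) V := Module.finBasis (ZMod p) V
  let Ψ : Matrix.SpecialLinearGroup (Fin n) (ZMod p) →* (V ≃ₗ[ZMod p] V) :=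
    { toFun := fun A => b.equivFun.trans ((Matrix.SpecialLinearGroup.toLin' A).trans b.equivFun.symm)
      map_one' := LinearEquiv.ext fun v => by simp [oneApply]
      map_mul' := fun A B => LinearEquiv.ext fun v => by
        simp only [LinearEquiv.mul_apply, LinearEquiv.trans_apply, LinearEquiv.apply_symm_apply, map_mul] }
  have htop := Cfsg.Agent.Classical.sl_subgroup_eq_top_of_transvection_mem (J.comap Ψ)
    (fun i j hij c => by
      rw [Subgroup.mem_comap]
      have h0 : (c • b.coord j) (b i) = 0 := by simp [b.coord_apply, hij]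
      convert hT (b i) (c • b.coord j) h0 using 1
      refine LinearEquiv.ext fun v => b.equivFun.injective ?_
      rw [show Ψ (Matrix.SpecialLinearGroup.transvection hij c) v = b.equivFun.symm
        (Matrix.SpecialLinearGroup.toLin' (Matrix.SpecialLinearGroup.transvection hij c) (b.equivFun v))
          from rfl, LinearEquiv.apply_symm_apply, tvApply, map_add, map_smul]
      funext k
      simp [Matrix.SpecialLinearGroup.toLin'_apply, Matrix.SpecialLinearGroup.transvection_coe,
        Matrix.add_mulVec, Matrix.single_mulVec_eq, Pi.single_apply, b.coord_apply, Finsupp.single_apply,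
        eq_comm])
  let A : Matrix.SpecialLinearGroup (Fin n) (ZMod p) :=
    ⟨LinearMap.toMatrix b b (e : V →ₗ[ZMod p] V), by
      rw [LinearMap.det_toMatrix, ← LinearEquiv.coe_det, he, Units.val_one]⟩
  have hA : Ψ A = e := by
    refine LinearEquiv.ext fun v => b.equivFun.injective ?_
    rw [show Ψ A v = b.equivFun.symm (Matrix.SpecialLinearGroup.toLin' A (b.equivFun v)) from rfl,
      LinearEquiv.apply_symm_apply, Matrix.SpecialLinearGroup.toLin'_apply, Matrix.toLin'_apply]
    exact LinearMap.toMatrix_mulVec_repr b b (e : V →ₗ[ZMod p] V) v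
  rw [← hA]
  exact (htop.ge (Subgroup.mem_top A) : A ∈ J.comap Ψ)

/-- A fixed point free `p'`-element of determinant one. -/
theorem exists_fpf {J : Subgroup (V ≃ₗ[ZMod p] V)} (hT : AllT J) (hd : 2 ≤ finrank (ZMod p) V) :
    ∃ r ∈ J, (orderOf r).Coprime p ∧ ∀ v, r v = v → v = 0 := by
  classical
  set n := finrank (ZMod p) V with hn
  have hn0 : n ≠ 0 := by omega
  set F := GaloisField p n
  haveI : Fintype F := Fintype.ofFinite F
  haveI : Module.Finite (ZMod p) V := Module.Finite.of_finite
  let e : V ≃ₗ[ZMod p] F := LinearEquiv.ofFinrankEq V F (by rw [GaloisField.finrank p hn0])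
  let Ψ : (F ≃ₗ[ZMod p] F) →* (V ≃ₗ[ZMod p] V) :=
    { toFun := fun g => e.trans (g.trans e.symm)
      map_one' := LinearEquiv.ext fun v => by simp [oneApply]
      map_mul' := fun g h => LinearEquiv.ext fun v => by simp }
  obtain ⟨c, hc⟩ := IsCyclic.exists_generator (α := Fˣ)
  let μ : Fˣ →* (F ≃ₗ[ZMod p] F) := DistribMulAction.toModuleAut (ZMod p) F
  have hμ : ∀ (x : Fˣ) (v : F), μ x v = (x : F) * v := fun x v => rfl
  let φ : F ≃ₗ[ZMod p] F :=
    { (frobeniusEquiv F p).toAddEquiv with
      map_smul' := ZMod.map_smul (frobeniusEquiv F p).toAddEquiv }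
  have hφ : ∀ v : F, φ v = v ^ p := fun v => rfl
  set r := Ψ ⁅φ, μ c⁆ with hr
  have hcomm : ⁅φ, μ c⁆ = μ (c ^ (p - 1)) := by
    rw [commutatorElement_def, mul_inv_eq_iff_eq_mul, mul_inv_eq_iff_eq_mul]
    refine LinearEquiv.ext fun v => ?_
    simp only [LinearEquiv.mul_apply, hμ, hφ, Units.val_pow_eq_pow_val, mul_pow]
    rw [← mul_assoc (((c : Fˣ) : F) ^ (p - 1)), ← pow_succ, Nat.sub_add_cancel (Fact.out : p.Prime).one_le]
  have hcard : Nat.card Fˣ = p ^ n - 1 := by
    rw [Nat.card_units, GaloisField.card p n hn0]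
  have hord : orderOf c = p ^ n - 1 := by rw [orderOf_eq_card_of_forall_mem_zpowers hc, hcard]
  refine ⟨r, mem_of_det_eq_one hT ?_, ?_, fun v hv => ?_⟩
  · rw [hr, ← MonoidHom.comp_apply, map_commutatorElement]
    exact (commutatorElement_eq_one_iff_commute.2 (Commute.all _ _))
  · have h1 : r ^ (p ^ n - 1) = 1 := by
      rw [hr, hcomm, ← map_pow, ← map_pow, ← pow_mul, mul_comm, pow_mul, ← hord, pow_orderOf_eq_one,
        one_pow, map_one, map_one]
    refine Nat.Coprime.coprime_dvd_left (orderOf_dvd_of_pow_eq_one h1) ?_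
    rw [Nat.coprime_comm, (Fact.out : p.Prime).coprime_iff_not_dvd]
    intro h
    have h1' : 1 ≤ p ^ n := Nat.one_le_pow _ _ (Fact.out : p.Prime).pos
    have h2 : p ∣ 1 := (Nat.dvd_add_right h).1 (by
      rw [Nat.sub_add_cancel h1']; exact dvd_pow_self p hn0)
    exact (Fact.out : p.Prime).not_dvd_one h2
  · have h1 : ((c ^ (p - 1) : Fˣ) : F) * e v = e v := by
      have := congrArg e hv
      rw [hr, hcomm] at this
      rw [show Ψ (μ (c ^ (p - 1))) v = e.symm (μ (c ^ (p - 1)) (e v)) from rfl,
        LinearEquiv.apply_symm_apply, hμ] at this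
      exact this
    by_contra hv0
    have h2 : e v ≠ 0 := fun h => hv0 (e.injective (by rw [h, map_zero]))
    have h3 : c ^ (p - 1) = 1 := Units.ext (mul_right_cancel₀ h2 (by rw [h1, Units.val_one, one_mul]))
    have h4 := Nat.le_of_dvd (by have := (Fact.out : p.Prime).two_le; omega) (orderOf_dvd_of_pow_eq_one h3)
    rw [hord] at h4
    have h5 : p * p ≤ p ^ n := by
      calc p * p = p ^ 2 := (sq p).symm
        _ ≤ p ^ n := Nat.pow_le_pow_right (Fact.out : p.Prime).pos hd
    have := (Fact.out : p.Prime).two_le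
    have h6 : 2 * p ≤ p * p := Nat.mul_le_mul_right p this
    omega

theorem eq_bot_of_perfect_solvable {G : Type*} [Group G] (J : Subgroup G) (hp : ⁅J, J⁆ = J)
    (hs : Group.IsSolvable J) : J = ⊥ := by
  by_contra hne
  haveI : Nontrivial J := (Subgroup.nontrivial_iff_ne_bot J).2 hne
  have h := Group.IsSolvable.commutator_lt_top_of_nontrivial J
  have h2 := Subgroup.map_subtype_lt_map_subtype.2 h
  rw [Subgroup.map_subtype_commutator, hp, ← MonoidHom.range_eq_map, Subgroup.range_subtype] at h2
  exact lt_irrefl _ h2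

/-- A non-trivial perfect normal subgroup contains all transvections. -/
theorem allT_of_perfect {J : Subgroup (V ≃ₗ[ZMod p] V)} (hJ : J.Normal) (hperf : ⁅J, J⁆ = J)
    (hne : J ≠ ⊥) : AllT J := by
  haveI : Finite (V ≃ₗ[ZMod p] V) := Finite.of_injective _ DFunLike.coe_injective
  obtain ⟨u, hu, hn⟩ : ∃ u ∈ J, Nonscalar u := by
    by_contra h
    push Not at h
    refine hne (eq_bot_of_perfect_solvable J hperf (Group.isSolvable_of_comm fun x y => ?_))
    exact Subtype.ext (mul_comm_of_not_nonscalar (h _ x.2) (h _ y.2))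
  by_cases hd3 : 3 ≤ finrank (ZMod p) V
  · exact allT_of_nonscalar hJ hu hn hd3
  obtain ⟨a, ha⟩ := hn
  have hd2 : finrank (ZMod p) V = 2 := by
    have := (linearIndependent_pair_of_notMem (Nonscalar.ne_zero ha) ha).fintype_card_le_finrank
    rw [Fintype.card_fin] at this
    omega
  by_cases hp5 : 5 ≤ p
  · exact allT_of_nonscalar_two hJ hu ⟨a, ha⟩ hd2 hp5
  refine allT_of_dvd hJ (not_not.1 fun hdvd => hne (eq_bot_of_perfect_solvable J hperf ?_))
  have hcard : Nat.card (V ≃ₗ[ZMod p] V) = (p ^ 2 - 1) * (p ^ 2 - p) := by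
    let B : Basis (Fin 2) (ZMod p) V := Module.finBasisOfFinrankEq (ZMod p) V hd2
    rw [← Nat.card_congr ((Matrix.GeneralLinearGroup.toLin' B).trans
      (LinearMap.GeneralLinearGroup.generalLinearEquiv (ZMod p) V)).toEquiv, Matrix.card_GL_field,
      Fin.prod_univ_two, ZMod.card]
    simp
  have hdv : Nat.card J ∣ (p ^ 2 - 1) * (p ^ 2 - p) := hcard ▸ Subgroup.card_subgroup_dvd_card J
  have hp2 := (Fact.out : p.Prime).two_le
  have hp4 : p ≠ 4 := fun h => by
    have := (Fact.out : p.Prime)
    rw [h] at this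
    norm_num at this
  have hcop : (Nat.card J).Coprime p := ((Fact.out : p.Prime).coprime_iff_not_dvd.2 hdvd).symm
  rcases (show p = 2 ∨ p = 3 by omega) with rfl | rfl
  · have h3 : Nat.card J ∣ 3 := (hcop.dvd_of_dvd_mul_right (show Nat.card J ∣ 3 * 2 by simpa using hdv))
    haveI : Fact (Nat.Prime 3) := ⟨by norm_num⟩
    haveI := (IsPGroup.of_card_dvd_pow (p := 3) (n := 1) (by simpa using h3) : IsPGroup 3 J).isNilpotent
    infer_instance
  · have h16 : Nat.card J ∣ 16 :=
      hcop.dvd_of_dvd_mul_right (show Nat.card J ∣ 16 * 3 by simpa using hdv)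
    haveI : Fact (Nat.Prime 2) := ⟨Nat.prime_two⟩
    haveI := (IsPGroup.of_card_dvd_pow (p := 2) (n := 4) (by simpa using h16) : IsPGroup 2 J).isNilpotent
    infer_instance

end CfsgLib.Homogeneous
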