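import Cfsg.Agent.Lib.Homogeneous.Basic
import Cfsg.Agent.Lib.Homogeneous.LinearTwo
import Cfsg.Agent.Lib.Coprime.Action
import Cfsg.Prelude.Def_Transfer

/-!
# An elementary abelian subgroup as a vector space

The automorphisms of an elementary abelian subgroup `U` as `GL_n(p)`; lifting lemmas.
-/

set_option autoImplicit false
set_option linter.unusedSimpArgs false
set_option linter.style.haveILetI false

namespace CfsgLib.Homogeneous

open scoped IsMulCommutative

universe u

variable {G : Type u} [Group G]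

/-- Coordinates on an elementary abelian subgroup. -/
structure Model (p n : ℕ) (U : Subgroup G) where
  ι : U ≃* Multiplicative (Fin n → ZMod p)

variable {p n : ℕ}

theorem exists_model [Fact p.Prime] [Finite G] {U : Subgroup G} (hU : Cfsg.IsElementaryAbelian p U) :
    ∃ n, Nonempty (Model p n U) := by
  haveI := hU.1
  haveI : Module (ZMod p) (Additive U) := AddCommGroup.zmodModule fun x => by
    apply Additive.toMul.injective
    rw [toMul_nsmul, toMul_zero]
    exact Subtype.ext (by simpa using hU.2 _ (Additive.toMul x).2)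
  haveI : Finite (Additive U) := inferInstanceAs (Finite U)
  haveI : Module.Finite (ZMod p) (Additive U) := Module.Finite.of_finite
  exact ⟨_, ⟨⟨AddEquiv.toMultiplicativeRight
    (Module.finBasis (ZMod p) (Additive U)).equivFun.toAddEquiv⟩⟩⟩

namespace Model

variable {U : Subgroup G} (m : Model p n U)

/-- The vector of an element. -/
def vec (u : U) : Fin n → ZMod p := Multiplicative.toAdd (m.ι u)

/-- The element of a vector. -/
def elt (v : Fin n → ZMod p) : U := m.ι.symm (Multiplicative.ofAdd v)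

@[simp] theorem vec_elt (v : Fin n → ZMod p) : m.vec (m.elt v) = v := by simp [vec, elt]

@[simp] theorem elt_vec (u : U) : m.elt (m.vec u) = u := by simp [vec, elt]

theorem vec_mul (u v : U) : m.vec (u * v) = m.vec u + m.vec v := by simp [vec]

theorem vec_inv (u : U) : m.vec u⁻¹ = - m.vec u := by simp [vec]

theorem vec_one : m.vec 1 = 0 := by simp [vec]

theorem vec_injective : Function.Injective m.vec := fun a b h => by
  rw [← m.elt_vec a, ← m.elt_vec b, h]

theorem vec_eq_zero {u : U} : m.vec u = 0 ↔ u = 1 := by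
  rw [← m.vec_one]; exact m.vec_injective.eq_iff

variable [NeZero p]

/-- The automorphisms as linear maps. -/
def Φ : MulAut U ≃* ((Fin n → ZMod p) ≃ₗ[ZMod p] (Fin n → ZMod p)) where
  toFun e :=
    {
      toFun := fun v => m.vec (e (m.elt v))
      invFun := fun v => m.vec (e.symm (m.elt v))
      left_inv := fun v => by simp
      right_inv := fun v => by simp
      map_add' := fun v w => by simp [vec, elt, ofAdd_add]
      map_smul' := fun c v => ZMod.map_smul
        (AddMonoidHom.mk' (fun v => m.vec (e (m.elt v))) fun v w => by simp [vec, elt, ofAdd_add]) c v }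
  invFun g :=
    { toFun := fun u => m.elt (g (m.vec u))
      invFun := fun u => m.elt (g.symm (m.vec u))
      left_inv := fun u => by simp
      right_inv := fun u => by simp
      map_mul' := fun u v => m.vec_injective (by simp [m.vec_mul]) }
  left_inv e := MulEquiv.ext fun u => by simp
  right_inv g := LinearEquiv.ext fun v => by simp
  map_mul' e f := LinearEquiv.ext fun v => by
    show m.vec ((e * f) (m.elt v)) = m.vec (e (m.elt (m.vec (f (m.elt v)))))
    rw [m.elt_vec, MulAut.mul_apply]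

theorem Φ_apply (e : MulAut U) (u : U) : m.Φ e (m.vec u) = m.vec (e u) := by
  show m.vec (e (m.elt (m.vec u))) = _
  rw [m.elt_vec]

theorem Φ_apply' (e : MulAut U) (v : Fin n → ZMod p) : m.Φ e v = m.vec (e (m.elt v)) := rfl

/-- The linear maps induced by conjugation with elements of `H`. -/
def img (H : Subgroup G) : Subgroup ((Fin n → ZMod p) ≃ₗ[ZMod p] (Fin n → ZMod p)) :=
  (autImg H U).map m.Φ.toMonoidHom

theorem mem_img {H : Subgroup G} {L : (Fin n → ZMod p) ≃ₗ[ZMod p] (Fin n → ZMod p)} :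
    L ∈ m.img H ↔ ∃ g ∈ H, ∀ u : U, ∃ u' : U, (u' : G) = g * u * g⁻¹ ∧ L (m.vec u) = m.vec u' := by
  constructor
  · rintro ⟨e, ⟨g, hg, he⟩, rfl⟩
    exact ⟨g, hg, fun u => ⟨e u, he u, m.Φ_apply e u⟩⟩
  · rintro ⟨g, hg, h⟩
    refine ⟨m.Φ.symm L, ⟨g, hg, fun u => ?_⟩, m.Φ.apply_symm_apply L⟩
    obtain ⟨u', hu', hL⟩ := h u
    rw [← hu', ← m.elt_vec u', ← hL]
    rfl

theorem img_mono {H K : Subgroup G} (h : H ≤ K) : m.img H ≤ m.img K :=
  Subgroup.map_mono (autImg_mono h U)

theorem img_normal (hG : Hom G) (H : Subgroup G) [H.Characteristic] : (m.img H).Normal :=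
  (hG.autImg_normal H U).map _ m.Φ.surjective

/-- Conjugation as a homomorphism on the normaliser. -/
def action (U : Subgroup G) (m : Model p n U) :
    Subgroup.normalizer (U : Set G) →* ((Fin n → ZMod p) ≃ₗ[ZMod p] (Fin n → ZMod p)) :=
  m.Φ.toMonoidHom.comp (Subgroup.normalizerMonoidHom U)

theorem action_apply (g : Subgroup.normalizer (U : Set G)) (u : U) :
    ∃ u' : U, (u' : G) = g * u * (g : G)⁻¹ ∧ Model.action U m g (m.vec u) = m.vec u' :=
  ⟨_, conjOn_apply g.2 u, m.Φ_apply (conjOn g.2) u⟩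

theorem action_mem_img {H : Subgroup G} (g : Subgroup.normalizer (U : Set G)) (hg : (g : G) ∈ H) :
    Model.action U m g ∈ m.img H :=
  ⟨conjOn g.2, conjOn_mem_autImg hg g.2, rfl⟩

theorem exists_action_eq [Finite G] {H : Subgroup G}
    {L : (Fin n → ZMod p) ≃ₗ[ZMod p] (Fin n → ZMod p)} (hL : L ∈ m.img H) :
    ∃ g : Subgroup.normalizer (U : Set G), (g : G) ∈ H ∧ Model.action U m g = L := by
  obtain ⟨e, ⟨g, hg, he⟩, rfl⟩ := hL
  have hgN := mem_normalizer_of_autImg he
  refine ⟨⟨g, hgN⟩, hg, ?_⟩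
  refine congrArg m.Φ (MulEquiv.ext fun u => Subtype.ext ?_)
  rw [he]
  exact conjOn_apply hgN u

theorem action_eq_one_iff (g : Subgroup.normalizer (U : Set G)) :
    Model.action U m g = 1 ↔ (g : G) ∈ Subgroup.centralizer (U : Set G) := by
  rw [← conjOn_eq_one_iff g.2]
  exact map_eq_one_iff m.Φ.toMonoidHom m.Φ.injective

end Model

open Pointwise in
/-- Frattini: modulo a normalised subgroup every element moves to the normaliser of its Sylow. -/
theorem exists_mul_mem_normalizer [Finite G] {r : ℕ} [Fact r.Prime] {K : Subgroup G} (Q : Sylow r K)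
    {g : G} (hg : g ∈ Subgroup.normalizer (K : Set G)) :
    ∃ k ∈ K, k * g ∈ Subgroup.normalizer (((Q : Subgroup K).map K.subtype : Subgroup G) : Set G) := by
  obtain ⟨k, hk⟩ := CfsgLib.Coprime.exists_conj_sylow Q hg
  refine ⟨(k : G)⁻¹, K.inv_mem k.2, Subgroup.mem_normalizer_fintype fun x hx => ?_⟩
  have h1 : g * x * g⁻¹ ∈ MulAut.conj g • (Q : Subgroup K).map K.subtype := by
    rw [CfsgLib.Coprime.mem_conj_smul]
    have e : g⁻¹ * (g * x * g⁻¹) * g = x := by group
    rw [e]; exact hx
  rw [hk, CfsgLib.Coprime.mem_conj_smul] at h1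
  have e : (k : G)⁻¹ * g * x * ((k : G)⁻¹ * g)⁻¹ = (k : G)⁻¹ * (g * x * g⁻¹) * k := by group
  rw [e]; exact h1

/-- The `p`-part of an element. -/
theorem exists_pow_pPart [Finite G] [Fact p.Prime] (g : G) :
    ∃ e : ℕ, (∃ k, orderOf (g ^ e) = p ^ k) ∧ ∀ i, p ^ i ∣ orderOf g → e ≡ 1 [MOD p ^ i] := by
  obtain ⟨k, m, hm, hg⟩ := Nat.exists_eq_pow_mul_and_not_dvd (orderOf_pos g).ne' p
    (Fact.out : p.Prime).ne_one
  have hcop : (p ^ k).Coprime m := ((Fact.out : p.Prime).coprime_iff_not_dvd.2 hm).pow_left k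
  obtain ⟨e, he1, he2⟩ := Nat.chineseRemainder hcop 1 0
  refine ⟨e, ?_, fun i hi => ?_⟩
  · obtain ⟨i, -, hi⟩ := (Nat.dvd_prime_pow Fact.out).1
      (show orderOf (g ^ e) ∣ p ^ k by
        refine orderOf_dvd_of_pow_eq_one ?_
        rw [← pow_mul, ← orderOf_dvd_iff_pow_eq_one, hg, mul_comm e]
        exact Nat.mul_dvd_mul_left _ (Nat.modEq_zero_iff_dvd.1 he2))
    exact ⟨i, hi⟩
  · have hpm : (p ^ i).Coprime m := ((Fact.out : p.Prime).coprime_iff_not_dvd.2 hm).pow_left i
    rw [hg] at hi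
    exact Nat.ModEq.of_dvd (hpm.dvd_of_dvd_mul_right hi) he1

/-- The `p`-part has the same image where the image has `p`-power order. -/
theorem map_pow_pPart [Fact p.Prime] {g : G} {e : ℕ}
    (he : ∀ i, p ^ i ∣ orderOf g → e ≡ 1 [MOD p ^ i]) {H : Type*} [Group H] (f : G →* H) {j : ℕ}
    (hj : (f g) ^ p ^ j = 1) : f (g ^ e) = f g := by
  obtain ⟨i, -, hi⟩ := (Nat.dvd_prime_pow Fact.out).1 (orderOf_dvd_of_pow_eq_one hj)
  rw [map_pow]
  conv_rhs => rw [← pow_one (f g)]
  rw [pow_eq_pow_iff_modEq, hi]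
  exact he i (hi ▸ orderOf_map_dvd f g)

end CfsgLib.Homogeneous
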