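import Cfsg.Agent.Lib.Homogeneous.Aniso
import Cfsg.Agent.Lib.PGroup.Critical

/-!
# Perfect groups acting on 2-groups and fixing the involutions

A perfect finite group acting on a finite 2-group whose involutions are central and fixed acts
trivially.
-/

set_option autoImplicit false
set_option linter.unusedSimpArgs false
set_option linter.style.haveILetI false

namespace CfsgLib.Homogeneous

open scoped commutatorElement

universe u w

variable {X : Type w} [Group X] [Finite X]

/-- A perfect group whose elements of odd order act trivially acts trivially. -/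
theorem eq_one_of_odd_trivial (hperf : commutator X = ⊤) {M : Type*} [Group M] (f : X →* M)
    (h : ∀ x, Odd (orderOf x) → f x = 1) : f = 1 := by
  haveI : Fact (Nat.Prime 2) := ⟨Nat.prime_two⟩
  haveI : Finite f.range := Finite.of_surjective _ f.rangeRestrict_surjective
  have hp : IsPGroup 2 f.range := by
    rintro ⟨_, x, rfl⟩
    obtain ⟨k, m, hm, hx⟩ := Nat.exists_eq_pow_mul_and_not_dvd (orderOf_pos x).ne' 2 (by norm_num)
    refine ⟨k, Subtype.ext ?_⟩
    show f x ^ 2 ^ k = 1
    rw [← map_pow]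
    refine h _ ?_
    have hk : 2 ^ k ∣ orderOf x := hx ▸ Dvd.intro m rfl
    rw [orderOf_pow_of_dvd (by positivity) hk, hx, Nat.mul_div_cancel_left _ (by positivity)]
    exact Nat.odd_iff.2 (Nat.two_dvd_ne_zero.1 hm)
  haveI := hp.isNilpotent
  have h1 : commutator f.range = ⊤ := by
    rw [commutator_def, ← Subgroup.map_top_of_surjective _ f.rangeRestrict_surjective,
      ← Subgroup.map_commutator]
    exact congrArg _ hperf
  have h2 : Subsingleton f.range := by
    by_contra hns
    rw [not_subsingleton_iff_nontrivial] at hns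
    exact (Group.IsSolvable.commutator_lt_top_of_nontrivial f.range).ne h1
  exact MonoidHom.ext fun x => congrArg Subtype.val (h2.elim (f.rangeRestrict x) 1)

/-- An automorphism of odd order moving an element by a fixed element fixes it. -/
theorem fixed_of_mul_fixed {N : Type u} [Group N] (hN : IsPGroup 2 N) (ψ : MulAut N)
    (hψ : Odd (orderOf ψ)) {y z : N} (hz : ψ z = z) (hy : ψ y = y * z) : ψ y = y := by
  have hit : ∀ j : ℕ, (ψ ^ j) y = y * z ^ j := by
    intro j
    induction j with
    | zero => simp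
    | succ j ih => rw [pow_succ', MulAut.mul_apply, ih, map_mul, map_pow, hz, hy, mul_assoc, ← pow_succ']
  have h1 := hit (orderOf ψ)
  rw [pow_orderOf_eq_one, MulAut.one_apply, left_eq_mul] at h1
  obtain ⟨k, hk⟩ := hN z
  have hz1 : z = 1 := orderOf_eq_one_iff.1 (Nat.eq_one_of_dvd_coprimes
    ((Nat.coprime_two_right.2 hψ).pow_right k) (orderOf_dvd_of_pow_eq_one h1)
    (orderOf_dvd_of_pow_eq_one hk))
  rw [hy, hz1, mul_one]

/-- An automorphism of odd order of a 2-group fixing the involutions fixes every central element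
whose square-roots of one it fixes. -/
theorem fixed_of_commuting {N : Type u} [Group N] (hN : IsPGroup 2 N) (ψ : MulAut N)
    (hψ : Odd (orderOf ψ)) (hfix : ∀ n : N, n * n = 1 → ψ n = n) :
    ∀ (k : ℕ) (y : N), Commute y (ψ y) → y ^ 2 ^ k = 1 → ψ y = y := by
  intro k
  induction k with
  | zero =>
    intro y _ hy
    rw [pow_zero, pow_one] at hy
    rw [hy, map_one]
  | succ k ih =>
    intro y hc hy
    have hy2 : ψ (y ^ 2) = y ^ 2 := by
      refine ih (y ^ 2) ?_ (by rw [← pow_mul, ← pow_succ']; exact hy)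
      rw [map_pow]
      exact hc.pow_pow 2 2
    have hd : (y⁻¹ * ψ y) * (y⁻¹ * ψ y) = 1 := by
      have h1 : Commute y⁻¹ (ψ y) := hc.inv_left
      rw [← pow_two, h1.mul_pow, ← map_pow, hy2, inv_pow, inv_mul_cancel]
    exact fixed_of_mul_fixed hN ψ hψ (hfix _ hd) (by rw [mul_inv_cancel_left])

/-- A perfect group fixing the (central) involutions of a 2-group acts trivially. -/
theorem eq_one_of_fix_involutions (hperf : commutator X = ⊤) {N : Type u} [Group N] [Finite N]
    (hN : IsPGroup 2 N) (f : X →* MulAut N) (hfix : ∀ x n, n * n = 1 → f x n = n)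
    (hcen : ∀ n : N, n * n = 1 → n ∈ Subgroup.center N) : f = 1 := by
  haveI : Fact (Nat.Prime 2) := ⟨Nat.prime_two⟩
  obtain ⟨H, hHc, hHC, hcom, hsq⟩ := CfsgLib.PGroup.exists_critical hN
  haveI := hHc
  have hH : IsPGroup 2 H := hN.to_subgroup H
  have hmem : ∀ (ψ : MulAut N) {h : N}, h ∈ H → ψ h ∈ H := fun ψ h hh => by
    rw [← Subgroup.characteristic_iff_map_eq.1 hHc ψ]
    exact Subgroup.mem_map_of_mem _ hh
  let fH : X →* MulAut H := MonoidHom.mk' (fun x =>
    { toFun := fun h => ⟨f x h, hmem _ h.2⟩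
      invFun := fun h => ⟨(f x).symm h, hmem _ h.2⟩
      left_inv := fun h => Subtype.ext ((f x).symm_apply_apply h)
      right_inv := fun h => Subtype.ext ((f x).apply_symm_apply h)
      map_mul' := fun a b => Subtype.ext (map_mul (f x) (a : N) b) }) fun x y =>
    MulEquiv.ext fun h => Subtype.ext (by show f (x * y) (h : N) = f x (f y h); rw [map_mul]; rfl)
  have hfH : ∀ x (h : H), ((fH x h : H) : N) = f x h := fun x h => rfl
  set Z := Subgroup.center H with hZ
  have hmemZ : ∀ a : H, (a : N) ∈ H ⊓ Subgroup.centralizer (H : Set N) → a ∈ Z := fun a ha =>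
    Subgroup.mem_center_iff.2 fun b => Subtype.ext (Subgroup.mem_centralizer_iff.1 ha.2 b b.2)
  have hsqZ : ∀ a : H, a * a ∈ Z := fun a => hmemZ _ (by simpa [pow_two] using hsq a a.2)
  have hcomZ : ∀ a b : H, ⁅a, b⁆ ∈ Z := fun a b => hmemZ _ (hcom a b b.2)
  have hinvZ : ∀ a : H, a * a = 1 → a ∈ Z := fun a ha => Subgroup.mem_center_iff.2 fun b =>
    Subtype.ext (Subgroup.mem_center_iff.1 (hcen _ (congrArg Subtype.val ha)) b)
  -- the quotient by the centre
  letI : CommGroup (H ⧸ Z) :=
    { (inferInstance : Group (H ⧸ Z)) with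
      mul_comm := fun a b => by
        induction a using QuotientGroup.induction_on with
        | H a =>
          induction b using QuotientGroup.induction_on with
          | H b =>
            rw [← QuotientGroup.mk_mul, ← QuotientGroup.mk_mul, QuotientGroup.eq]
            have h1 : (a * b)⁻¹ * (b * a) = ⁅b⁻¹, a⁻¹⁆ := by rw [commutatorElement_def]; group
            rw [h1]
            exact hcomZ _ _ }
  letI : CommGroup Z := { (inferInstance : Group Z) with
    mul_comm := fun a b => Subtype.ext (Subgroup.mem_center_iff.1 b.2 a) }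
  let S : Subgroup Z := (powMonoidHom 2 : Z →* Z).range
  letI : Module (ZMod 2) (Additive (H ⧸ Z)) := AddCommGroup.zmodModule fun v => by
    apply Additive.toMul.injective
    rw [toMul_nsmul, toMul_zero]
    obtain ⟨a, ha⟩ := QuotientGroup.mk_surjective (Additive.toMul v)
    rw [← ha, pow_two, ← QuotientGroup.mk_mul, QuotientGroup.eq_one_iff]
    exact hsqZ a
  letI : Module (ZMod 2) (Additive (Z ⧸ S)) := AddCommGroup.zmodModule fun v => by
    apply Additive.toMul.injective
    rw [toMul_nsmul, toMul_zero]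
    obtain ⟨a, ha⟩ := QuotientGroup.mk_surjective (Additive.toMul v)
    rw [← ha, ← QuotientGroup.mk_pow, QuotientGroup.eq_one_iff]
    exact ⟨a, rfl⟩
  -- the squaring map
  let q : Additive (H ⧸ Z) → Additive (Z ⧸ S) := fun v => Additive.ofMul
    (Quotient.liftOn' (Additive.toMul v) (fun a => (QuotientGroup.mk (⟨a * a, hsqZ a⟩ : Z) : Z ⧸ S))
      fun a b hab => by
        have hab' : a⁻¹ * b ∈ Z := QuotientGroup.leftRel_apply.1 hab
        obtain ⟨z, hz, rfl⟩ : ∃ z, z ∈ Z ∧ b = a * z := ⟨_, hab', (mul_inv_cancel_left a b).symm⟩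
        refine QuotientGroup.eq.2 ⟨⟨z, hz⟩, Subtype.ext ?_⟩
        show z ^ 2 = (a * a)⁻¹ * (a * z * (a * z))
        rw [show a * z * (a * z) = a * (z * a) * z by group, ← Subgroup.mem_center_iff.1 hz a, pow_two]
        group)
  have hq : ∀ a : H, q (Additive.ofMul (QuotientGroup.mk a : H ⧸ Z)) =
      Additive.ofMul (QuotientGroup.mk (⟨a * a, hsqZ a⟩ : Z) : Z ⧸ S) := fun a => rfl
  let β : H → H → Z := fun a b => ⟨⁅a⁻¹, b⁆, hcomZ _ _⟩
  have hβ : ∀ a b : H, (⟨a * b * (a * b), hsqZ _⟩ : Z) =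
      ⟨a * a, hsqZ a⟩ * ⟨b * b, hsqZ b⟩ * β a b := by
    intro a b
    refine Subtype.ext ?_
    show a * b * (a * b) = a * a * (b * b) * ⁅a⁻¹, b⁆
    have h1 : b * b * ⁅a⁻¹, b⁆ = ⁅a⁻¹, b⁆ * (b * b) := Subgroup.mem_center_iff.1 (hcomZ _ _) _
    rw [mul_assoc (a * a), h1, commutatorElement_def]
    group
  have hpol : ∀ a b : H, polar q (Additive.ofMul (QuotientGroup.mk a : H ⧸ Z))
      (Additive.ofMul (QuotientGroup.mk b : H ⧸ Z)) =
      Additive.ofMul (QuotientGroup.mk (β a b) : Z ⧸ S) := by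
    intro a b
    show q (Additive.ofMul (QuotientGroup.mk (a * b) : H ⧸ Z)) + q (Additive.ofMul (QuotientGroup.mk a : H ⧸ Z)) +
      q (Additive.ofMul (QuotientGroup.mk b : H ⧸ Z)) = _
    rw [hq, hq, hq, hβ, QuotientGroup.mk_mul,
      QuotientGroup.mk_mul, ofMul_mul, ofMul_mul]
    set x := Additive.ofMul (QuotientGroup.mk (⟨a * a, hsqZ a⟩ : Z) : Z ⧸ S)
    set y := Additive.ofMul (QuotientGroup.mk (⟨b * b, hsqZ b⟩ : Z) : Z ⧸ S)
    set z := Additive.ofMul (QuotientGroup.mk (β a b) : Z ⧸ S)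
    rw [show x + y + z + x + y = z + ((x + x) + (y + y)) by abel, add_self_zero, add_self_zero]
    simp
  let ρ : X →* (Additive (H ⧸ Z) ≃ₗ[ZMod 2] Additive (H ⧸ Z)) :=
    MonoidHom.mk' (fun x =>
      { (MulEquiv.toAdditive (QuotientGroup.congr Z Z (fH x)
          (Subgroup.characteristic_iff_map_eq.1 inferInstance _)) : Additive (H ⧸ Z) ≃+ Additive (H ⧸ Z)) with
        map_smul' := ZMod.map_smul (MulEquiv.toAdditive (QuotientGroup.congr Z Z (fH x)
          (Subgroup.characteristic_iff_map_eq.1 inferInstance _))) }) fun x y => by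
      refine LinearEquiv.ext fun v => ?_
      obtain ⟨a, ha⟩ := QuotientGroup.mk_surjective (Additive.toMul v)
      obtain rfl : Additive.ofMul (QuotientGroup.mk a : H ⧸ Z) = v := congrArg Additive.ofMul ha
      show Additive.ofMul (QuotientGroup.mk (fH (x * y) a) : H ⧸ Z) =
        Additive.ofMul (QuotientGroup.mk (fH x (fH y a)) : H ⧸ Z)
      rw [map_mul]; rfl
  -- odd elements fix the centre of `H`
  have hoddZ : ∀ x, Odd (orderOf x) → ∀ z ∈ Z, fH x z = z := by
    intro x hx z hz
    obtain ⟨k, hk⟩ := hH z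
    refine fixed_of_commuting hH (fH x) (hx.of_dvd_nat (orderOf_map_dvd fH x))
      (fun n hn => Subtype.ext (hfix x n (congrArg Subtype.val hn))) k z
      (Subgroup.mem_center_iff.1 hz _).symm hk
  have hZfix : ∀ x z, z ∈ Z → fH x z = z := by
    let fz : X →* MulAut Z := MonoidHom.mk' (fun x =>
      { toFun := fun z => ⟨fH x z, (Subgroup.characteristic_iff_map_eq.1 (inferInstanceAs (Subgroup.center H).Characteristic) _).le (Subgroup.mem_map_of_mem _ z.2)⟩
        invFun := fun z => ⟨(fH x).symm z, (Subgroup.characteristic_iff_map_eq.1 (inferInstanceAs (Subgroup.center H).Characteristic) _).le (Subgroup.mem_map_of_mem _ z.2)⟩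
        left_inv := fun z => Subtype.ext ((fH x).symm_apply_apply _)
        right_inv := fun z => Subtype.ext ((fH x).apply_symm_apply _)
        map_mul' := fun a b => Subtype.ext (map_mul (fH x) (a : H) b) }) fun x y =>
      MulEquiv.ext fun z => Subtype.ext (by show fH (x * y) (z : H) = fH x (fH y z); rw [map_mul]; rfl)
    have h1 : fz = 1 := eq_one_of_odd_trivial hperf fz fun x hx =>
      MulEquiv.ext fun z => Subtype.ext (hoddZ x hx z z.2)
    intro x z hz
    exact congrArg Subtype.val (MulEquiv.congr_fun (DFunLike.congr_fun h1 x) ⟨z, hz⟩)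
  -- the action on the quotient is trivial
  have hρ : ρ = 1 := by
    haveI : Finite (Additive (H ⧸ Z)) := inferInstanceAs (Finite (H ⧸ Z))
    haveI : Finite (Additive (Z ⧸ S)) := inferInstanceAs (Finite (Z ⧸ S))
    refine eq_one_of_anisotropic hperf _ le_rfl ρ q (fun v => ?_) (fun a b c => ?_) fun x v => ?_
    · obtain ⟨a, ha⟩ := QuotientGroup.mk_surjective (Additive.toMul v)
      obtain rfl : Additive.ofMul (QuotientGroup.mk a : H ⧸ Z) = v := congrArg Additive.ofMul ha
      rw [hq]
      constructor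
      · intro h
        obtain ⟨c, hc⟩ := (QuotientGroup.eq_one_iff _).1 (show (QuotientGroup.mk (⟨a * a, hsqZ a⟩ : Z) : Z ⧸ S) = 1 from h)
        have hc' : (c : H) ^ 2 = a * a := congrArg Subtype.val hc
        show Additive.ofMul (QuotientGroup.mk a : H ⧸ Z) = Additive.ofMul 1
        refine congrArg Additive.ofMul ((QuotientGroup.eq_one_iff a).2 ?_)
        have h2 : (a * (c : H)⁻¹) * (a * (c : H)⁻¹) = 1 := by
          have h3 : Commute a (c : H)⁻¹ := Commute.inv_right (Subgroup.mem_center_iff.1 c.2 a)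
          rw [← pow_two, h3.mul_pow, inv_pow, hc', pow_two, mul_inv_cancel]
        have h4 := Z.mul_mem (hinvZ _ h2) c.2
        rwa [inv_mul_cancel_right] at h4
      · intro h
        have ha' : a ∈ Z := (QuotientGroup.eq_one_iff a).1 h
        refine congrArg Additive.ofMul ((QuotientGroup.eq_one_iff _).2 ⟨⟨a, ha'⟩, Subtype.ext ?_⟩)
        exact pow_two a
    · obtain ⟨a', ha⟩ := QuotientGroup.mk_surjective (Additive.toMul a)
      obtain rfl : Additive.ofMul (QuotientGroup.mk a' : H ⧸ Z) = a := congrArg Additive.ofMul ha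
      obtain ⟨b', hb⟩ := QuotientGroup.mk_surjective (Additive.toMul b)
      obtain rfl : Additive.ofMul (QuotientGroup.mk b' : H ⧸ Z) = b := congrArg Additive.ofMul hb
      obtain ⟨c', hc⟩ := QuotientGroup.mk_surjective (Additive.toMul c)
      obtain rfl : Additive.ofMul (QuotientGroup.mk c' : H ⧸ Z) = c := congrArg Additive.ofMul hc
      rw [← ofMul_mul, ← QuotientGroup.mk_mul, hpol, hpol, hpol, ← ofMul_mul, ← QuotientGroup.mk_mul]
      refine congrArg Additive.ofMul (congrArg _ (Subtype.ext ?_))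
      show ⁅(a' * b')⁻¹, c'⁆ = ⁅a'⁻¹, c'⁆ * ⁅b'⁻¹, c'⁆
      have h1 : b'⁻¹ * ⁅a'⁻¹, c'⁆ = ⁅a'⁻¹, c'⁆ * b'⁻¹ := Subgroup.mem_center_iff.1 (hcomZ _ _) _
      calc ⁅(a' * b')⁻¹, c'⁆ = b'⁻¹ * ⁅a'⁻¹, c'⁆ * (b'⁻¹)⁻¹ * ⁅b'⁻¹, c'⁆ := by
            simp only [commutatorElement_def]; group
        _ = _ := by rw [h1, mul_inv_cancel_right]
    · obtain ⟨a, ha⟩ := QuotientGroup.mk_surjective (Additive.toMul v)
      obtain rfl : Additive.ofMul (QuotientGroup.mk a : H ⧸ Z) = v := congrArg Additive.ofMul ha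
      show q (Additive.ofMul (QuotientGroup.mk (fH x a) : H ⧸ Z)) = _
      rw [hq, hq]
      refine congrArg Additive.ofMul (congrArg _ (Subtype.ext ?_))
      show fH x a * fH x a = a * a
      rw [← map_mul, hZfix x _ (hsqZ a)]
  refine eq_one_of_odd_trivial hperf f fun x hx => MulEquiv.ext fun n => ?_
  have hxo : Odd (orderOf (f x)) := hx.of_dvd_nat (orderOf_map_dvd f x)
  have hH' : ∀ h : H, fH x h = h := by
    intro h
    have h1 : (QuotientGroup.mk (fH x h) : H ⧸ Z) = QuotientGroup.mk h :=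
      LinearEquiv.congr_fun (DFunLike.congr_fun hρ x) (Additive.ofMul (QuotientGroup.mk h : H ⧸ Z))
    have h2 : h⁻¹ * fH x h ∈ Z := QuotientGroup.eq.1 h1.symm
    exact fixed_of_mul_fixed hH (fH x) (hx.of_dvd_nat (orderOf_map_dvd fH x)) (hZfix x _ h2)
      (mul_inv_cancel_left _ _).symm
  have hHfix : ∀ h ∈ H, f x h = h := fun h hh => congrArg Subtype.val (hH' ⟨h, hh⟩)
  show f x n = n
  have hd : n⁻¹ * f x n ∈ Subgroup.centralizer (H : Set N) := by
    intro h hh
    have hnn : n * h * n⁻¹ ∈ H := Subgroup.Normal.conj_mem inferInstance h hh n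
    have h1 : f x n * h * (f x n)⁻¹ = n * h * n⁻¹ := by
      have h2 := hHfix _ hnn
      rw [map_mul, map_mul, map_inv, hHfix h hh] at h2
      exact h2
    have h3 : n⁻¹ * (f x n * h * (f x n)⁻¹) * f x n = h * (n⁻¹ * f x n) := by rw [h1]; group
    rw [← h3]; group
  exact fixed_of_mul_fixed hN (f x) hxo (hHfix _ (hHC hd)) (mul_inv_cancel_left _ _).symm

end CfsgLib.Homogeneous
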