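import Cfsg.Agent.Lib.Homogeneous.OuterMain
import Cfsg.Agent.Lib.Homogeneous.TwoGroup
import Cfsg.Agent.Lib.Homogeneous.Component
import Cfsg.Agent.Lib.TwoGroups.OneInvolution
import Cfsg.Agent.Lib.Transfer.Basic
import Cfsg.Agent.Lib.Coprime.Commutator
import Cfsg.Agent.Lib.Components.Basic
import Cfsg.Agent.Lib.BlocksLocal.SylowNormalizes
import Cfsg.Agent.S3776

/-!
# The index of the component is odd

If all involutions of the component `L` are central in `L`, the index of `L` is odd.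
-/

set_option autoImplicit false
set_option linter.unusedSimpArgs false
set_option linter.style.haveILetI false
set_option maxHeartbeats 1000000

namespace CfsgLib.Homogeneous

open scoped commutatorElement

universe u

/-- In a perfect group an abelian Sylow subgroup has no fixed points under a covering `p'`-subgroup
of its normaliser. -/
theorem focal_fixed {X : Type u} [Group X] [Finite X] {p : ℕ} [Fact p.Prime]
    (hperf : commutator X = ⊤) (S : Sylow p X) [IsMulCommutative (S : Subgroup X)] (R : Subgroup X)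
    (hR : R ≤ Subgroup.normalizer ((S : Subgroup X) : Set X)) (hRp : (Nat.card R).Coprime p)
    (hcov : ∀ g ∈ Subgroup.normalizer ((S : Subgroup X) : Set X), ∃ r ∈ R, r⁻¹ * g ∈ (S : Subgroup X))
    {x : X} (hx : x ∈ (S : Subgroup X)) (hxR : ∀ r ∈ R, r * x = x * r) : x = 1 := by
  have hc : ∀ a ∈ (S : Subgroup X), ∀ g : X, g * a * g⁻¹ ∈ (S : Subgroup X) →
      ∃ k ∈ R, k * a * k⁻¹ = g * a * g⁻¹ := by
    intro a ha g hga
    obtain ⟨n, hn, hn'⟩ := S.conj_eq_normalizer_conj_of_mem a g⁻¹ ha (by rwa [inv_inv])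
    rw [inv_inv] at hn'
    obtain ⟨r, hr, hrs⟩ := hcov n⁻¹ (inv_mem hn)
    refine ⟨r, hr, ?_⟩
    have h1 : Commute (r⁻¹ * n⁻¹) a :=
      congrArg Subtype.val (mul_comm' (⟨_, hrs⟩ : (S : Subgroup X)) ⟨a, ha⟩)
    rw [hn']
    calc r * a * r⁻¹ = r * (a * (r⁻¹ * n⁻¹)) * n := by group
      _ = r * (r⁻¹ * n⁻¹ * a) * n := by rw [h1.eq]
      _ = n⁻¹ * a * n := by group
  have h1 := CfsgLib.Transfer.focalSubgroup_le_of_controls hc
  rw [← Subgroup.commutator_inf_eq_focalSubgroup, hperf, top_inf_eq] at h1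
  have hRn : R ≤ Subgroup.normalizer ((S : Subgroup X) : Set X) := hR
  have hcop : (Nat.card R).Coprime (Nat.card (S : Subgroup X)) := by
    obtain ⟨k, hk⟩ := S.2.exists_card_eq
    rw [hk]
    exact hRp.pow_right k
  have h2 := CfsgLib.Coprime.commutator_inf_centralizer_eq_bot R (S : Subgroup X) hRn hcop
  rw [← Subgroup.mem_bot, ← h2]
  exact ⟨h1 hx, fun r hr => hxR r hr⟩

variable {G : Type u} [Group G] [Finite G]

/-- Step 5. -/
theorem not_two_dvd_index (hG : Hom G) {L : Subgroup G} [L.Characteristic] (hq : Cfsg.IsQuasisimple L)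
    (h2 : 2 ∣ Nat.card L) (hinv : ∀ x : L, orderOf x = 2 → x ∈ Subgroup.center L) : ¬ 2 ∣ L.index := by
  classical
  intro hi
  haveI : Fact (Nat.Prime 2) := ⟨Nat.prime_two⟩
  have hperf : commutator L = ⊤ := CfsgLib.Components.quasisimple_commutator_eq_top hq
  have hLnot : ¬ CfsgLib.Transfer.FrobeniusCond 2 L := fun h => not_dvd_of_frobeniusCond hperf h h2
  set W := omegaZ 2 L with hW
  -- all involutions lie in `W`
  obtain ⟨t, ht⟩ := exists_prime_orderOf_dvd_card' 2 h2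
  have hWall : ∀ x : G, x ^ 2 = 1 → x ∈ W := by
    intro x hx
    rcases eq_or_ne x 1 with rfl | h1
    · exact one_mem _
    have hxo := orderOf_eq_prime hx h1
    have hxL : x ∈ L := hG.mem_of_orderOf_eq t.2 (by rw [Subgroup.orderOf_coe, ht, hxo])
    refine ⟨hxL, fun v hv => ?_, hx⟩
    exact congrArg Subtype.val (Subgroup.mem_center_iff.1 (hinv ⟨x, hxL⟩ (by rwa [← Subgroup.orderOf_coe])) ⟨v, hv⟩)
  -- `L` contains an element of order four
  obtain ⟨f, hfL, hf⟩ : ∃ f ∈ L, orderOf f = 4 := by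
    by_contra h
    push Not at h
    refine hLnot fun Q hQ g _ _ q hq' => ?_
    suffices hsq : (q : G) ^ 2 = 1 by
      exact Subtype.ext (((hWall _ hsq).2.1 (g : G) g.2).symm)
    obtain ⟨k, hk⟩ := IsPGroup.iff_orderOf.1 hQ ⟨q, hq'⟩
    rw [← Subgroup.orderOf_coe, ← Subgroup.orderOf_coe] at hk
    rcases k with _ | _ | k
    · rw [pow_zero, orderOf_eq_one_iff] at hk
      rw [hk]; exact one_pow 2
    · rw [zero_add, pow_one] at hk
      rw [← hk, pow_orderOf_eq_one]
    · exfalso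
      refine h ((q : G) ^ (2 ^ k)) (L.pow_mem q.2 _) ?_
      have hd : 2 ^ k ∣ orderOf (q : G) := hk ▸ pow_dvd_pow 2 (by omega)
      rw [orderOf_pow_of_dvd (pow_ne_zero _ two_ne_zero) hd, hk,
        show 2 ^ (k + 1 + 1) = 2 ^ k * 4 by ring, Nat.mul_div_cancel_left _ (pow_pos two_pos _)]
  have hfour : ∀ x : G, x ^ 4 = 1 → x ∈ L := by
    intro x hx
    by_cases h22 : x ^ 2 = 1
    · exact (hWall x h22).1
    · exact hG.mem_of_orderOf_eq hfL (hf.trans (orderOf_eq_prime_pow (p := 2) (n := 1)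
        (by rwa [pow_one]) hx).symm)
  let P : Sylow 2 G := default
  obtain ⟨y0, hy0P, hy0L⟩ := dvd_index_not_le hi P
  by_cases hone : ∀ a b : (P : Subgroup G), orderOf a = 2 → orderOf b = 2 → a = b
  · -- one involution
    rcases CfsgLib.TwoGroups.OneInvolution.isCyclic_or_quaternion P.2 hone with hcyc | ⟨n, -, ⟨e⟩⟩
    · refine hLnot fun Q hQ g hg hcop => ?_
      have hQ' : IsPGroup 2 (Q.map L.subtype) := hQ.map _
      obtain ⟨R, hR⟩ := hQ'.exists_le_sylow
      have hRcyc : IsCyclic (R : Subgroup G) := by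
        haveI := hcyc
        exact isCyclic_of_surjective (Sylow.equiv P R) (Sylow.equiv P R).surjective
      have hQcomm : ∀ a b : Q, a * b = b * a := fun a b => by
        haveI := hRcyc
        refine Subtype.ext (Subtype.ext ?_)
        exact congrArg (fun v : (R : Subgroup G) => (v : G)) (IsCyclic.isMulCommutative.is_comm.comm
          (⟨_, hR ⟨(a : L), a.2, rfl⟩⟩ : (R : Subgroup G)) ⟨_, hR ⟨(b : L), b.2, rfl⟩⟩)
      have hodd : Odd (orderOf (conjOn hg)) := by
        refine Odd.of_dvd_nat ?_ (orderOf_map_dvd (Subgroup.normalizerMonoidHom Q) ⟨g, hg⟩)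
        rw [← Subgroup.orderOf_coe]
        exact hcop.odd_of_right
      intro q hq'
      obtain ⟨k, hk⟩ := hQ ⟨q, hq'⟩
      have h1 := fixed_of_commuting hQ (conjOn hg) hodd (fun m hm => Subtype.ext ?_) k ⟨q, hq'⟩
        (hQcomm _ _) hk
      · have h2 : g * q * g⁻¹ = q := congrArg Subtype.val h1
        exact (mul_inv_eq_iff_eq_mul.1 h2).symm
      · show g * (m : L) * g⁻¹ = m
        have hm' : (m : L) * (m : L) = 1 := congrArg Subtype.val hm
        have h3 := (hWall ((m : L) : G) (by rw [pow_two]; exact congrArg Subtype.val hm')).2.1 (g : G) g.2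
        rw [mul_inv_eq_iff_eq_mul]
        exact Subtype.ext h3
    · refine hy0L ?_
      have hxa : ∀ i, ((e.symm (QuaternionGroup.xa i) : (P : Subgroup G)) : G) ∈ L := fun i => by
        refine hfour _ ?_
        haveI : NeZero (2 ^ n) := ⟨pow_ne_zero _ two_ne_zero⟩
        rw [← Subgroup.coe_pow, ← map_pow, QuaternionGroup.xa_pow_four, map_one]
        rfl
      obtain ⟨d, hd⟩ : ∃ d, e.symm d = ⟨y0, hy0P⟩ := ⟨e ⟨y0, hy0P⟩, e.symm_apply_apply _⟩
      rcases d with i | i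
      · have h3 : QuaternionGroup.a i =
            QuaternionGroup.xa 0 * QuaternionGroup.xa (i - ((2 ^ n : ℕ) : ZMod (2 * 2 ^ n))) := by simp
        have h4 := congrArg (fun g => ((e.symm g : (P : Subgroup G)) : G)) h3
        simp only [map_mul, Subgroup.coe_mul, hd] at h4
        rw [h4]
        exact L.mul_mem (hxa _) (hxa _)
      · have := hxa i
        rwa [hd] at this
  -- at least two involutions
  push Not at hone
  obtain ⟨i₁, i₂, hi₁, hi₂, hi12⟩ := hone
  have hi1' : (i₁ : G) ^ 2 = 1 := by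
    have h := congrArg (fun v : (P : Subgroup G) => (v : G)) (pow_orderOf_eq_one i₁)
    rw [hi₁] at h; exact h
  have hi2' : (i₂ : G) ^ 2 = 1 := by
    have h := congrArg (fun v : (P : Subgroup G) => (v : G)) (pow_orderOf_eq_one i₂)
    rw [hi₂] at h; exact h
  set P0 := (P : Subgroup G) ⊓ L with hP0
  have hP0p : IsPGroup 2 P0 := P.2.to_le inf_le_left
  have hWP : W ≤ P0 := fun x hx => by
    refine ⟨?_, hx.1⟩
    haveI : W.Normal := ⟨fun z hz g => hWall _ (by rw [conj_pow, hz.2.2, mul_one, mul_inv_cancel])⟩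
    have hWp : IsPGroup 2 W := fun z => ⟨1, Subtype.ext (by simpa using z.2.2.2)⟩
    exact (P.3 (IsPGroup.to_sup_of_normal_right P.2 hWp) le_sup_left).le
      ((le_sup_right : W ≤ (P : Subgroup G) ⊔ W) hx)
  have hrel : ¬ 2 ∣ P0.relIndex L := by
    intro h
    rw [hP0, Subgroup.inf_relIndex_right] at h
    exact P.not_dvd_index (h.trans (CfsgLib.SylowNormalizes.relIndex_dvd_index_of_normal_right _ _))
  obtain ⟨SL, hSL⟩ : ∃ S : Sylow 2 L, (S : Subgroup L) = P0.subgroupOf L := by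
    obtain ⟨S, hS⟩ := (hP0p.comap_of_injective L.subtype L.subtype_injective :
      IsPGroup 2 (P0.subgroupOf L)).exists_le_sylow
    refine ⟨S, le_antisymm (Subgroup.relIndex_eq_one.1 ?_) hS⟩
    obtain ⟨k, hk⟩ := S.2.exists_card_eq
    have h1 : (P0.subgroupOf L).relIndex (S : Subgroup L) ∣ 2 ^ k :=
      hk ▸ Subgroup.relIndex_dvd_card _ _
    have h2 : (P0.subgroupOf L).relIndex (S : Subgroup L) ∣ P0.relIndex L :=
      Dvd.intro _ (Subgroup.relIndex_mul_index hS)
    exact Nat.eq_one_of_dvd_coprimes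
      (((Nat.prime_two.coprime_iff_not_dvd).2 hrel).pow_left k) h1 h2
  -- the complement in the normaliser
  set M := L ⊓ Subgroup.normalizer (P0 : Set G) with hM
  have hP0M : P0 ≤ M := le_inf inf_le_right Subgroup.le_normalizer
  obtain ⟨R, hRM, hRp, hRcov, hRn⟩ := exists_invariant_p'_subgroup (p := 2) M P0 hP0M inf_le_right
    (fun h => by
      rcases Nat.eq_zero_or_pos (P0.relIndex L) with h0 | _
      · exact hrel (h0 ▸ dvd_zero 2)
      exact hrel (h.trans (Dvd.intro _ (Subgroup.relIndex_mul_relIndex P0 M L hP0M inf_le_left))))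
  have hRL : R ≤ L := hRM.trans inf_le_left
  have hcov : ∀ g : L, g ∈ Subgroup.normalizer ((SL : Subgroup L) : Set L) →
      ∃ r ∈ R.subgroupOf L, r⁻¹ * g ∈ (SL : Subgroup L) := by
    intro g hg
    have hgN : (g : G) ∈ M := ⟨g.2, Subgroup.mem_normalizer_fintype fun v hv => by
      have h1 := (Subgroup.mem_normalizer_iff.1 hg ⟨v, hv.2⟩).1 (by rw [hSL]; exact hv)
      rw [hSL] at h1
      exact h1⟩
    obtain ⟨r, hr, hrg⟩ := hRcov _ hgN
    exact ⟨⟨r, hRL hr⟩, hr, by rw [hSL]; exact hrg⟩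
  have hRnorm : R.subgroupOf L ≤ Subgroup.normalizer ((SL : Subgroup L) : Set L) := fun r hr =>
    Subgroup.mem_normalizer_fintype fun v hv => by
      have hv' : v ∈ P0.subgroupOf L := hSL.le hv
      refine hSL.ge ?_
      exact (Subgroup.mem_normalizer_iff.1 (hRM hr).2 (v : G)).1 hv'
  have hRp' : (Nat.card (R.subgroupOf L)).Coprime 2 := by
    rwa [CfsgLib.Coprime.card_subgroupOf hRL]
  -- `P0` is not abelian
  have hna : ¬ IsMulCommutative P0 := by
    intro hc
    haveI : IsMulCommutative (SL : Subgroup L) := ⟨⟨fun a b => Subtype.ext (Subtype.ext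
      (congrArg (fun v : P0 => (v : G)) (mul_comm' (⟨_, hSL.le a.2⟩ : P0) ⟨_, hSL.le b.2⟩)))⟩⟩
    have h1 := focal_fixed hperf SL (R.subgroupOf L) hRnorm hRp' hcov
      (x := ⟨(i₁ : G), (hWall _ hi1').1⟩)
      (by rw [hSL]; exact hWP (hWall _ hi1'))
      fun r _ => Subtype.ext
        ((hWall (i₁ : G) hi1').2.1 r r.2)
    have h2 : (i₁ : G) = 1 := congrArg Subtype.val h1
    rw [← Subgroup.orderOf_coe, h2, orderOf_one] at hi₁
    norm_num at hi₁
  -- restriction to the involutions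
  have hWsq : ∀ x : G, x ∈ W → x ^ 2 = 1 := fun x hx => hx.2.2
  let res : MulAut P0 →* MulAut W := MonoidHom.mk' (fun e =>
    { toFun := fun w => ⟨(e ⟨w, hWP w.2⟩ : P0), hWall _ (by
        rw [← Subgroup.coe_pow, ← map_pow, show (⟨(w : G), hWP w.2⟩ : P0) ^ 2 = 1 from
          Subtype.ext (by simpa using hWsq _ w.2), map_one]; rfl)⟩
      invFun := fun w => ⟨(e.symm ⟨w, hWP w.2⟩ : P0), hWall _ (by
        rw [← Subgroup.coe_pow, ← map_pow, show (⟨(w : G), hWP w.2⟩ : P0) ^ 2 = 1 from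
          Subtype.ext (by simpa using hWsq _ w.2), map_one]; rfl)⟩
      left_inv := fun w => Subtype.ext
        (show ((e.symm (e ⟨w, hWP w.2⟩) : P0) : G) = w by rw [e.symm_apply_apply])
      right_inv := fun w => Subtype.ext
        (show ((e (e.symm ⟨w, hWP w.2⟩) : P0) : G) = w by rw [e.apply_symm_apply])
      map_mul' := fun a b => Subtype.ext
        (show ((e ((⟨a, hWP a.2⟩ : P0) * ⟨b, hWP b.2⟩) : P0) : G) = _ by rw [map_mul]; rfl) }) fun a b => MulEquiv.ext fun w => Subtype.ext rfl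
  obtain ⟨m, ⟨md⟩⟩ := exists_model (p := 2) (omegaZ_isElementaryAbelian 2 L)
  have hm0 : m ≠ 0 := by
    rintro rfl
    have h1 : ∀ w : W, w = 1 := fun w => md.vec_eq_zero.1 (Subsingleton.elim _ _)
    have h2 : (i₁ : G) = 1 := congrArg Subtype.val
      (h1 ⟨i₁, hWall _ hi1'⟩)
    rw [← Subgroup.orderOf_coe, h2, orderOf_one] at hi₁
    norm_num at hi₁
  set F := GaloisField 2 m
  haveI : Fintype F := Fintype.ofFinite F
  let ef : (Fin m → ZMod 2) ≃ₗ[ZMod 2] F := LinearEquiv.ofFinrankEq _ F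
    (by rw [GaloisField.finrank 2 hm0, Module.finrank_fin_fun])
  let μ : Fˣ →* MulAut W := md.Φ.symm.toMonoidHom.comp
    (MonoidHom.mk' (fun c : Fˣ => ef.trans ((DistribMulAction.toModuleAut (ZMod 2) F c).trans ef.symm))
      fun a b => LinearEquiv.ext fun v => by
        simp only [map_mul, LinearEquiv.mul_apply, LinearEquiv.trans_apply, LinearEquiv.apply_symm_apply])
  let Y : Subgroup (MulAut P0) := μ.range.comap res
  have hker : Group.IsSolvable res.ker := by
    obtain ⟨K, k, hKc, hKp, hKk, -⟩ := exists_core (G := res.ker)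
    have hK : K = ⊥ := by
      have h1 := eq_one_of_fix_involutions (commutator_subgroup_eq_top hKp) hP0p
        (res.ker.subtype.comp K.subtype) (fun x v hv => ?_) (fun v hv => Subgroup.mem_center_iff.2 fun v' =>
          Subtype.ext ((hWall (v : G) (by rw [pow_two]; exact congrArg Subtype.val hv)).2.1 v' v'.2.2))
      · refine eq_bot_iff.2 fun x hx => Subgroup.mem_bot.2 (Subtype.ext ?_)
        exact DFunLike.congr_fun h1 ⟨x, hx⟩
      · have hvW : (v : G) ∈ W := hWall _ (by rw [pow_two]; exact congrArg Subtype.val hv)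
        have h4 := congrArg Subtype.val (MulEquiv.congr_fun (MonoidHom.mem_ker.1 (x : res.ker).2) ⟨v, hvW⟩)
        exact Subtype.ext h4
    exact ⟨⟨k, hKk.trans hK⟩⟩
  have hYsol : Group.IsSolvable Y := by
    have hle : res.ker ≤ Y := fun x hx => by
      show res x ∈ μ.range
      rw [MonoidHom.mem_ker.1 hx]
      exact one_mem _
    haveI : Group.IsSolvable μ.range := by
      refine Group.isSolvable_of_comm fun a b => ?_
      obtain ⟨_, a, rfl⟩ := a
      obtain ⟨_, b, rfl⟩ := b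
      exact Subtype.ext (by rw [Subgroup.coe_mul, Subgroup.coe_mul]; simp only [← map_mul, mul_comm a b])
    haveI := hker
    let fY : Y →* μ.range := (res.comp Y.subtype).codRestrict _ fun x => x.2
    haveI : Group.IsSolvable fY.ker := by
      refine Group.isSolvable_of_isSolvable_injective (f := ((Y.subtype.comp fY.ker.subtype).codRestrict res.ker
        fun x => MonoidHom.mem_ker.2 (congrArg Subtype.val (MonoidHom.mem_ker.1 x.2)))) ?_
      intro a b h
      exact Subtype.ext (Subtype.ext (congrArg (fun v : res.ker => (v : MulAut P0)) h))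
    exact Group.isSolvable_of_ker_le_range fY.ker.subtype fY (by rw [Subgroup.range_subtype])
  have htr : ∀ x y : P0, x ≠ 1 → x ^ 2 = 1 → y ≠ 1 → y ^ 2 = 1 → ∃ a ∈ Y, a x = y := by
    intro x y hx1 hx2 hy1 hy2
    have hxW : (x : G) ∈ W := hWall _ (by rw [← Subgroup.coe_pow, hx2]; rfl)
    have hyW : (y : G) ∈ W := hWall _ (by rw [← Subgroup.coe_pow, hy2]; rfl)
    have hvx : ef (md.vec ⟨x, hxW⟩) ≠ 0 := by
      rw [Ne, LinearEquiv.map_eq_zero_iff, md.vec_eq_zero]
      exact fun h => hx1 (Subtype.ext (congrArg (fun v : W => (v : G)) h))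
    have hvy : ef (md.vec ⟨y, hyW⟩) ≠ 0 := by
      rw [Ne, LinearEquiv.map_eq_zero_iff, md.vec_eq_zero]
      exact fun h => hy1 (Subtype.ext (congrArg (fun v : W => (v : G)) h))
    set c : Fˣ := Units.mk0 _ hvy / Units.mk0 _ hvx with hc
    have hcx : (μ c ⟨x, hxW⟩ : W) = ⟨y, hyW⟩ := by
      refine md.vec_injective ?_
      rw [← md.Φ_apply]
      show md.Φ (md.Φ.symm _) _ = _
      rw [MulEquiv.apply_symm_apply]
      show ef.symm ((c : F) * ef (md.vec ⟨x, hxW⟩)) = _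
      rw [LinearEquiv.symm_apply_eq, hc, Units.val_div_eq_div_val, Units.val_mk0, Units.val_mk0,
        div_mul_cancel₀ _ hvx]
    obtain ⟨φ, hφ⟩ := hG.exists_extension (μ c)
    -- move `φ P0` back to `P0` inside `L`
    have hφP : ∀ v ∈ P0, φ v ∈ L := fun v hv => map_mem_of_char φ hv.2
    obtain ⟨S', hS'⟩ := ((hP0p.map φ.toMonoidHom).comap_of_injective L.subtype L.subtype_injective :
      IsPGroup 2 ((P0.map φ.toMonoidHom).subgroupOf L)).exists_le_sylow
    obtain ⟨l, hl⟩ := MulAction.exists_smul_eq L S' SL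
    have hmap : ∀ v ∈ P0, (l : G) * φ v * (l : G)⁻¹ ∈ P0 := by
      intro v hv
      have h1 : l * ⟨φ v, hφP v hv⟩ * l⁻¹ ∈ (SL : Subgroup L) := by
        rw [← hl, Sylow.coe_subgroup_smul]
        exact CfsgLib.Coprime.conj_smul_le.1 le_rfl _ (hS' ⟨v, hv, rfl⟩)
      rw [hSL] at h1
      exact h1
    let ψ0 : P0 →* P0 := MonoidHom.mk' (fun v => ⟨(l : G) * φ v * (l : G)⁻¹, hmap v v.2⟩)
      fun a b => Subtype.ext (by
        show (l : G) * φ ((a : G) * b) * (l : G)⁻¹ = (l : G) * φ a * (l : G)⁻¹ * ((l : G) * φ b * (l : G)⁻¹)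
        rw [map_mul]; group)
    have hinj : Function.Injective ψ0 := fun a b h => by
      have h1 := congrArg Subtype.val h
      exact Subtype.ext (φ.injective (mul_left_cancel (mul_right_cancel h1)))
    let ψ : MulAut P0 := MulEquiv.ofBijective ψ0 ⟨hinj, Finite.surjective_of_injective hinj⟩
    have hψW : ∀ w : W, res ψ w = μ c w := fun w => by
      refine Subtype.ext ?_
      show (l : G) * φ (w : G) * (l : G)⁻¹ = μ c w
      rw [hφ, (μ c w).2.2.1 (l : G) l.2]
      group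
    refine ⟨ψ, ⟨c, (MulEquiv.ext hψW).symm⟩, Subtype.ext ?_⟩
    have := congrArg Subtype.val ((hψW ⟨x, hxW⟩).trans hcx)
    exact this
  obtain ⟨hcomm, hfrat, hcen⟩ := Cfsg.Agent.S3776.result (G := P0) hP0p hna
    ⟨⟨(i₁ : G), hWP (hWall _ hi1')⟩,
      ⟨(i₂ : G), hWP (hWall _ hi2')⟩,
      fun h => hi12 (Subtype.ext (congrArg (fun v : P0 => (v : G)) h)),
      fun h => by
        have h1 : (i₁ : G) = 1 := congrArg (fun v : P0 => (v : G)) h
        rw [← Subgroup.orderOf_coe, h1, orderOf_one] at hi₁; norm_num at hi₁,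
      Subtype.ext hi1',
      fun h => by
        have h1 : (i₂ : G) = 1 := congrArg (fun v : P0 => (v : G)) h
        rw [← Subgroup.orderOf_coe, h1, orderOf_one] at hi₂; norm_num at hi₂,
      Subtype.ext hi2'⟩
    ⟨Y, hYsol, htr⟩
  have hcW : ∀ a b : P0, ((⁅a, b⁆ : P0) : G) ∈ W := fun a b => by
    have h1 : ⁅a, b⁆ ∈ commutator P0 :=
      Subgroup.commutator_mem_commutator (Subgroup.mem_top a) (Subgroup.mem_top b)
    rw [hcomm, hfrat, hcen] at h1
    exact hWall _ (congrArg Subtype.val h1)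
  -- the quotient by `W`
  set W' := W.subgroupOf L with hW'
  haveI : W'.Normal := ⟨fun z hz g => hWall _ (by
    show ((g : G) * (z : G) * (g : G)⁻¹) ^ 2 = 1
    rw [conj_pow, hWsq (z : G) hz, mul_one, mul_inv_cancel])⟩
  set π := QuotientGroup.mk' W' with hπ
  have hπs : Function.Surjective π := QuotientGroup.mk'_surjective W'
  have hperf' : commutator (L ⧸ W') = ⊤ := by
    rw [commutator_def, ← Subgroup.map_top_of_surjective _ hπs, ← Subgroup.map_commutator]
    exact congrArg _ hperf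
  let SB : Sylow 2 (L ⧸ W') := SL.mapSurjective hπs
  have hSB : ∀ z, z ∈ (SB : Subgroup (L ⧸ W')) ↔ ∃ v ∈ (SL : Subgroup L), π v = z := fun z => Iff.rfl
  haveI : IsMulCommutative (SB : Subgroup (L ⧸ W')) := ⟨⟨fun a b => by
    obtain ⟨a', ha', ea⟩ := (hSB _).1 a.2
    obtain ⟨b', hb', eb⟩ := (hSB _).1 b.2
    refine Subtype.ext ?_
    rw [Subgroup.coe_mul, Subgroup.coe_mul, ← ea, ← eb, ← map_mul, ← map_mul, hπ,
      QuotientGroup.mk'_apply, QuotientGroup.mk'_apply, QuotientGroup.eq]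
    have h1 := hcW ⟨(b' : G)⁻¹, inv_mem (hSL.le hb' : (b' : G) ∈ P0)⟩ ⟨(a' : G)⁻¹, inv_mem (hSL.le ha' : (a' : G) ∈ P0)⟩
    show (((a' * b')⁻¹ * (b' * a') : L) : G) ∈ W
    convert h1 using 1
    simp [commutatorElement_def, mul_assoc]⟩⟩
  set RB := (R.subgroupOf L).map π with hRB
  have hRBp : (Nat.card RB).Coprime 2 := hRp'.coprime_dvd_left (Subgroup.card_map_dvd _ _)
  have hRBn : RB ≤ Subgroup.normalizer ((SB : Subgroup (L ⧸ W')) : Set (L ⧸ W')) := by
    rintro _ ⟨r, hr, rfl⟩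
    refine Subgroup.mem_normalizer_fintype fun z hz => ?_
    obtain ⟨v, hv, rfl⟩ := (hSB _).1 hz
    rw [← map_inv, ← map_mul, ← map_mul]
    exact ⟨_, (Subgroup.mem_normalizer_iff.1 (hRnorm hr) v).1 hv, rfl⟩
  have hW'S : W' ≤ (SL : Subgroup L) := fun v hv => hSL.ge (hWP hv)
  have hcovB : ∀ g ∈ Subgroup.normalizer ((SB : Subgroup (L ⧸ W')) : Set (L ⧸ W')),
      ∃ r ∈ RB, r⁻¹ * g ∈ (SB : Subgroup (L ⧸ W')) := by
    intro g hg
    obtain ⟨g, rfl⟩ := hπs g
    have hgN : g ∈ Subgroup.normalizer ((SL : Subgroup L) : Set L) := by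
      refine Subgroup.mem_normalizer_fintype fun v hv => ?_
      have h1 : π (g * v * g⁻¹) ∈ (SB : Subgroup (L ⧸ W')) := by
        rw [map_mul, map_mul, map_inv]
        exact (Subgroup.mem_normalizer_iff.1 hg _).1 ⟨v, hv, rfl⟩
      obtain ⟨v', hv', e⟩ := (hSB _).1 h1
      have h2 : v'⁻¹ * (g * v * g⁻¹) ∈ W' := QuotientGroup.eq.1 e
      have h3 := (SL : Subgroup L).mul_mem hv' (hW'S h2)
      rwa [mul_inv_cancel_left] at h3
    obtain ⟨r, hr, hrg⟩ := hcov g hgN
    exact ⟨π r, ⟨r, hr, rfl⟩, ⟨_, hrg, by rw [map_mul, map_inv]⟩⟩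
  -- the outer element
  have hy0M : y0 ∈ Subgroup.normalizer (P0 : Set G) := Subgroup.mem_normalizer_fintype fun v hv =>
    Subgroup.mem_inf.2 ⟨mul_mem (mul_mem hy0P hv.1) (inv_mem hy0P),
      (inferInstance : L.Normal).conj_mem v hv.2 y0⟩
  have hy0M' : y0 ∈ Subgroup.normalizer (M : Set G) := Subgroup.mem_normalizer_fintype fun v hv =>
    Subgroup.mem_inf.2 ⟨(inferInstance : L.Normal).conj_mem v hv.1 y0,
      mul_mem (mul_mem hy0M hv.2) (inv_mem hy0M)⟩
  obtain ⟨c, hc, hcy⟩ := hRn y0 hy0M' hy0M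
  set z := c * y0 with hz
  have hzP : z ∈ (P : Subgroup G) := mul_mem hc.1 hy0P
  have hzL : z ∉ L := fun h => hy0L (by simpa [hz] using L.mul_mem (L.inv_mem hc.2) h)
  obtain ⟨y, hyP, hyR, hyL, hy2⟩ : ∃ y, y ∈ (P : Subgroup G) ∧
      y ∈ Subgroup.normalizer (R : Set G) ∧ y ∉ L ∧ y ^ 2 ∈ L := by
    obtain ⟨k, hk⟩ := P.2 ⟨z, hzP⟩
    have hex : ∃ j, z ^ (2 ^ j) ∈ L := ⟨k, by
      have h1 := congrArg Subtype.val hk
      rw [show z ^ 2 ^ k = 1 from h1]
      exact one_mem _⟩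
    have h0 : Nat.find hex ≠ 0 := fun h => hzL (by simpa [h] using Nat.find_spec hex)
    obtain ⟨j, hj⟩ := Nat.exists_eq_succ_of_ne_zero h0
    refine ⟨z ^ 2 ^ j, pow_mem hzP _, pow_mem hcy _, Nat.find_min hex (by omega), ?_⟩
    have := Nat.find_spec hex
    rw [hj, pow_succ, pow_mul] at this
    exact this
  have hy2P0 : y ^ 2 ∈ P0 := ⟨pow_mem hyP 2, hy2⟩
  have hy2R : ∀ r ∈ R, r * y ^ 2 = y ^ 2 * r := by
    intro r hr
    have h1 : r * y ^ 2 * r⁻¹ * (y ^ 2)⁻¹ ∈ P0 :=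
      P0.mul_mem ((Subgroup.mem_normalizer_iff.1 (hRM hr).2 _).1 hy2P0) (P0.inv_mem hy2P0)
    have h2 : r * y ^ 2 * r⁻¹ * (y ^ 2)⁻¹ ∈ R := by
      rw [show r * y ^ 2 * r⁻¹ * (y ^ 2)⁻¹ = r * (y ^ 2 * r⁻¹ * (y ^ 2)⁻¹) by group]
      exact R.mul_mem hr ((Subgroup.mem_normalizer_iff.1 (pow_mem hyR 2) _).1 (R.inv_mem hr))
    have h3 : r * y ^ 2 * r⁻¹ * (y ^ 2)⁻¹ ∈ R ⊓ P0 := ⟨h2, h1⟩
    have hdis : R ⊓ P0 = ⊥ := by
      obtain ⟨k, hk⟩ := hP0p.exists_card_eq
      exact Subgroup.inf_eq_bot_of_coprime (hk ▸ hRp.pow_right k)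
    rw [hdis, Subgroup.mem_bot, mul_inv_eq_one, mul_inv_eq_iff_eq_mul] at h3
    exact h3
  have h5 : π ⟨y ^ 2, hy2⟩ = 1 := by
    refine focal_fixed hperf' SB RB hRBn hRBp hcovB ⟨_, hSL.ge hy2P0, rfl⟩ ?_
    rintro _ ⟨r, hr, rfl⟩
    rw [← map_mul, ← map_mul]
    exact congrArg π (Subtype.ext (hy2R r hr))
  have h6 : y ^ 2 ∈ W := (QuotientGroup.eq_one_iff (⟨y ^ 2, hy2⟩ : L)).1 h5
  exact hyL (hfour y (by rw [show 4 = 2 * 2 from rfl, pow_mul]; exact hWsq _ h6))

end CfsgLib.Homogeneous
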