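import Cfsg.Agent.Lib.Homogeneous.OuterRank
import Cfsg.Agent.Lib.Homogeneous.Frobenius
import Cfsg.Agent.Lib.Components.Basic
import Cfsg.Agent.Lib.Involutions.BrauerSuzuki
import Cfsg.Agent.Lib.OddOrder41.FixOmega
import Cfsg.Agent.Lib.PCore.Basic

/-!
# The index of the component is prime to its primes

If `p` divides both `|L|` and `|G : L|`, `L` the characteristic component, then `p = 2` and every
involution of `L` is central in `L`.
-/

set_option autoImplicit false
set_option linter.unusedSimpArgs false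
set_option linter.style.haveILetI false
set_option maxHeartbeats 1000000

namespace CfsgLib.Homogeneous

open Pointwise

universe u

variable {G : Type u} [Group G] [Finite G] {p : ℕ} [Fact p.Prime]

/-- The elements of order dividing `p` of the centre of `Q`. -/
def omegaZ (p : ℕ) (Q : Subgroup G) : Subgroup G where
  carrier := {z | z ∈ Q ∧ z ∈ Subgroup.centralizer (Q : Set G) ∧ z ^ p = 1}
  one_mem' := ⟨one_mem _, one_mem _, one_pow p⟩
  mul_mem' := fun {a b} ha hb => ⟨mul_mem ha.1 hb.1, mul_mem ha.2.1 hb.2.1, by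
    have hc : Commute a b := (Subgroup.mem_centralizer_iff.1 ha.2.1 b hb.1).symm
    rw [hc.mul_pow, ha.2.2, hb.2.2, one_mul]⟩
  inv_mem' := fun ha => ⟨inv_mem ha.1, inv_mem ha.2.1, by rw [inv_pow, ha.2.2, inv_one]⟩

omit [Finite G] [Fact p.Prime] in
theorem omegaZ_isElementaryAbelian (p : ℕ) (Q : Subgroup G) :
    Cfsg.IsElementaryAbelian p (omegaZ p Q) :=
  ⟨⟨⟨fun a b => Subtype.ext (Subgroup.mem_centralizer_iff.1 b.2.2.1 a a.2.1)⟩⟩, fun _ ha => ha.2.2⟩

omit [Fact p.Prime] in
theorem mem_normalizer_omegaZ {Q : Subgroup G} {g : G} (hg : g ∈ Subgroup.normalizer (Q : Set G)) :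
    g ∈ Subgroup.normalizer (omegaZ p Q : Set G) := by
  refine Subgroup.mem_normalizer_fintype fun z hz => ⟨(Subgroup.mem_normalizer_iff.1 hg z).1 hz.1, ?_, ?_⟩
  · intro x hx
    have h1 : g⁻¹ * x * g ∈ Q := by
      have := (Subgroup.mem_normalizer_iff.1 (inv_mem hg) x).1 hx
      rwa [inv_inv] at this
    have h2 := Subgroup.mem_centralizer_iff.1 hz.2.1 _ h1
    calc x * (g * z * g⁻¹) = g * (g⁻¹ * x * g * z) * g⁻¹ := by group
      _ = g * z * g⁻¹ * x := by rw [h2]; group
  · rw [conj_pow, hz.2.2, mul_one, mul_inv_cancel]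

/-- Step 4b: `L`-conjugate elements of an elementary subgroup normalised by an outer element agree. -/
theorem eq_of_conj_of_outer (hG : Hom G) {L : Subgroup G} [L.Characteristic] (hp : p ∣ Nat.card L)
    {E : Subgroup G} (hEL : E ≤ L) (hE : Cfsg.IsElementaryAbelian p E)
    {y : G} (hy : IsOuter p L y) (hyE : y ∈ Subgroup.normalizer (E : Set G))
    {a b g : G} (ha : a ∈ E) (hb : b ∈ E) (hg : g ∈ L) (hgab : g * a * g⁻¹ = b) : a = b := by
  set D := L ⊓ Subgroup.centralizer (E : Set G) with hD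
  haveI := hE.1
  have hED : E ≤ D := fun e he =>
    ⟨hEL he, fun v hv => congrArg Subtype.val (mul_comm' (⟨v, hv⟩ : E) ⟨e, he⟩)⟩
  have hyD : y ∈ Subgroup.normalizer (D : Set G) := by
    refine Subgroup.mem_normalizer_fintype fun x hx => ⟨?_, fun v hv => ?_⟩
    · exact (Subgroup.mem_normalizer_iff.1 (Subgroup.le_normalizer_of_normal (Subgroup.mem_top y) :
        y ∈ Subgroup.normalizer (L : Set G)) x).1 hx.1
    · have h1 : y⁻¹ * v * y ∈ E := by
        have := (Subgroup.mem_normalizer_iff.1 (inv_mem hyE) v).1 hv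
        rwa [inv_inv] at this
      have h2 := Subgroup.mem_centralizer_iff.1 hx.2 _ h1
      calc v * (y * x * y⁻¹) = y * (y⁻¹ * v * y * x) * y⁻¹ := by group
        _ = y * x * y⁻¹ * v := by rw [h2]; group
  let Q : Sylow p D := default
  set Q' := (Q : Subgroup D).map D.subtype with hQ'
  have hQp : IsPGroup p Q' := Q.2.map _
  have hQD : Q' ≤ D := Subgroup.map_subtype_le _
  have hEQ : E ≤ Q' := by
    haveI : (E.subgroupOf D).Normal := Subgroup.normal_subgroupOf_of_le_normalizer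
      fun x hx => Subgroup.centralizer_le_normalizer _ hx.2
    have hEp : IsPGroup p (E.subgroupOf D) :=
      fun z => ⟨1, Subtype.ext (Subtype.ext (by simpa using hE.2 _ (Subgroup.mem_subgroupOf.1 z.2)))⟩
    have h1 := Q.3 (IsPGroup.to_sup_of_normal_right Q.2 hEp) le_sup_left
    intro e he
    exact ⟨⟨e, hED he⟩, h1.le ((le_sup_right : E.subgroupOf D ≤ _)
      (Subgroup.mem_subgroupOf.2 (show ((⟨e, hED he⟩ : D) : G) ∈ E from he))), rfl⟩
  obtain ⟨c, hc, hcy⟩ := exists_mul_mem_normalizer Q hyD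
  obtain ⟨e, hek, he⟩ := exists_pow_pPart (p := p) (c * y)
  have hout : IsOuter p L ((c * y) ^ e) :=
    isOuter_pPart hy (by rw [mul_inv_cancel_right]; exact hc.1) he hek
  have hUL : omegaZ p Q' ≤ L := fun z hz => (hQD hz.1).1
  have h4a := normalizer_le_centralizer_of_outer hG hp (omegaZ p Q') hUL
    (omegaZ_isElementaryAbelian p Q') hout (mem_normalizer_omegaZ (pow_mem hcy e))
  have hNE : ∀ x ∈ L, x ∈ Subgroup.normalizer (Q' : Set G) → x ∈ Subgroup.centralizer (E : Set G) :=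
    fun x hxL hxQ v hv => h4a ⟨hxL, mem_normalizer_omegaZ hxQ⟩ v
      ⟨hEQ hv, fun w hw => ((hQD hw).2 v hv).symm, hE.2 v hv⟩
  have hQL : Q' ≤ L := fun x hx => (hQD hx).1
  -- `Q'` is a Sylow subgroup of `L`
  have hmax : ∀ R : Subgroup G, Q' ≤ R → R ≤ L → IsPGroup p R → R = Q' := by
    intro R hQR hRL hR
    by_contra hne
    haveI : Group.IsNilpotent R := hR.isNilpotent
    have hlt : Q'.subgroupOf R < ⊤ := by
      rw [lt_top_iff_ne_top, Ne, Subgroup.subgroupOf_eq_top]
      exact fun h => hne (le_antisymm h hQR)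
    obtain ⟨x, hx, hxQ⟩ := SetLike.exists_of_lt (Group.normalizerCondition_of_isNilpotent _ hlt)
    have hxN : (x : G) ∈ Subgroup.normalizer (Q' : Set G) := Subgroup.mem_normalizer_fintype fun v hv =>
      (Subgroup.mem_normalizer_iff.1 hx ⟨v, hQR hv⟩).1 hv
    have hxD : (x : G) ∈ D := ⟨hRL x.2, hNE _ (hRL x.2) hxN⟩
    have hxQD : (⟨(x : G), hxD⟩ : D) ∈ Subgroup.normalizer ((Q : Subgroup D) : Set D) := by
      refine Subgroup.mem_normalizer_fintype fun v hv => ?_
      obtain ⟨v', hv', e'⟩ := (Subgroup.mem_normalizer_iff.1 hxN (v : G)).1 ⟨v, hv, rfl⟩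
      rwa [show v' = (⟨(x : G), hxD⟩ : D) * v * (⟨(x : G), hxD⟩ : D)⁻¹ from Subtype.ext e'] at hv'
    obtain ⟨k, hk⟩ := hR x
    have := CfsgLib.Transfer.isPGroup_mem_of_mem_normalizer Q hxQD k
      (Subtype.ext (congrArg Subtype.val hk : (x : G) ^ p ^ k = 1))
    exact hxQ (Subgroup.mem_subgroupOf.2 ⟨_, this, rfl⟩)
  -- Burnside
  set C := L ⊓ Subgroup.centralizer ({b} : Set G) with hC
  have hQC : Q' ≤ C := fun x hx => ⟨hQL hx, fun v hv => by
    rw [Set.mem_singleton_iff.1 hv]; exact (hQD hx).2 b hb⟩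
  have hQgC : MulAut.conj g • Q' ≤ C := CfsgLib.Coprime.conj_smul_le.2 fun x hx =>
    ⟨L.mul_mem (L.mul_mem hg (hQL hx)) (L.inv_mem hg), fun v hv => by
      rw [Set.mem_singleton_iff.1 hv, ← hgab]
      have := (hQD hx).2 a ha
      calc g * a * g⁻¹ * (g * x * g⁻¹) = g * (a * x) * g⁻¹ := by group
        _ = _ := by rw [this]; group⟩
  have hgp : IsPGroup p (MulAut.conj g • Q' : Subgroup G) :=
    hQp.of_equiv (Subgroup.equivSMul (MulAut.conj g) Q')
  obtain ⟨S1, hS1⟩ := (hQp.comap_of_injective C.subtype C.subtype_injective :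
    IsPGroup p (Q'.subgroupOf C)).exists_le_sylow
  obtain ⟨S2, hS2⟩ := (hgp.comap_of_injective C.subtype C.subtype_injective :
    IsPGroup p ((MulAut.conj g • Q').subgroupOf C)).exists_le_sylow
  have hS1' : (S1 : Subgroup C).map C.subtype = Q' :=
    hmax ((S1 : Subgroup C).map C.subtype) (fun x hx => ⟨⟨x, hQC hx⟩, hS1 hx, rfl⟩) ((Subgroup.map_subtype_le _).trans inf_le_left)
      (S1.2.map _)
  have hS2' : (S2 : Subgroup C).map C.subtype = MulAut.conj g • Q' := by
    have hle : (MulAut.conj g • Q' : Subgroup G) ≤ (S2 : Subgroup C).map C.subtype :=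
      fun x hx => ⟨⟨x, hQgC hx⟩, hS2 hx, rfl⟩
    refine (Subgroup.eq_of_le_of_card_ge hle ?_).symm
    rw [CfsgLib.Coprime.card_conj_smul, ← hS1', Subgroup.card_map_of_injective C.subtype_injective,
      Subgroup.card_map_of_injective C.subtype_injective, S1.card_eq_multiplicity, S2.card_eq_multiplicity]
  obtain ⟨c', hc'⟩ := MulAction.exists_smul_eq C S1 S2
  have hn : g⁻¹ * (c' : G) ∈ Subgroup.normalizer (Q' : Set G) := by
    refine Subgroup.mem_normalizer_fintype fun x hx => ?_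
    obtain ⟨x', hx', rfl⟩ := hS1'.ge hx
    have h1 : c' * x' * c'⁻¹ ∈ (S2 : Subgroup C) := by
      rw [← hc', Sylow.coe_subgroup_smul]
      exact CfsgLib.Coprime.conj_smul_le.1 le_rfl _ hx'
    have h2 := hS2'.le ⟨_, h1, rfl⟩
    rw [CfsgLib.Coprime.mem_conj_smul] at h2
    simpa [mul_assoc] using h2
  have h5 := hNE _ (L.mul_mem (L.inv_mem hg) c'.2.1) hn a ha
  have h6 : b * c' = c' * b := c'.2.2 b rfl
  have h7 : (c' : G) * a * (c' : G)⁻¹ = b := by
    calc (c' : G) * a * (c' : G)⁻¹ = g * (g⁻¹ * c' * a) * (c' : G)⁻¹ := by group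
      _ = g * a * g⁻¹ := by rw [← h5]; group
      _ = b := hgab
  calc a = (c' : G)⁻¹ * b * c' := by rw [← h7]; group
    _ = b := by rw [mul_assoc, h6, inv_mul_cancel_left]

/-- Outer normalisation depends only on the order of the elementary subgroup. -/
theorem exists_outer_of_card_eq (hG : Hom G) {L : Subgroup G} [L.Characteristic] {E E' : Subgroup G}
    (hE : Cfsg.IsElementaryAbelian p E) (hE' : Cfsg.IsElementaryAbelian p E')
    (hc : Nat.card E = Nat.card E') (h : ∃ y, IsOuter p L y ∧ y ∈ Subgroup.normalizer (E : Set G)) :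
    ∃ y, IsOuter p L y ∧ y ∈ Subgroup.normalizer (E' : Set G) := by
  obtain ⟨n, ⟨m⟩⟩ := exists_model hE
  obtain ⟨n', ⟨m'⟩⟩ := exists_model hE'
  rw [Nat.card_congr m.ι.toEquiv, Nat.card_congr m'.ι.toEquiv,
    Nat.card_congr Multiplicative.toAdd, Nat.card_congr Multiplicative.toAdd, Nat.card_fun,
    Nat.card_fun, Nat.card_zmod, Nat.card_fin, Nat.card_fin] at hc
  obtain rfl := Nat.pow_right_injective (Fact.out : p.Prime).two_le hc
  obtain ⟨φ, hφ⟩ := hG E E' (m.ι.trans m'.ι.symm)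
  obtain ⟨y, ⟨hyL, k, hk⟩, hyE⟩ := h
  refine ⟨φ y, ⟨fun h => hyL ((map_mem_iff_of_char φ).1 h), k, by rw [φ.orderOf_eq, hk]⟩, ?_⟩
  refine Subgroup.mem_normalizer_fintype fun x hx => ?_
  obtain ⟨v, hv⟩ := (m.ι.trans m'.ι.symm).surjective ⟨x, hx⟩
  have hxv : φ v = x := (hφ v).trans (congrArg Subtype.val hv)
  rw [← hxv, ← map_mul, ← map_inv, ← map_mul]
  have h2 := (Subgroup.mem_normalizer_iff.1 hyE v).1 v.2
  rw [show φ (y * v * y⁻¹) = _ from hφ ⟨_, h2⟩]
  exact Subtype.mem _

theorem dvd_index_not_le {L : Subgroup G} (hi : p ∣ L.index) (P : Sylow p G) :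
    ∃ y ∈ (P : Subgroup G), y ∉ L := by
  by_contra h
  push Not at h
  exact P.not_dvd_index (hi.trans (Subgroup.index_dvd_of_le h))

/-- Commuting `L`-conjugate elements of order `p` are equal. -/
theorem eq_of_commute_of_conj (hG : Hom G) {L : Subgroup G} [L.Characteristic] (hp : p ∣ Nat.card L)
    (hi : p ∣ L.index) {a g : G} (hg : g ∈ L) (hao : orderOf a = p)
    (hc : Commute a (g * a * g⁻¹)) : g * a * g⁻¹ = a := by
  obtain ⟨t, ht⟩ := exists_prime_orderOf_dvd_card' p hp
  rw [← Subgroup.orderOf_coe] at ht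
  have hall : ∀ x : G, orderOf x = p → x ∈ L := fun x hx => hG.mem_of_orderOf_eq t.2 (ht.trans hx.symm)
  set b := g * a * g⁻¹ with hb
  have hbo : orderOf b = p := by
    rw [hb, ← hao]
    exact (MulAut.conj g).orderOf_eq a
  have hmemL : ∀ {E : Subgroup G}, Cfsg.IsElementaryAbelian p E → E ≤ L := fun {E} hE x hx => by
    rcases eq_or_ne x 1 with rfl | h1
    · exact one_mem _
    · exact hall x (orderOf_eq_prime (hE.2 x hx) h1)
  by_cases hba : b ∈ Subgroup.zpowers a
  · -- rank one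
    have hE := zpowers_isElementaryAbelian hao
    have hex : ∃ y, IsOuter p L y ∧ y ∈ Subgroup.normalizer (Subgroup.zpowers a : Set G) := by
      let P : Sylow p G := default
      have hne : (P : Subgroup G) ⊓ L ≠ ⊥ := by
        intro h
        obtain ⟨R, hR⟩ := (P.2.to_le (inf_le_left : (P : Subgroup G) ⊓ L ≤ P)).exists_card_eq
        obtain ⟨P1, hP1⟩ := (IsPGroup.of_card (p := p) (n := 1)
          (by rw [Nat.card_zpowers, hao, pow_one]) : IsPGroup p (Subgroup.zpowers a)).exists_le_sylow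
        obtain ⟨k, hk⟩ := MulAction.exists_smul_eq G P1 P
        have h1 : k * a * k⁻¹ ∈ (P : Subgroup G) := by
          rw [← hk, Sylow.coe_subgroup_smul]
          exact CfsgLib.Coprime.conj_smul_le.1 le_rfl _ (hP1 (Subgroup.mem_zpowers a))
        have h2 : k * a * k⁻¹ ∈ L := (inferInstance : L.Normal).conj_mem a (hall a hao) k
        have h3 : k * a * k⁻¹ ∈ (P : Subgroup G) ⊓ L := ⟨h1, h2⟩
        rw [h, Subgroup.mem_bot, mul_inv_eq_one, mul_eq_left] at h3
        rw [h3, orderOf_one] at hao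
        exact (Fact.out : p.Prime).ne_one hao.symm
      obtain ⟨z, hz, hzo, hzc⟩ := exists_central_order_p P.2 (P.2.to_le inf_le_left)
        (fun x hx => Subgroup.mem_normalizer_fintype fun v hv => Subgroup.mem_inf.2
          ⟨mul_mem (mul_mem hx hv.1) (inv_mem hx), (inferInstance : L.Normal).conj_mem v hv.2 x⟩) hne
      obtain ⟨y, hy, hyL⟩ := dvd_index_not_le hi P
      obtain ⟨k, hk⟩ := IsPGroup.iff_orderOf.1 P.2 ⟨y, hy⟩
      refine exists_outer_of_card_eq hG (zpowers_isElementaryAbelian hzo) hE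
        (by rw [Nat.card_zpowers, Nat.card_zpowers, hao, hzo])
        ⟨y, ⟨hyL, k, by rwa [← Subgroup.orderOf_coe] at hk⟩,
          Subgroup.centralizer_le_normalizer _ fun v hv => ?_⟩
      obtain ⟨i, rfl⟩ := Subgroup.mem_zpowers_iff.1 hv
      exact ((Commute.symm (hzc y hy)).zpow_left i).eq
    obtain ⟨y, hy, hyN⟩ := hex
    exact (eq_of_conj_of_outer hG hp (hmemL hE) hE hy hyN (Subgroup.mem_zpowers a) hba hg rfl).symm
  · -- rank two
    obtain ⟨hE, hEc⟩ := pair_isElementaryAbelian hao hbo hc hba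
    have hEp : IsPGroup p (Subgroup.zpowers a ⊔ Subgroup.zpowers b : Subgroup G) :=
      IsPGroup.of_card (n := 2) hEc
    obtain ⟨P, hP⟩ := hEp.exists_le_sylow
    have haP : a ∈ (P : Subgroup G) := hP ((le_sup_left : Subgroup.zpowers a ≤ _) (Subgroup.mem_zpowers a))
    have hbP : b ∈ (P : Subgroup G) := hP ((le_sup_right : Subgroup.zpowers b ≤ _) (Subgroup.mem_zpowers b))
    obtain ⟨y, hy, hyL⟩ := dvd_index_not_le hi P
    obtain ⟨k, hk⟩ := IsPGroup.iff_orderOf.1 P.2 ⟨y, hy⟩
    rw [← Subgroup.orderOf_coe] at hk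
    rcases normal_square_or_generated (a := ⟨a, haP⟩) (b := ⟨b, hbP⟩) P.2
        (by rwa [← Subgroup.orderOf_coe]) (by rwa [← Subgroup.orderOf_coe]) (Subtype.ext hc)
        (fun h => hba (by
          obtain ⟨i, hi'⟩ := Subgroup.mem_zpowers_iff.1 h
          exact ⟨i, congrArg Subtype.val hi'⟩)) with ⟨U, hUP, hU, hUc, hUn⟩ | ⟨rfl, hgen⟩
    · obtain ⟨y', hy', hyN⟩ := exists_outer_of_card_eq hG hU hE (hUc.trans hEc.symm)
        ⟨y, ⟨hyL, k, hk⟩, hUn hy⟩
      exact (eq_of_conj_of_outer hG hp (hmemL hE) hE hy' hyN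
        ((le_sup_left : Subgroup.zpowers a ≤ _) (Subgroup.mem_zpowers a))
        ((le_sup_right : Subgroup.zpowers b ≤ _) (Subgroup.mem_zpowers b)) hg rfl).symm
    · exfalso
      refine hyL (hgen L inferInstance (fun x hx => hall _ (by rwa [Subgroup.orderOf_coe]))
        (fun x z hxL hx hz => hG.mem_of_orderOf_eq hxL ?_) hy)
      rw [Subgroup.orderOf_coe, Subgroup.orderOf_coe, hx, hz]

/-- Step 4: a prime divisor of both `|L|` and `|G : L|` is `2`, with central involutions. -/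
theorem index_exception (hG : Hom G) {L : Subgroup G} [L.Characteristic] (hq : Cfsg.IsQuasisimple L)
    (hp : p ∣ Nat.card L) (hi : p ∣ L.index) :
    p = 2 ∧ ∀ x : L, orderOf x = 2 → x ∈ Subgroup.center L := by
  have hiso : ∀ x : L, orderOf x = p → ∀ g : L, Commute x (g * x * g⁻¹) → g * x * g⁻¹ = x :=
    fun x hx g hc => Subtype.ext (eq_of_commute_of_conj hG hp hi g.2
      (by rw [Subgroup.orderOf_coe]; exact hx) (congrArg Subtype.val hc.eq))
  by_cases h2 : p = 2
  · subst h2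
    refine ⟨rfl, fun x hx => ?_⟩
    have hz : Cfsg.InZStar 2 x := CfsgLib.Involutions.zstar L x ⟨hx, hiso x hx⟩
    have hcore : Cfsg.pPrimeCore 2 L ≤ Subgroup.center L := by
      rcases CfsgLib.Components.quasisimple_normal_eq_top_or_le_center hq (Cfsg.pPrimeCore 2 L) with h | h
      · exfalso
        have h1 := CfsgLib.PCore.not_dvd_card_pPrimeCore (p := 2) (G := L)
        rw [h, Subgroup.card_top] at h1
        exact h1 hp
      · exact h
    let f : L →* Subgroup.center L := MonoidHom.mk' (fun g => ⟨g * x * g⁻¹ * x⁻¹, hcore (hz g)⟩)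
      fun g g' => Subtype.ext (by
        show g * g' * x * (g * g')⁻¹ * x⁻¹ = g * x * g⁻¹ * x⁻¹ * (g' * x * g'⁻¹ * x⁻¹)
        have h1 : g' * x * g'⁻¹ * x⁻¹ * x = x * (g' * x * g'⁻¹ * x⁻¹) :=
          (Subgroup.mem_center_iff.1 (hcore (hz g')) x).symm
        have h2 := Subgroup.mem_center_iff.1 (hcore (hz g')) (g * x * g⁻¹ * x⁻¹)
        have h3 := Subgroup.mem_center_iff.1 (hcore (hz g')) g
        rw [h2]
        calc g * g' * x * (g * g')⁻¹ * x⁻¹ = g * (g' * x * g'⁻¹ * x⁻¹) * x * g⁻¹ * x⁻¹ := by group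
          _ = g' * x * g'⁻¹ * x⁻¹ * (g * x * g⁻¹ * x⁻¹) := by rw [h3]; group)
    rw [Subgroup.mem_center_iff]
    intro g
    have h5 : commutator L ≤ f.ker := by
      rw [commutator_def, Subgroup.commutator_le]
      intro a _ b _
      rw [MonoidHom.mem_ker, map_commutatorElement, commutatorElement_eq_one_iff_mul_comm]
      exact Subtype.ext (Subgroup.mem_center_iff.1 (f b).2 (f a))
    rw [CfsgLib.Components.quasisimple_commutator_eq_top hq] at h5
    have h6 : g * x * g⁻¹ * x⁻¹ = 1 := congrArg Subtype.val (h5 (Subgroup.mem_top g))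
    rwa [mul_inv_eq_one, mul_inv_eq_iff_eq_mul] at h6
  · exfalso
    refine not_dvd_of_frobeniusCond (CfsgLib.Components.quasisimple_commutator_eq_top hq) ?_ hp
    intro Q hQ g hg hcop
    haveI : Group.IsNilpotent Q := hQ.isNilpotent
    have hcen : ∀ x : Q, orderOf (x : L) = p → x ∈ Subgroup.center Q := by
      intro x hx
      by_contra hxc
      have hlt : Subgroup.centralizer ({x} : Set Q) < ⊤ := lt_top_iff_ne_top.2 fun h => hxc
        (Subgroup.mem_center_iff.2 fun z => (Subgroup.mem_centralizer_singleton_iff.1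
          (h.ge (Subgroup.mem_top z))))
      obtain ⟨z, hz, hzc⟩ := SetLike.exists_of_lt (Group.normalizerCondition_of_isNilpotent _ hlt)
      refine hzc (Subgroup.mem_centralizer_singleton_iff.2 ?_)
      have h1 := (Subgroup.mem_normalizer_iff.1 hz x).1 (Subgroup.mem_centralizer_singleton_iff.2 rfl)
      have h2 := hiso x hx z (congrArg Subtype.val (Subgroup.mem_centralizer_singleton_iff.1 h1)).symm
      exact Subtype.ext (mul_inv_eq_iff_eq_mul.1 h2)
    intro q hq'
    have h3 := CfsgLib.OddOrder41.fixes_of_fixes_exponent_p h2 g hcop (Nat.card Q) Q rfl hQ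
      (fun v hv => (Subgroup.mem_normalizer_iff.1 hg v).1 hv)
      (fun v hv hvp => by
        rcases eq_or_ne v 1 with rfl | hv1
        · simp
        have hvo : orderOf v = p := orderOf_eq_prime hvp hv1
        have h4 := hiso v hvo g (congrArg Subtype.val (Subgroup.mem_center_iff.1 (hcen ⟨v, hv⟩ hvo)
          ⟨g * v * g⁻¹, (Subgroup.mem_normalizer_iff.1 hg v).1 hv⟩)).symm
        exact mul_inv_eq_iff_eq_mul.1 h4) q hq'
    exact h3.symm

end CfsgLib.Homogeneous
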