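import Cfsg.Agent.Lib.Homogeneous.Scalar
import Cfsg.Agent.Lib.Homogeneous.OuterMain
import Cfsg.Agent.Lib.Coprime.Action
import Mathlib

/-!
# The scalar is one

The scalar by which a coprime element `h` acts on the elementary subgroups of an invariant Sylow
subgroup is independent of the subgroup, and the automorphism extending `h ↦ h⁻¹` shows it is one.
-/

set_option autoImplicit false
set_option linter.unusedSectionVars false
set_option linter.style.haveILetI false

namespace CfsgLib.Homogeneous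

universe u

variable {G : Type u} [Group G] [Finite G] {p : ℕ} [Fact p.Prime]

theorem uniform_scalar {W : Subgroup G} (hW : Cfsg.IsElementaryAbelian p W) {h : G}
    (hcyc : ∀ w ∈ W, h * w * h⁻¹ ∈ Subgroup.zpowers w) {z : G} (hz : z ∈ W) (hz1 : z ≠ 1) {i : ℤ}
    (hi : h * z * h⁻¹ = z ^ i) {u : G} (hu : u ∈ W) : h * u * h⁻¹ = u ^ i := by
  by_cases huz : u ∈ Subgroup.zpowers z
  · obtain ⟨a, rfl⟩ := huz
    rw [← conj_zpow, hi, ← zpow_mul, ← zpow_mul, mul_comm]
  obtain ⟨j, hj⟩ := hcyc u hu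
  obtain ⟨l, hl⟩ := hcyc (z * u) (mul_mem hz hu)
  have hj' : u ^ j = h * u * h⁻¹ := hj
  have hl' : (z * u) ^ l = h * (z * u) * h⁻¹ := hl
  haveI := hW.1
  have hc : Commute z u := congrArg Subtype.val (mul_comm' (⟨z, hz⟩ : W) ⟨u, hu⟩)
  have h1 : z ^ l * u ^ l = z ^ i * u ^ j := by
    rw [← hc.mul_zpow, hl', ← hi, hj']; group
  have h2 : z ^ (-i + l) = u ^ (j + -l) := by
    calc z ^ (-i + l) = (z ^ i)⁻¹ * (z ^ l * u ^ l) * (u ^ l)⁻¹ := by
          rw [zpow_add, zpow_neg]; group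
      _ = u ^ (j + -l) := by rw [h1, zpow_add, zpow_neg]; group
  have h3 : u ^ (j + -l) = 1 := by
    by_contra hne
    have hp : orderOf u = p := orderOf_eq_prime (hW.2 u hu) fun e => hne (by rw [e, one_zpow])
    haveI : Fact (Nat.card (Subgroup.zpowers u)).Prime := ⟨by rw [Nat.card_zpowers, hp]; exact Fact.out⟩
    rcases ((Subgroup.zpowers u ⊓ Subgroup.zpowers z).subgroupOf (Subgroup.zpowers u)).eq_bot_or_eq_top_of_prime_card
      with hb | ht
    · refine hne ?_
      have hm : (⟨u ^ (j + -l), ⟨_, rfl⟩⟩ : Subgroup.zpowers u) ∈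
          (Subgroup.zpowers u ⊓ Subgroup.zpowers z).subgroupOf (Subgroup.zpowers u) :=
        Subgroup.mem_inf.2 ⟨⟨_, rfl⟩, ⟨_, h2⟩⟩
      rw [hb, Subgroup.mem_bot] at hm
      exact congrArg Subtype.val hm
    · exact huz ((Subgroup.subgroupOf_eq_top.1 ht) (Subgroup.mem_zpowers u)).2
  rw [h3] at h2
  have hzo : orderOf z = p := orderOf_eq_prime (hW.2 z hz) hz1
  have h4 : (p : ℤ) ∣ -i + l := by rw [← hzo]; exact orderOf_dvd_iff_zpow_eq_one.2 h2
  have h5 : u ^ (-i + l) = 1 := by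
    obtain ⟨c, hc'⟩ := h4
    rw [hc', zpow_mul, zpow_natCast, hW.2 u hu, one_zpow]
  rw [← hj']
  have e1 : u ^ j = u ^ l := mul_inv_eq_one.1 (by rw [← zpow_neg, ← zpow_add]; exact h3)
  have e2 : u ^ l = u ^ i := mul_inv_eq_one.1 (by rw [← zpow_neg, ← zpow_add, add_comm]; exact h5)
  exact e1.trans e2

/-- Step 7a. -/
theorem fixes_elementary (hG : Hom G) {L : Subgroup G} [L.Characteristic] (hp2 : p ≠ 2)
    (hpL : p ∣ Nat.card L) (hpi : ¬ p ∣ L.index) {r : ℕ} [Fact r.Prime] (hr : ¬ r ∣ Nat.card L)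
    (hr2 : r ≠ 2) {h : G} {k : ℕ} (hk : orderOf h = r ^ k) (S : Sylow p L)
    (hS : Subgroup.zpowers h ≤ Subgroup.normalizer (((S : Subgroup L).map L.subtype : Subgroup G) : Set G))
    {U : Subgroup G} (hUS : U ≤ (S : Subgroup L).map L.subtype) (hU : Cfsg.IsElementaryAbelian p U)
    (hh : h ∈ Subgroup.normalizer (U : Set G)) : ∀ u ∈ U, Commute h u := by
  set P := (S : Subgroup L).map L.subtype with hPdef
  have hrp : r ≠ p := fun e => hr (e ▸ hpL)
  have hscal : ∀ {W : Subgroup G}, Cfsg.IsElementaryAbelian p W → h ∈ Subgroup.normalizer (W : Set G) →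
      ∀ w ∈ W, h * w * h⁻¹ ∈ Subgroup.zpowers w := fun hW hn =>
    conj_mem_zpowers hG hp2 hpi hr hr2 hrp hk hW hn
  set E := omegaZ p P with hE
  have hhP : h ∈ Subgroup.normalizer (P : Set G) := hS (Subgroup.mem_zpowers h)
  have hEn : h ∈ Subgroup.normalizer (E : Set G) := mem_normalizer_omegaZ hhP
  -- a non-trivial element of `E`
  obtain ⟨z, hzE, hz1⟩ : ∃ z ∈ E, z ≠ 1 := by
    have hPne : Nontrivial P := by
      rw [Subgroup.nontrivial_iff_ne_bot, hPdef, Ne, Subgroup.map_eq_bot_iff_of_injective _ L.subtype_injective]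
      exact S.ne_bot_of_dvd_card hpL
    have hPp : IsPGroup p P := S.2.map _
    haveI := hPp.center_nontrivial
    have hd : p ∣ Nat.card (Subgroup.center P) := by
      obtain ⟨a, ha⟩ := (hPp.to_subgroup (Subgroup.center P)).exists_card_eq
      rcases a with _ | a
      · exact absurd (Finite.one_lt_card (α := Subgroup.center P)) (by rw [ha, pow_zero]; omega)
      · rw [ha]; exact dvd_pow_self p (Nat.succ_ne_zero _)
    obtain ⟨c, hc⟩ := exists_prime_orderOf_dvd_card' p hd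
    refine ⟨((c : P) : G), ⟨(c : P).2, fun x hx => ?_, ?_⟩, fun e => ?_⟩
    · exact congrArg Subtype.val (Subgroup.mem_center_iff.1 c.2 ⟨x, hx⟩)
    · rw [← hc, ← SubgroupClass.coe_pow, ← SubgroupClass.coe_pow, pow_orderOf_eq_one]; rfl
    · have : c = 1 := Subtype.ext (Subtype.ext e)
      rw [this, orderOf_one] at hc
      exact (Fact.out : p.Prime).one_lt.ne hc
  -- the join
  let W : Subgroup G := Subgroup.closure ((U : Set G) ∪ E)
  have hcomm : ∀ a ∈ (U : Set G) ∪ E, ∀ b ∈ (U : Set G) ∪ E, a * b = b * a := by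
    haveI := hU.1
    rintro a (ha | ha) b (hb | hb)
    · exact congrArg Subtype.val (mul_comm' (⟨a, ha⟩ : U) ⟨b, hb⟩)
    · exact hb.2.1 a (hUS ha)
    · exact (ha.2.1 b (hUS hb)).symm
    · exact hb.2.1 a ha.1
  have hWc := Subgroup.isMulCommutative_closure hcomm
  have hW : Cfsg.IsElementaryAbelian p W := ⟨hWc, fun a ha => by
    induction ha using Subgroup.closure_induction with
    | mem x hx => exact hx.elim (hU.2 x) fun h => h.2.2
    | one => exact one_pow p
    | mul x y hx hy ihx ihy =>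
      rw [(show Commute x y from congrArg Subtype.val (mul_comm' (⟨x, hx⟩ : W) ⟨y, hy⟩)).mul_pow, ihx, ihy,
        one_mul]
    | inv x _ ihx => rw [inv_pow, ihx, inv_one]⟩
  have hhW : h ∈ Subgroup.normalizer (W : Set G) := Subgroup.mem_normalizer_fintype fun x hx => by
    show h * x * h⁻¹ ∈ W
    change x ∈ W at hx
    induction hx using Subgroup.closure_induction with
    | mem x hx =>
      exact Subgroup.subset_closure (hx.elim (fun h' => Or.inl ((Subgroup.mem_normalizer_iff.1 hh x).1 h'))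
        fun h' => Or.inr ((Subgroup.mem_normalizer_iff.1 hEn x).1 h'))
    | one => simp
    | mul x y _ _ ihx ihy => simpa [mul_assoc] using mul_mem ihx ihy
    | inv x _ ihx => simpa [mul_assoc] using inv_mem ihx
  have hEW : E ≤ W := fun x hx => Subgroup.subset_closure (Or.inr hx)
  have hUW : U ≤ W := fun x hx => Subgroup.subset_closure (Or.inl hx)
  obtain ⟨i, hi⟩ := hscal hW hhW z (hEW hzE)
  have hi' : h * z * h⁻¹ = z ^ i := hi.symm
  -- the automorphism inverting `h`
  haveI : IsMulCommutative (Subgroup.zpowers h) := inferInstance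
  letI : CommGroup (Subgroup.zpowers h) :=
    { (inferInstance : Group (Subgroup.zpowers h)) with mul_comm := mul_comm' }
  obtain ⟨φ, hφ⟩ := hG.exists_extension (MulEquiv.inv (Subgroup.zpowers h))
  have hφh : φ h = h⁻¹ := by
    have := hφ ⟨h, Subgroup.mem_zpowers h⟩
    simpa using this
  -- move `φ P` back to `P`
  let φL : L ≃* L :=
    { toFun := fun x => ⟨φ x, map_mem_of_char φ x.2⟩
      invFun := fun x => ⟨φ.symm x, map_mem_of_char φ.symm x.2⟩
      left_inv := fun x => Subtype.ext (φ.symm_apply_apply _)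
      right_inv := fun x => Subtype.ext (φ.apply_symm_apply _)
      map_mul' := fun x y => Subtype.ext (map_mul φ _ _) }
  let T : Sylow p L := S.mapSurjective (f := φL.toMonoidHom) φL.surjective
  have hTmem : ∀ x : G, x ∈ (T : Subgroup L).map L.subtype ↔ ∃ v ∈ P, φ v = x := by
    intro x
    constructor
    · rintro ⟨_, ⟨v, hv, rfl⟩, rfl⟩
      exact ⟨v, ⟨v, hv, rfl⟩, rfl⟩
    · rintro ⟨_, ⟨v, hv, rfl⟩, rfl⟩
      exact ⟨φL v, ⟨v, hv, rfl⟩, rfl⟩
  have hcop : (Nat.card (Subgroup.zpowers h)).Coprime (Nat.card L) := by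
    rw [Nat.card_zpowers, hk]
    exact Nat.Coprime.pow_left _ (((Fact.out : r.Prime).coprime_iff_not_dvd).2 hr)
  have hLn : Subgroup.zpowers h ≤ Subgroup.normalizer (L : Set G) :=
    fun x _ => Subgroup.le_normalizer_of_normal (Subgroup.mem_top x)
  have hT : Subgroup.zpowers h ≤ Subgroup.normalizer (((T : Subgroup L).map L.subtype : Subgroup G) : Set G) := by
    refine Subgroup.zpowers_le.2 (Subgroup.mem_normalizer_fintype fun x hx => ?_)
    obtain ⟨v, hv, rfl⟩ := (hTmem x).1 hx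
    refine (hTmem _).2 ⟨h⁻¹ * v * h⁻¹⁻¹, (Subgroup.mem_normalizer_iff.1 (inv_mem hhP) v).1 hv, ?_⟩
    simp [hφh]
  obtain ⟨c, hc, hcT⟩ := CfsgLib.Coprime.invariant_sylow_conj (Subgroup.zpowers h) L hLn hcop
    (Or.inl inferInstance) p T S hT hS
  let ψ : G ≃* G := φ.trans (MulAut.conj (c : G))
  have hψh : ψ h = h⁻¹ := by
    show (c : G) * φ h * (c : G)⁻¹ = h⁻¹
    rw [hφh]
    have hch : Commute h (c : G) := Subgroup.mem_centralizer_iff.1 hc h (Subgroup.mem_zpowers h)
    rw [← hch.inv_left.eq, mul_inv_cancel_right]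
  have hψP : ∀ v ∈ P, ψ v ∈ P := by
    rintro _ ⟨v, hv, rfl⟩
    have h1 : c * φL v * c⁻¹ ∈ (S : Subgroup L) := by
      rw [← hcT, Sylow.coe_subgroup_smul]
      exact Subgroup.smul_mem_pointwise_smul (φL v) (MulAut.conj c) _ ⟨v, hv, rfl⟩
    exact ⟨_, h1, rfl⟩
  have hψE : ψ z ∈ E := by
    refine ⟨hψP z hzE.1, ?_, by rw [← map_pow, hzE.2.2, map_one]⟩
    have hsur : ∀ x ∈ P, ∃ v ∈ P, ψ v = x := by
      intro x hx
      obtain ⟨⟨v, hv⟩, hvx⟩ := Finite.surjective_of_injective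
        (f := fun v : P => (⟨ψ v, hψP v v.2⟩ : P))
        (fun a b hab => Subtype.ext (ψ.injective (congrArg Subtype.val hab))) ⟨x, hx⟩
      exact ⟨v, hv, congrArg Subtype.val hvx⟩
    intro x hx
    obtain ⟨v, hv, rfl⟩ := hsur x hx
    rw [← map_mul, ← map_mul, hzE.2.1 v hv]
  have h1 : h * ψ z * h⁻¹ = ψ z ^ i := uniform_scalar hW (hscal hW hhW) (hEW hzE) hz1 hi' (hEW hψE)
  have h2 : h⁻¹ * ψ z * h = ψ z ^ i := by
    have := congrArg ψ hi'
    rwa [map_mul, map_mul, map_inv, map_zpow, hψh, inv_inv] at this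
  have hodd : Odd (orderOf h) := by
    rw [hk]; exact ((Fact.out : r.Prime).odd_of_ne_two hr2).pow
  have h3 : Commute h (ψ z) := by
    refine sq_commute_cancel hodd ?_
    show h ^ 2 * ψ z = ψ z * h ^ 2
    rw [pow_two]
    calc h * h * ψ z = h * (h * ψ z * h⁻¹) * h := by group
      _ = h * (h⁻¹ * ψ z * h) * h := by rw [h1, ← h2]
      _ = ψ z * (h * h) := by group
  have h4 : ψ z ^ i = ψ z := by rw [← h1, h3.eq, mul_inv_cancel_right]
  have h5 : z ^ i = z := ψ.injective (by rw [map_zpow, h4])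
  intro u hu
  have h6 : h * u * h⁻¹ = u ^ i := uniform_scalar hW (hscal hW hhW) (hEW hzE) hz1 hi' (hUW hu)
  have hzo : orderOf z = p := orderOf_eq_prime hzE.2.2 hz1
  have h7 : (p : ℤ) ∣ i - 1 := by
    rw [← hzo]
    exact orderOf_dvd_iff_zpow_eq_one.2 (by rw [zpow_sub_one, h5, mul_inv_cancel])
  have h8 : u ^ i = u := by
    obtain ⟨a, ha⟩ := h7
    rw [show i = (p : ℤ) * a + 1 by omega, zpow_add, zpow_mul, zpow_natCast, hU.2 u hu, one_zpow, one_mul,
      zpow_one]
  rw [h8, mul_inv_eq_iff_eq_mul] at h6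
  exact h6

end CfsgLib.Homogeneous
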