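import Cfsg.Agent.Lib.PGroup.Frattini
import Cfsg.Agent.Lib.PGroup.Class2
import Cfsg.Prelude.Def_Transfer
import Mathlib

/-!
# A minimal invariant subgroup moved by a coprime element

If `h` fixes every invariant elementary abelian subgroup of the `p`-group `P` (`p` odd) but not `P`,
a minimal invariant subgroup that it moves has exponent `p`, class two, and `h` fixes its centre.
-/

set_option autoImplicit false
set_option linter.unusedSectionVars false
set_option linter.style.haveILetI false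

namespace CfsgLib.Homogeneous

open scoped commutatorElement

universe u

variable {G : Type u} [Group G] [Finite G] {p : ℕ} [Fact p.Prime]

/-- An element of coprime order fixing `x⁻¹ * (h x h⁻¹)` fixes `x`. -/
theorem commute_of_commute_diff {h x : G} {j : ℕ} (hj : (x⁻¹ * (h * x * h⁻¹)) ^ p ^ j = 1)
    (hcop : (orderOf h).Coprime p) (hc : Commute h (x⁻¹ * (h * x * h⁻¹))) : Commute h x := by
  set d := x⁻¹ * (h * x * h⁻¹) with hd
  have hx : h * x * h⁻¹ = x * d := by rw [hd]; group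
  have h1 : ∀ n : ℕ, h ^ n * x = x * d ^ n * h ^ n := by
    intro n
    induction n with
    | zero => simp
    | succ n ih =>
      calc h ^ (n + 1) * x = h * (h ^ n * x) := by rw [pow_succ', mul_assoc]
        _ = (h * x * h⁻¹) * (h * d ^ n) * h ^ n := by rw [ih]; group
        _ = x * d * (d ^ n * h) * h ^ n := by rw [hx, (hc.pow_right n).eq]
        _ = x * d ^ (n + 1) * h ^ (n + 1) := by rw [pow_succ' d, pow_succ' h]; simp only [mul_assoc]
  have h2 := h1 (orderOf h)
  rw [pow_orderOf_eq_one, one_mul, mul_one, left_eq_mul] at h2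
  have h3 : d = 1 := orderOf_eq_one_iff.1
    (Nat.eq_one_of_dvd_coprimes (hcop.pow_right j) (orderOf_dvd_of_pow_eq_one h2)
      (orderOf_dvd_of_pow_eq_one hj))
  rw [h3, mul_one, mul_inv_eq_iff_eq_mul] at hx
  exact hx

theorem exists_special {h : G} {P : Subgroup G} (hP : IsPGroup p P) (hp2 : p ≠ 2)
    (hcop : (orderOf h).Coprime p) (hh : h ∈ Subgroup.normalizer (P : Set G))
    (helem : ∀ U ≤ P, Cfsg.IsElementaryAbelian p U → h ∈ Subgroup.normalizer (U : Set G) →
      ∀ u ∈ U, Commute h u)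
    (hnc : ∃ x ∈ P, ¬ Commute h x) :
    ∃ X ≤ P, h ∈ Subgroup.normalizer (X : Set G) ∧ (∀ x ∈ X, x ^ p = 1) ∧
      (∃ x ∈ X, ∃ y ∈ X, ¬ Commute x y) ∧ (∀ x ∈ X, ∀ y ∈ X, Commute h ⁅x, y⁆) ∧
      (∀ z ∈ X, Commute h z → ∀ x ∈ X, Commute z x) ∧
      (∀ x ∈ X, Commute h (x⁻¹ * (h * x * h⁻¹)) → Commute h x) ∧
      ∀ W ≤ X, h ∈ Subgroup.normalizer (W : Set G) → (∃ x ∈ W, ¬ Commute h x) → X ≤ W := by
  classical
  let Q : Subgroup G → Prop := fun X =>
    X ≤ P ∧ h ∈ Subgroup.normalizer (X : Set G) ∧ ∃ x ∈ X, ¬ Commute h x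
  obtain ⟨X, hX, hmin⟩ := exists_minimal_of_wellFoundedLT (α := Subgroup G) Q ⟨P, le_rfl, hh, hnc⟩
  obtain ⟨hXP, hhX, x0, hx0, hx0c⟩ := hX
  have hXp : IsPGroup p X := hP.to_le hXP
  have hWX : ∀ W ≤ X, h ∈ Subgroup.normalizer (W : Set G) → (∃ x ∈ W, ¬ Commute h x) → X ≤ W :=
    fun W hW hn he => hmin (y := W) ⟨hW.trans hXP, hn, he⟩ hW
  have hdiff : ∀ x ∈ X, Commute h (x⁻¹ * (h * x * h⁻¹)) → Commute h x := fun x hx hc => by
    have hd : x⁻¹ * (h * x * h⁻¹) ∈ X := mul_mem (inv_mem hx) ((Subgroup.mem_normalizer_iff.1 hhX x).1 hx)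
    obtain ⟨j, hj⟩ := hXp ⟨_, hd⟩
    exact commute_of_commute_diff (congrArg Subtype.val hj) hcop hc
  haveI hnt : Nontrivial X := ⟨⟨⟨x0, hx0⟩, 1, fun e => hx0c (by
    have e' : x0 = 1 := congrArg Subtype.val e
    rw [e']; exact Commute.one_right h)⟩⟩
  -- the Frattini subgroup is fixed
  have hfrat : ∀ v ∈ frattini X, Commute h (v : G) := by
    intro v hv
    by_contra hne
    let a : MulAut X := Subgroup.normalizerMonoidHom X ⟨h, hhX⟩
    have hinv : h ∈ Subgroup.normalizer (((frattini X).map X.subtype : Subgroup G) : Set G) := by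
      refine Subgroup.mem_normalizer_fintype ?_
      rintro _ ⟨w, hw, rfl⟩
      refine ⟨a w, ?_, rfl⟩
      have := (frattini_characteristic (G := X)).fixed a
      rw [← this] at hw
      exact hw
    have hle := hWX _ (Subgroup.map_subtype_le _) hinv ⟨_, ⟨v, hv, rfl⟩, hne⟩
    refine CfsgLib.PGroup.frattini_ne_top (P := X) (eq_top_iff.2 fun w _ => ?_)
    obtain ⟨w', hw', e⟩ := hle w.2
    rwa [← Subtype.ext e]
  have hcomm : ∀ x ∈ X, ∀ y ∈ X, Commute h ⁅x, y⁆ := fun x hx y hy =>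
    hfrat ⁅(⟨x, hx⟩ : X), ⟨y, hy⟩⁆ (CfsgLib.PGroup.commutator_le_frattini hXp
      (Subgroup.commutator_mem_commutator (Subgroup.mem_top _) (Subgroup.mem_top _)))
  -- `X` is generated by the differences
  let D : Set G := (fun x => x⁻¹ * (h * x * h⁻¹)) '' (X : Set G)
  have hDX : Subgroup.closure D ≤ X := by
    rw [Subgroup.closure_le]
    rintro _ ⟨x, hx, rfl⟩
    exact mul_mem (inv_mem hx) ((Subgroup.mem_normalizer_iff.1 hhX x).1 hx)
  have hgen : X ≤ Subgroup.closure D := by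
    refine hWX _ hDX (Subgroup.mem_normalizer_fintype fun w hw => ?_)
      ⟨x0⁻¹ * (h * x0 * h⁻¹), Subgroup.subset_closure ⟨x0, hx0, rfl⟩, fun hc => hx0c (hdiff x0 hx0 hc)⟩
    show h * w * h⁻¹ ∈ Subgroup.closure D
    change w ∈ Subgroup.closure D at hw
    induction hw using Subgroup.closure_induction with
    | mem w hw =>
      obtain ⟨x, hx, rfl⟩ := hw
      exact Subgroup.subset_closure ⟨h * x * h⁻¹, (Subgroup.mem_normalizer_iff.1 hhX x).1 hx, by
        simp [mul_assoc]⟩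
    | one => simp
    | mul x y _ _ ihx ihy => simpa [mul_assoc] using mul_mem ihx ihy
    | inv x _ ihx => simpa [mul_assoc] using inv_mem ihx
  have hcen : ∀ z ∈ X, Commute h z → ∀ x ∈ X, Commute z x := by
    intro z hz hzc x hx
    have hx' := hgen hx
    clear hx
    induction hx' using Subgroup.closure_induction with
    | mem w hw =>
      obtain ⟨y, hy, rfl⟩ := hw
      have h1 : h * ⁅y, z⁆ * h⁻¹ = ⁅y, z⁆ := by rw [(hcomm y hy z hz).eq, mul_inv_cancel_right]
      have h2 : h * z * h⁻¹ = z := by rw [hzc.eq, mul_inv_cancel_right]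
      have h3 : ⁅h * y * h⁻¹, z⁆ = ⁅y, z⁆ := by
        conv_lhs => rw [← h2]
        rw [← h1]
        simp [commutatorElement_def, mul_assoc]
      have h4 : (y⁻¹ * (h * y * h⁻¹)) * z * (y⁻¹ * (h * y * h⁻¹))⁻¹ = z := by
        calc (y⁻¹ * (h * y * h⁻¹)) * z * (y⁻¹ * (h * y * h⁻¹))⁻¹
            = y⁻¹ * (⁅h * y * h⁻¹, z⁆ * z) * y := by rw [commutatorElement_def]; group
          _ = z := by rw [h3, commutatorElement_def]; group
      exact (mul_inv_eq_iff_eq_mul.1 h4).symm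
    | one => exact Commute.one_right z
    | mul x y _ _ ihx ihy => exact ihx.mul_right ihy
    | inv x _ ihx => exact ihx.inv_right
  have hcenX : ∀ z : X, Commute h (z : G) → z ∈ Subgroup.center X := fun z hz =>
    Subgroup.mem_center_iff.2 fun x => Subtype.ext ((hcen z z.2 hz x x.2).eq).symm
  have hcl : ∀ x y : X, ⁅x, y⁆ ∈ Subgroup.center X := fun x y =>
    hcenX _ (hcomm x x.2 y y.2)
  have hpc : ∀ x : X, Commute h ((x ^ p : X) : G) := fun x =>
    hfrat _ (CfsgLib.PGroup.pow_mem_frattini hXp x)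
  have hodd : Odd p := (Fact.out : p.Prime).odd_of_ne_two hp2
  have hcp : ∀ x y : X, ⁅x, y⁆ ^ p = 1 := fun x y =>
    CfsgLib.PGroup.commutatorElement_pow_eq_one_of_pow_central (hcl x y) (hcenX _ (hpc x))
  have hpow : ∀ x ∈ X, x ^ p = 1 := by
    intro x hx
    let S : Set X := {w | (w : G) ∈ D}
    have hS : ∀ w ∈ S, w ^ p = 1 := by
      rintro w ⟨y, hy, hyw⟩
      have hy' : h * y * h⁻¹ ∈ X := (Subgroup.mem_normalizer_iff.1 hhX y).1 hy
      have hw : w = (⟨y, hy⟩ : X)⁻¹ * ⟨h * y * h⁻¹, hy'⟩ := Subtype.ext hyw.symm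
      rw [hw, CfsgLib.PGroup.mul_pow_odd_of_central hodd (hcl _ _) (hcp _ _), inv_pow]
      refine inv_mul_eq_one.2 (Subtype.ext ?_)
      show y ^ p = (h * y * h⁻¹) ^ p
      have := (hpc ⟨y, hy⟩).eq
      rw [SubgroupClass.coe_pow] at this
      rw [conj_pow, this, mul_inv_cancel_right]
    have hxS : (⟨x, hx⟩ : X) ∈ Subgroup.closure S := by
      have hle : Subgroup.closure D ≤ (Subgroup.closure S).map X.subtype := by
        rw [Subgroup.closure_le]
        intro w hw
        exact ⟨⟨w, hDX (Subgroup.subset_closure hw)⟩, Subgroup.subset_closure hw, rfl⟩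
      obtain ⟨w, hw, e⟩ := hle (hgen hx)
      rwa [show (⟨x, hx⟩ : X) = w from Subtype.ext e.symm]
    exact congrArg Subtype.val (CfsgLib.PGroup.pow_eq_one_of_mem_closure_class_two hodd hcl S hS hxS)
  refine ⟨X, hXP, hhX, hpow, ?_, hcomm, hcen, hdiff, hWX⟩
  by_contra hab
  push Not at hab
  exact hx0c (helem X hXP ⟨⟨⟨fun a b => Subtype.ext (hab a a.2 b b.2).eq⟩⟩, hpow⟩ hhX x0 hx0)

end CfsgLib.Homogeneous
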