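import Mathlib

/-!
# An irreducible isometry of odd order is contained in an `SL₂`

Let `b` be a non-zero alternating bilinear map on `V` (characteristic not two) and `s` a non-trivial
isometry of odd order, coprime to `p`, acting irreducibly.  Then `V` is two-dimensional over the
field generated by `c = s + s⁻¹`, and `SL₂` of that field preserves `b` and contains `s`.
-/

set_option autoImplicit false
set_option linter.unusedSectionVars false
set_option linter.style.haveILetI false

namespace CfsgLib.Homogeneous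

open scoped MatrixGroups
open Module (End)

universe u v

variable {p : ℕ} [Fact p.Prime] {V : Type u} [AddCommGroup V] [Module (ZMod p) V] [Finite V]
  {U : Type v} [AddCommGroup U] [Module (ZMod p) U]

theorem zmod_two_ne_zero (hp2 : p ≠ 2) : (2 : ZMod p) ≠ 0 := by
  intro h
  have h1 : ((2 : ℕ) : ZMod p) = 0 := by exact_mod_cast h
  exact hp2 ((Nat.prime_dvd_prime_iff_eq Fact.out Nat.prime_two).1
    ((ZMod.natCast_eq_zero_iff 2 p).1 h1))

theorem zmod_three_cases : ∀ t : ZMod 3, t = 0 ∨ t = 1 ∨ t = -1 := by decide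

theorem exists_sl2 (hp2 : p ≠ 2) (b : V →ₗ[ZMod p] V →ₗ[ZMod p] U) (halt : ∀ v, b v v = 0)
    (hb0 : b ≠ 0) (s : V ≃ₗ[ZMod p] V) (hbs : ∀ u w, b (s u) (s w) = b u w)
    (hodd : Odd (orderOf s)) (hcop : (orderOf s).Coprime p) (hs1 : s ≠ 1)
    (hirr : ∀ W : Submodule (ZMod p) V, (∀ w ∈ W, s w ∈ W) → W = ⊥ ∨ W = ⊤) :
    ∃ (F : Type u) (_ : Field F) (_ : Fintype F) (ρ : SL(2, F) →* (V ≃ₗ[ZMod p] V)) (S : SL(2, F)),
      4 ≤ Fintype.card F ∧ ρ S = s ∧ S ∉ Subgroup.center SL(2, F) ∧
      ∀ M u w, b (ρ M u) (ρ M w) = b u w := by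
  classical
  have h2 := zmod_two_ne_zero hp2
  have hskew : ∀ u w, b u w = - b w u := fun u w => by
    have h := halt (u + w)
    simp only [map_add, LinearMap.add_apply, halt, zero_add, add_zero] at h
    exact eq_neg_of_add_eq_zero_right h
  have hself : ∀ x : U, x = -x → x = 0 := fun x hx => by
    have h : (2 : ZMod p) • x = 0 := by rw [two_smul]; exact add_eq_zero_iff_eq_neg.2 hx
    exact (smul_eq_zero.1 h).resolve_left h2
  -- endomorphisms commuting with `s`
  let σ : End (ZMod p) V := s.toLinearMap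
  have hinj : ∀ a : End (ZMod p) V, (∀ w, a (s w) = s (a w)) → a ≠ 0 → ∀ w, a w = 0 → w = 0 := by
    intro a hca ha w hw
    rcases hirr (LinearMap.ker a) (fun x hx => by
      rw [LinearMap.mem_ker] at hx ⊢; rw [hca, hx, map_zero]) with h | h
    · have : w ∈ LinearMap.ker a := hw
      rwa [h, Submodule.mem_bot] at this
    · exact absurd (LinearMap.ker_eq_top.1 h) ha
  -- the form is non-degenerate
  have hrad : ∀ w, (∀ u, b u w = 0) → w = 0 := by
    intro w hw
    let R : Submodule (ZMod p) V := LinearMap.ker b.flip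
    rcases hirr R (fun x hx => by
      refine LinearMap.ext fun u => ?_
      show b u (s x) = 0
      rw [← s.apply_symm_apply u, hbs]
      exact LinearMap.congr_fun (LinearMap.mem_ker.1 hx) _) with h | h
    · have : w ∈ R := LinearMap.mem_ker.2 (LinearMap.ext hw)
      rwa [h, Submodule.mem_bot] at this
    · refine absurd (LinearMap.ext₂ fun u x => ?_) hb0
      have hx : x ∈ R := h ▸ Submodule.mem_top
      exact LinearMap.congr_fun (LinearMap.mem_ker.1 hx) u
  let c : End (ZMod p) V := s.toLinearMap + s.symm.toLinearMap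
  have hcs : ∀ w, c (s w) = s (c w) := fun w => by
    show s (s w) + s.symm (s w) = s (s w + s.symm w)
    rw [map_add, s.apply_symm_apply, s.symm_apply_apply]
  have hquad : ∀ w, s (s w) = c (s w) - w := fun w => by
    show s (s w) = s (s w) + s.symm (s w) - w
    rw [s.symm_apply_apply, add_sub_cancel_right]
  let A : Subalgebra (ZMod p) (End (ZMod p) V) := Algebra.adjoin (ZMod p) {c}
  have hAs : ∀ a ∈ A, ∀ w, a (s w) = s (a w) := by
    intro a ha
    induction ha using Algebra.adjoin_induction with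
    | mem x hx => rw [Set.mem_singleton_iff.1 hx]; exact hcs
    | algebraMap r => intro w; simp [Module.algebraMap_end_apply]
    | add x y _ _ hx hy => intro w; simp [hx, hy]
    | mul x y _ _ hx hy => intro w; simp [hx, hy]
  have hcsa : ∀ u w, b (c u) w = b u (c w) := fun u w => by
    show b (s u + s.symm u) w = b u (s w + s.symm w)
    simp only [map_add, LinearMap.add_apply]
    rw [← hbs (s.symm u) w, s.apply_symm_apply, add_comm]
    congr 1
    rw [← hbs u (s.symm w), s.apply_symm_apply]
  have hAcomm : ∀ a d : A, a * d = d * a := by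
    intro a d
    haveI : IsMulCommutative (Algebra.adjoin (ZMod p) ({c} : Set (End (ZMod p) V))) := inferInstance
    exact mul_comm' a d
  have hAsa : ∀ a ∈ A, ∀ u w, b (a u) w = b u (a w) := by
    intro a ha
    induction ha using Algebra.adjoin_induction with
    | mem x hx => rw [Set.mem_singleton_iff.1 hx]; exact hcsa
    | algebraMap r => intro u w; simp [Module.algebraMap_end_apply]
    | add x y _ _ hx hy => intro u w; simp [hx, hy]
    | mul x y hx' hy' hx hy =>
      intro u w
      show b (x (y u)) w = b u (x (y w))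
      rw [hx, hy]
      exact congrArg (b u) (LinearMap.congr_fun (congrArg Subtype.val (hAcomm ⟨y, hy'⟩ ⟨x, hx'⟩)) w)
  haveI : Nontrivial V := by
    by_contra h
    rw [not_nontrivial_iff_subsingleton] at h
    exact hs1 (LinearEquiv.ext fun w => Subsingleton.elim _ _)
  haveI : Finite (End (ZMod p) V) := Finite.of_injective _ DFunLike.coe_injective
  letI iC : CommRing A := { (inferInstance : Ring A) with mul_comm := hAcomm }
  haveI : NoZeroDivisors A := ⟨fun {a d} h => by
    by_contra hn
    push Not at hn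
    refine hn.2 (Subtype.ext (LinearMap.ext fun w => ?_))
    exact hinj a.1 (hAs a.1 a.2) (fun e => hn.1 (Subtype.ext e)) _
      (LinearMap.congr_fun (congrArg Subtype.val h) w)⟩
  haveI : IsDomain A := NoZeroDivisors.to_isDomain A
  letI : Fintype A := Fintype.ofFinite A
  letI iF : Field A := Fintype.fieldOfDomain A
  obtain ⟨v, hv⟩ := exists_ne (0 : V)
  -- `s` is not a scalar
  have hsv : ∀ a : A, s v ≠ a.1 v := by
    intro a ha
    have h1 : ∀ w, s w = a.1 w := by
      by_contra h
      refine hv (hinj (σ - a.1) (fun w => ?_) (fun e => h fun w => ?_) v ?_)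
      · show s (s w) - a.1 (s w) = s (s w - a.1 w)
        rw [map_sub, hAs a.1 a.2]
      · exact sub_eq_zero.1 (LinearMap.congr_fun e w)
      · show s v - a.1 v = 0
        rw [ha, sub_self]
    have h2' : ∀ w, s (s w) = w := by
      intro w
      refine sub_eq_zero.1 (hrad _ fun u => ?_)
      obtain ⟨u, rfl⟩ := s.surjective u
      have h3 : b (s u) w = b u (s w) := by rw [h1 u, h1 w]; exact hAsa a.1 a.2 u w
      rw [map_sub, h3, hbs, sub_self]
    have h4 : orderOf s ∣ 2 := orderOf_dvd_of_pow_eq_one (LinearEquiv.ext fun w => by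
      rw [pow_two]; exact h2' w)
    rcases (Nat.dvd_prime Nat.prime_two).1 h4 with h5 | h5
    · exact hs1 (orderOf_eq_one_iff.1 h5)
    · rw [h5] at hodd; exact absurd hodd (by decide)
  -- the coordinates
  let ψ : (Fin 2 → A) →ₗ[ZMod p] V :=
    { toFun := fun x => (x 0).1 v + (x 1).1 (s v)
      map_add' := fun x y => by
        simp only [Pi.add_apply, Subalgebra.coe_add, LinearMap.add_apply]; abel
      map_smul' := fun r x => by
        simp only [Pi.smul_apply, Subalgebra.coe_smul, LinearMap.smul_apply, RingHom.id_apply, smul_add] }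
  have hψi : Function.Injective ψ := by
    refine (injective_iff_map_eq_zero ψ).2 fun x hx => ?_
    have hx' : (x 0).1 v + (x 1).1 (s v) = 0 := hx
    have hb1 : x 1 = 0 := by
      by_contra h
      refine hsv (-((x 1)⁻¹ * x 0)) ?_
      have h1 : ((x 1)⁻¹).1 ((x 1).1 (s v)) = s v := by
        have := congrArg (fun a : A => a.1 (s v)) (inv_mul_cancel₀ h)
        exact this
      rw [← h1, eq_neg_of_add_eq_zero_right hx', map_neg]
      rfl
    rw [hb1] at hx'
    have hb0' : x 0 = 0 := by
      by_contra h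
      refine hv (hinj (x 0).1 (hAs _ (x 0).2) (fun e => h (Subtype.ext e)) v ?_)
      simpa using hx'
    funext i; fin_cases i <;> assumption
  have hψs : Function.Surjective ψ := by
    rw [← LinearMap.range_eq_top]
    rcases hirr (LinearMap.range ψ) (fun w hw => by
      obtain ⟨x, rfl⟩ := hw
      refine ⟨![-(x 1), x 0 + x 1 * ⟨c, Algebra.subset_adjoin rfl⟩], ?_⟩
      show (-(x 1).1) v + ((x 0).1 + (x 1).1 * c) (s v) = s ((x 0).1 v + (x 1).1 (s v))
      rw [map_add, ← hAs _ (x 0).2 v, ← hAs _ (x 1).2 (s v), hquad v, map_sub]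
      simp only [LinearMap.neg_apply, LinearMap.add_apply, Module.End.mul_apply]
      abel) with h | h
    · exfalso
      have hm : v ∈ LinearMap.range ψ := ⟨![1, 0], by
        show (1 : A).1 v + (0 : A).1 (s v) = v
        simp⟩
      rw [h, Submodule.mem_bot] at hm
      exact hv hm
    · exact h
  let e : (Fin 2 → A) ≃ₗ[ZMod p] V := LinearEquiv.ofBijective ψ ⟨hψi, hψs⟩
  let ρ : SL(2, A) →* (V ≃ₗ[ZMod p] V) := MonoidHom.mk'
    (fun M => e.symm.trans (((Matrix.SpecialLinearGroup.toLin' M).restrictScalars (ZMod p)).trans e))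
    fun M N => LinearEquiv.ext fun w => by
      simp [map_mul]
  let cA : A := ⟨c, Algebra.subset_adjoin rfl⟩
  let S : SL(2, A) := ⟨!![0, -1; 1, cA], by simp [Matrix.det_fin_two_of]⟩
  have hρ : ∀ (M : SL(2, A)) x, ρ M (ψ x) = ψ (Matrix.mulVec (M : Matrix (Fin 2) (Fin 2) A) x) := by
    intro M x
    show e (Matrix.SpecialLinearGroup.toLin' M (e.symm (e x))) = _
    rw [e.symm_apply_apply, Matrix.SpecialLinearGroup.toLin'_apply]
    rfl
  have hS : ρ S = s := by
    refine LinearEquiv.ext fun w => ?_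
    obtain ⟨x, rfl⟩ := hψs w
    rw [hρ]
    show (Matrix.mulVec (S : Matrix (Fin 2) (Fin 2) A) x 0).1 v +
      (Matrix.mulVec (S : Matrix (Fin 2) (Fin 2) A) x 1).1 (s v) = s ((x 0).1 v + (x 1).1 (s v))
    rw [map_add, ← hAs _ (x 0).2 v, ← hAs _ (x 1).2 (s v), hquad v, map_sub]
    have e0 : Matrix.mulVec (S : Matrix (Fin 2) (Fin 2) A) x 0 = - x 1 := by
      simp [S, Matrix.mulVec, dotProduct, Fin.sum_univ_two]
    have e1 : Matrix.mulVec (S : Matrix (Fin 2) (Fin 2) A) x 1 = x 0 + x 1 * cA := by
      simp [S, Matrix.mulVec, dotProduct, Fin.sum_univ_two, mul_comm]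
    rw [e0, e1, Subalgebra.coe_neg, Subalgebra.coe_add, Subalgebra.coe_mul]
    simp only [LinearMap.neg_apply, LinearMap.add_apply, Module.End.mul_apply, cA]
    abel
  -- the form in coordinates
  have hb : ∀ x y, b (ψ x) (ψ y) = b v ((x 0 * y 1 - x 1 * y 0).1 (s v)) := by
    have hsmul : ∀ (a d : A) u w, b (a.1 u) (d.1 w) = b u ((a * d).1 w) := fun a d u w => by
      rw [hAsa a.1 a.2]; rfl
    have hvv : ∀ (a : A) u, b u (a.1 u) = 0 := fun a u =>
      hself _ (by conv_lhs => rw [hskew u, hAsa a.1 a.2])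
    intro x y
    show b ((x 0).1 v + (x 1).1 (s v)) ((y 0).1 v + (y 1).1 (s v)) = _
    simp only [map_add, LinearMap.add_apply, hsmul, hvv, zero_add, add_zero]
    rw [hskew (s v) ((x 1 * y 0).1 v), hAsa _ (x 1 * y 0).2, Subalgebra.coe_sub, LinearMap.sub_apply,
      map_sub]
    abel
  have hcard : 4 ≤ Fintype.card A := by
    have hp3 : 3 ≤ p := by have := (Fact.out : p.Prime).two_le; omega
    have hinj' : Function.Injective (algebraMap (ZMod p) A) := (algebraMap (ZMod p) A).injective
    have hle : p ≤ Fintype.card A := by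
      simpa using Fintype.card_le_of_injective _ hinj'
    by_contra hlt
    have hp : p = 3 := by omega
    have hcA : Fintype.card A = 3 := by omega
    subst hp
    obtain ⟨r, hr⟩ : ∃ r, algebraMap (ZMod 3) A r = cA :=
      ((Fintype.bijective_iff_injective_and_card _).2 ⟨hinj', by rw [ZMod.card, hcA]⟩).2 cA
    have hc' : ∀ w, c w = r • w := fun w => by
      rw [show c = (cA : A).1 from rfl, ← hr]
      simp [Module.algebraMap_end_apply]
    have hq : ∀ w, s (s w) = r • s w - w := fun w => by rw [hquad, hc']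
    have h12 : ∀ w, (s ^ 12) w = w := fun w => by
      rcases zmod_three_cases r with rfl | rfl | rfl <;>
        · simp only [LinearEquiv.pow_apply, Function.iterate_succ, Function.iterate_zero,
            Function.comp_apply, id_eq]
          simp [hq]
    have hd : orderOf s ∣ 4 * 3 := orderOf_dvd_of_pow_eq_one (LinearEquiv.ext h12)
    have h4 : (orderOf s).Coprime 4 :=
      (((Nat.prime_two.coprime_iff_not_dvd).2 hodd.not_two_dvd_nat).symm.pow_right 2)
    exact hs1 (orderOf_eq_one_iff.1 (Nat.eq_one_of_dvd_coprimes (h4.mul_right hcop) dvd_rfl hd))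
  refine ⟨A, iF, inferInstance, ρ, S, hcard, hS, ?_, fun M u w => ?_⟩
  · intro hc0
    let T : SL(2, A) := ⟨!![1, 1; 0, 1], by simp [Matrix.det_fin_two_of]⟩
    have h : ((T * S : SL(2, A)) : Matrix (Fin 2) (Fin 2) A) 0 0 = ((S * T : SL(2, A)) : Matrix (Fin 2) (Fin 2) A) 0 0 := by
      rw [Subgroup.mem_center_iff.1 hc0 T]
    change ((!![1, 1; 0, 1] : Matrix (Fin 2) (Fin 2) A) * (!![0, -1; 1, cA] : Matrix (Fin 2) (Fin 2) A)) 0 0 =
      ((!![0, -1; 1, cA] : Matrix (Fin 2) (Fin 2) A) * (!![1, 1; 0, 1] : Matrix (Fin 2) (Fin 2) A)) 0 0 at h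
    simp [Matrix.mul_apply, Fin.sum_univ_two] at h
  · obtain ⟨x, rfl⟩ := hψs u
    obtain ⟨y, rfl⟩ := hψs w
    rw [hρ, hρ, hb, hb]
    congr 3
    have hd := M.2
    rw [Matrix.det_fin_two] at hd
    simp [Matrix.mulVec, dotProduct, Fin.sum_univ_two]
    linear_combination (x 0 * y 1 - x 1 * y 0) * hd

end CfsgLib.Homogeneous
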