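import Cfsg.Agent.Lib.Homogeneous.FixElementary
import Cfsg.Agent.Lib.Homogeneous.Special
import Cfsg.Agent.Lib.Homogeneous.SympSL
import Cfsg.Agent.Lib.Homogeneous.ClassTwoLift
import Cfsg.Agent.Lib.Homogeneous.CentreForm
import Cfsg.Agent.Lib.Components.SLQuasisimple
import Cfsg.Agent.Lib.Components.Basic
import Mathlib

/-!
# A coprime element centralises the invariant Sylow subgroups of odd order
-/

set_option autoImplicit false
set_option linter.unusedSectionVars false
set_option linter.style.haveILetI false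
set_option maxHeartbeats 1000000

namespace CfsgLib.Homogeneous

open scoped MatrixGroups commutatorElement
open Subgroup (center)

universe u

variable {G : Type u} [Group G] [Finite G] {p : ℕ} [Fact p.Prime]

theorem exists_derived_le (L : Subgroup G) [L.Normal] [hs : Group.IsSolvable (G ⧸ L)] :
    ∃ n, derivedSeries G n ≤ L := by
  obtain ⟨n, hn⟩ := hs
  refine ⟨n, fun x hx => (QuotientGroup.eq_one_iff x).1 ?_⟩
  have := map_derivedSeries_le_derivedSeries (QuotientGroup.mk' L) n ⟨x, hx, rfl⟩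
  rwa [hn, Subgroup.mem_bot] at this

/-- Step 7b. -/
theorem fixes_sylow (hG : Hom G) {L : Subgroup G} [L.Characteristic] [Group.IsSolvable (G ⧸ L)]
    (hp2 : p ≠ 2) (hpL : p ∣ Nat.card L) (hpi : ¬ p ∣ L.index) {r : ℕ} [Fact r.Prime]
    (hr : ¬ r ∣ Nat.card L) (hr2 : r ≠ 2) {h : G} {k : ℕ} (hk : orderOf h = r ^ k) (S : Sylow p L)
    (hS : Subgroup.zpowers h ≤ Subgroup.normalizer (((S : Subgroup L).map L.subtype : Subgroup G) : Set G)) :
    ∀ x ∈ (S : Subgroup L).map L.subtype, Commute h x := by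
  classical
  by_contra hne
  push Not at hne
  set P := (S : Subgroup L).map L.subtype with hPdef
  have hr' : r.Prime := Fact.out
  have hrp : r ≠ p := fun e => hr (e ▸ hpL)
  have hcop : (orderOf h).Coprime p := by
    rw [hk]; exact ((Nat.coprime_primes hr' Fact.out).2 hrp).pow_left k
  obtain ⟨X, hXP, hhX, hexp, hnab, hcomm, hcen, hdiff, hWX⟩ :=
    exists_special (p := p) (h := h) (P := P) (S.2.map _) hp2 hcop (hS (Subgroup.mem_zpowers h))
      (fun U hU hUe hUn => fixes_elementary hG hp2 hpL hpi hr hr2 hk S hS hU hUe hUn) hne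
  obtain ⟨x₁, hx₁, y₁, hy₁, hxy⟩ := hnab
  have hx₁c : ¬ Commute h x₁ := fun hc => hxy (hcen x₁ hx₁ hc y₁ hy₁)
  let a : MulAut X := Subgroup.normalizerMonoidHom X ⟨h, hhX⟩
  have ha : ∀ x : X, (a x : G) = h * x * h⁻¹ := fun x => rfl
  have haf : ∀ x : X, a x = x ↔ Commute h (x : G) := fun x => by
    rw [Subtype.ext_iff, ha, mul_inv_eq_iff_eq_mul]; rfl
  -- the centre is the set of fixed points
  have hZ : ∀ x : X, x ∈ center X ↔ Commute h (x : G) := by
    intro x
    refine ⟨fun hx => ?_, fun hx => Subgroup.mem_center_iff.2 fun y => Subtype.ext ((hcen x x.2 hx y y.2).eq).symm⟩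
    by_contra hxc
    have hn : h ∈ Subgroup.normalizer (((center X).map X.subtype : Subgroup G) : Set G) := by
      refine Subgroup.mem_normalizer_fintype ?_
      rintro _ ⟨w, hw, rfl⟩
      refine ⟨a w, ?_, rfl⟩
      have := (inferInstance : (center X).Characteristic).fixed a
      rw [← this] at hw
      exact hw
    obtain ⟨w, hw, e⟩ := hWX _ (Subgroup.map_subtype_le _) hn ⟨_, ⟨x, hx, rfl⟩, hxc⟩ hx₁
    exact hxy (by
      have h1 := congrArg Subtype.val (Subgroup.mem_center_iff.1 hw ⟨y₁, hy₁⟩)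
      rw [← e]
      exact h1.symm)
  have hcc : ∀ x y : X, ⁅x, y⁆ ∈ center X := fun x y => (hZ _).2 (hcomm x x.2 y y.2)
  have hexp' : ∀ x : X, x ^ p = 1 := fun x => Subtype.ext (hexp x x.2)
  obtain ⟨V, U, _, _, _, _, _, q, qbar, b, hq, hqs, hker, hqbar, hb⟩ :=
    hasCentreForm (p := p) (X := X) hexp' hcc
  set s := qbar a with hs
  have hodd : Odd (orderOf s) :=
    ((hr'.odd_of_ne_two hr2).pow (n := k)).of_dvd_nat (hk ▸ (orderOf_map_dvd qbar a).trans (by
      rw [← Subgroup.orderOf_mk h hhX]; exact orderOf_map_dvd _ _))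
  have hsd : orderOf s ∣ orderOf h :=
    (orderOf_map_dvd qbar a).trans (by rw [← Subgroup.orderOf_mk h hhX]; exact orderOf_map_dvd _ _)
  have hfix : ∀ x : X, s (q x) = q x → x ∈ center X := by
    intro x hx
    rw [hs, hqbar] at hx
    have h1 : x⁻¹ * a x ∈ center X := by
      refine (hker _).1 ?_
      have h0 : q x⁻¹ + q x = 0 := by rw [← hq, inv_mul_cancel]; exact (hker 1).2 (one_mem _)
      rw [hq, hx, h0]
    exact (hZ x).2 (hdiff x x.2 ((hZ _).1 h1))
  have hs1 : s ≠ 1 := fun e => hx₁c ((hZ ⟨x₁, hx₁⟩).1 (hfix _ (by rw [e]; rfl)))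
  have hb0 : b ≠ 0 := by
    intro e
    have h2 : ⁅(⟨x₁, hx₁⟩ : X), (⟨y₁, hy₁⟩ : X)⁆ = 1 :=
      ((hb ⟨x₁, hx₁⟩ ⟨y₁, hy₁⟩ 1 1).1 (by rw [e]; rfl)).trans (commutatorElement_self 1)
    exact hxy (congrArg Subtype.val (commutatorElement_eq_one_iff_mul_comm.1 h2))
  have hbs : ∀ u w, b (s u) (s w) = b u w := by
    intro u w
    obtain ⟨x, rfl⟩ := hqs u
    obtain ⟨y, rfl⟩ := hqs w
    rw [hs, hqbar, hqbar]
    refine (hb _ _ _ _).2 ?_
    rw [← map_commutatorElement a, haf]
    exact hcomm x x.2 y y.2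
  have halt : ∀ v, b v v = 0 := by
    intro v
    obtain ⟨x, rfl⟩ := hqs v
    have h1 : b (q 1) (q 1) = 0 := by rw [(hker 1).2 (one_mem _)]; simp
    rw [(hb x x 1 1).2 (by rw [commutatorElement_self, commutatorElement_self]), h1]
  have hirr : ∀ W : Submodule (ZMod p) V, (∀ w ∈ W, s w ∈ W) → W = ⊥ ∨ W = ⊤ := by
    intro W hW
    let W0 : Subgroup X :=
      { carrier := {x | q x ∈ W}
        one_mem' := by show q 1 ∈ W; rw [(hker 1).2 (one_mem _)]; exact W.zero_mem
        mul_mem' := fun {x y} hx hy => by show q (x * y) ∈ W; rw [hq]; exact W.add_mem hx hy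
        inv_mem' := fun {x} hx => by
          show q x⁻¹ ∈ W
          have h0 : q x⁻¹ + q x = 0 := by rw [← hq, inv_mul_cancel]; exact (hker 1).2 (one_mem _)
          rw [eq_neg_of_add_eq_zero_left h0]; exact W.neg_mem hx }
    have hn : h ∈ Subgroup.normalizer ((W0.map X.subtype : Subgroup G) : Set G) := by
      refine Subgroup.mem_normalizer_fintype ?_
      rintro _ ⟨w, hw, rfl⟩
      refine ⟨a w, ?_, rfl⟩
      show q (a w) ∈ W
      rw [← hqbar]
      exact hW (q w) hw
    by_cases hall : ∀ x ∈ W0.map X.subtype, Commute h x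
    · left
      refine eq_bot_iff.2 fun v hv => ?_
      obtain ⟨x, rfl⟩ := hqs v
      rw [Submodule.mem_bot, hker, hZ]
      exact hall _ ⟨x, hv, rfl⟩
    · right
      push Not at hall
      refine eq_top_iff.2 fun v _ => ?_
      obtain ⟨x, rfl⟩ := hqs v
      obtain ⟨w, hw, e⟩ := hWX _ (Subgroup.map_subtype_le _) hn hall x.2
      rw [← Subtype.ext e]
      exact hw
  obtain ⟨F, _, _, ρ, Sm, hF, hSm, hSc, hρb⟩ :=
    exists_sl2 hp2 b halt hb0 s hbs hodd (hcop.coprime_dvd_left hsd) hs1 hirr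
  -- the image of the normaliser
  let f : Subgroup.normalizer (X : Set G) →* (V ≃ₗ[ZMod p] V) := qbar.comp (Subgroup.normalizerMonoidHom X)
  have hsq := CfsgLib.Components39.sl_isQuasisimple (F := F) (n := 2) le_rfl fun _ => hF
  have hperf : commutator SL(2, F) = ⊤ := CfsgLib.Components.quasisimple_commutator_eq_top hsq
  haveI hN : (f.range.comap ρ).Normal := by
    refine ⟨fun M hM T => ?_⟩
    obtain ⟨g, hg⟩ := hM
    obtain ⟨φ, hφ⟩ := exists_lift hp2 hexp' (center X) le_rfl hcc q hq hqs hker (ρ T) (fun x y x' y' e1 e2 => by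
      exact (hb x' y' x y).1 (by rw [e1, e2]; exact hρb T _ _))
    have hφ' : qbar φ = ρ T := LinearEquiv.ext fun v => by
      obtain ⟨x, rfl⟩ := hqs v
      rw [hqbar]; exact hφ x
    obtain ⟨g', -, hg'⟩ := mem_autImg.1 ((hG.autImg_normal ⊤ X).conj_mem (Subgroup.normalizerMonoidHom X g)
      (mem_autImg.2 ⟨(g : G), Subgroup.mem_top _, fun u => rfl⟩) φ)
    refine ⟨⟨g', mem_normalizer_of_autImg hg'⟩, ?_⟩
    rw [map_mul, map_mul, map_inv, ← hg, ← hφ']
    show qbar _ = qbar φ * qbar _ * (qbar φ)⁻¹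
    rw [← map_inv, ← map_mul, ← map_mul]
    exact congrArg qbar (MulEquiv.ext fun u => Subtype.ext (hg' u).symm)
  have htop : f.range.comap ρ = ⊤ :=
    (CfsgLib.Components.quasisimple_normal_eq_top_or_le_center hsq (f.range.comap ρ)).resolve_right fun hle =>
      hSc (hle (show ρ Sm ∈ f.range from ⟨⟨h, hhX⟩, hSm.symm⟩))
  obtain ⟨n, hn⟩ := exists_derived_le L
  have hstep : ∀ j, (⊤ : Subgroup SL(2, F)).map ρ ≤
      (derivedSeries (Subgroup.normalizer (X : Set G)) j).map f := by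
    intro j
    induction j with
    | zero =>
      rw [derivedSeries_zero, ← MonoidHom.range_eq_map f]
      exact Subgroup.map_le_iff_le_comap.2 htop.ge
    | succ j ih =>
      rw [derivedSeries_succ, Subgroup.map_commutator, ← hperf, commutator_def, Subgroup.map_commutator]
      exact Subgroup.commutator_mono ih ih
  obtain ⟨g, hg, hgs⟩ := hstep n ⟨Sm, Subgroup.mem_top _, hSm⟩
  have hgL : (g : G) ∈ L := hn (map_derivedSeries_le_derivedSeries (Subgroup.normalizer (X : Set G)).subtype n ⟨g, hg, rfl⟩)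
  have h1 : orderOf s ∣ Nat.card L := by
    rw [← hgs]
    refine (orderOf_map_dvd f g).trans ?_
    rw [← Subgroup.orderOf_coe, ← Subgroup.orderOf_mk (g : G) hgL]
    exact orderOf_dvd_natCard _
  obtain ⟨i, -, hi⟩ := (Nat.dvd_prime_pow hr').1 (hk ▸ hsd)
  rcases i with _ | i
  · exact hs1 (orderOf_eq_one_iff.1 (by rw [hi, pow_zero]))
  · exact hr ((hi ▸ dvd_pow_self r (Nat.succ_ne_zero i)).trans h1)

end CfsgLib.Homogeneous
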