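import Cfsg.Agent.Lib.Homogeneous.Elementary
import Cfsg.Agent.Lib.Coprime.SchurZassenhaus

/-!
# Invariant subgroups of order prime to `p`

If `C` is normal in `M` with index prime to `p`, then `M = R C` for a subgroup `R` of order prime to
`p`, and modulo `C` every element normalising `M` and `C` normalises `R`.
-/

set_option autoImplicit false
set_option linter.unusedSimpArgs false
set_option linter.style.haveILetI false

namespace CfsgLib.Homogeneous

open Pointwise

universe u

variable {G : Type u} [Group G] [Finite G] {p : ℕ} [Fact p.Prime]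

theorem mem_normalizer_of_conj_smul_eq {R : Subgroup G} {g : G} (h : MulAut.conj g • R = R) :
    g ∈ Subgroup.normalizer (R : Set G) :=
  Subgroup.mem_normalizer_fintype fun x hx => CfsgLib.Coprime.conj_smul_le.1 h.le x hx

theorem exists_invariant_p'_subgroup (M C : Subgroup G) (hCM : C ≤ M)
    (hMC : M ≤ Subgroup.normalizer (C : Set G)) (hidx : ¬ p ∣ C.relIndex M) :
    ∃ R : Subgroup G, R ≤ M ∧ (Nat.card R).Coprime p ∧ (∀ x ∈ M, ∃ r ∈ R, r⁻¹ * x ∈ C) ∧
      ∀ y ∈ Subgroup.normalizer (M : Set G), y ∈ Subgroup.normalizer (C : Set G) →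
        ∃ c ∈ C, c * y ∈ Subgroup.normalizer (R : Set G) := by
  let Q : Sylow p C := default
  set Q' := (Q : Subgroup C).map C.subtype with hQ'
  have hQC : Q' ≤ C := Subgroup.map_subtype_le _
  set M1 := M ⊓ Subgroup.normalizer (Q' : Set G) with hM1
  have hQM1 : Q' ≤ M1 := le_inf (hQC.trans hCM) Subgroup.le_normalizer
  haveI : (Q'.subgroupOf M1).Normal :=
    Subgroup.normal_subgroupOf_of_le_normalizer (hM1 ▸ inf_le_right)
  have hQcard : Nat.card (Q'.subgroupOf M1) = Nat.card (Q : Subgroup C) := by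
    rw [CfsgLib.Coprime.card_subgroupOf hQM1, hQ', Subgroup.card_map_of_injective C.subtype_injective]
  -- the index of `Q` in `M1` is prime to `p`
  have hidx1 : ¬ p ∣ (Q'.subgroupOf M1).index := by
    change ¬ p ∣ Q'.relIndex M1
    have hC1 : Q' ≤ C ⊓ M1 := le_inf hQC hQM1
    rw [← Subgroup.relIndex_mul_relIndex Q' (C ⊓ M1) M1 hC1 inf_le_right,
      (Fact.out : p.Prime).dvd_mul, not_or]
    constructor
    · intro h
      have h2 : Q'.relIndex C = (Q : Subgroup C).index := by
        rw [Subgroup.relIndex, hQ', Subgroup.subgroupOf, Subgroup.comap_map_eq_self_of_injective C.subtype_injective]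
      exact Q.not_dvd_index (h2 ▸ (h.trans (Dvd.intro _
        (Subgroup.relIndex_mul_relIndex Q' (C ⊓ M1) C hC1 inf_le_left))))
    · rw [Subgroup.inf_relIndex_right]
      intro h
      apply hidx
      haveI : (C.subgroupOf M).Normal := Subgroup.normal_subgroupOf_of_le_normalizer hMC
      have h2 : (C.subgroupOf M).relIndex (M1.subgroupOf M) = C.relIndex M1 :=
        Subgroup.relIndex_subgroupOf inf_le_left
      exact h.trans (h2 ▸ Subgroup.relIndex_dvd_index_of_normal _ _)
  have hQp : IsPGroup p Q' := Q.2.map _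
  have hcop : (Nat.card (Q'.subgroupOf M1)).Coprime (Q'.subgroupOf M1).index := by
    obtain ⟨k, hk⟩ := Q.2.exists_card_eq
    rw [hQcard, hk]
    exact ((Fact.out : p.Prime).coprime_iff_not_dvd.2 hidx1).pow_left k
  obtain ⟨R0, hR0⟩ := Subgroup.exists_right_complement'_of_coprime hcop
  set R := R0.map M1.subtype with hR
  have hRM1 : R ≤ M1 := Subgroup.map_subtype_le _
  have hR0card : Nat.card R0 = (Q'.subgroupOf M1).index :=
    CfsgLib.Coprime.card_eq_index_of_isComplement' hR0
  refine ⟨R, hRM1.trans inf_le_left, ?_, fun x hx => ?_, fun y hyM hyC => ?_⟩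
  · rw [hR, Subgroup.card_map_of_injective M1.subtype_injective, hR0card, Nat.coprime_comm]
    exact (Fact.out : p.Prime).coprime_iff_not_dvd.2 hidx1
  · obtain ⟨c, hc, hcx⟩ := exists_mul_mem_normalizer Q (hMC hx)
    have hcx' : c * x ∈ M1 := ⟨M.mul_mem (hCM hc) hx, hcx⟩
    obtain ⟨r, hr, q, hq, e⟩ := CfsgLib.Coprime.exists_mul_of_mem_sup
      (N := Q'.subgroupOf M1) (H := R0) Subgroup.le_normalizer_of_normal
      ((CfsgLib.Coprime.sup_eq_top_of_card_eq_index hcop hR0card).ge
        (Subgroup.mem_top (⟨c * x, hcx'⟩ : M1)))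
    have e' : c * x = (r : G) * q := congrArg Subtype.val e
    refine ⟨r, ⟨r, hr, rfl⟩, ?_⟩
    have h1 : (r : G)⁻¹ * x = ((r : G)⁻¹ * c⁻¹ * r) * q := by
      rw [show (r : G)⁻¹ * x = (r : G)⁻¹ * c⁻¹ * (c * x) by group, e']; group
    rw [h1]
    refine C.mul_mem ?_ (hQC (Subgroup.mem_subgroupOf.1 hq))
    have h2 := (Subgroup.mem_normalizer_iff.1 (inv_mem (hMC (hRM1 ⟨r, hr, rfl⟩).1)) c⁻¹).1
      (C.inv_mem hc)
    rwa [inv_inv] at h2
  · obtain ⟨c, hc, hcy⟩ := exists_mul_mem_normalizer Q hyC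
    set z := c * y with hz
    have hzM : z ∈ Subgroup.normalizer (M : Set G) := mul_mem (Subgroup.le_normalizer (hCM hc)) hyM
    have hzM1 : ∀ x ∈ M1, z * x * z⁻¹ ∈ M1 := fun x hx =>
      Subgroup.mem_inf.2 ⟨(Subgroup.mem_normalizer_iff.1 hzM x).1 hx.1,
        (Subgroup.normalizer (Q' : Set G)).mul_mem ((Subgroup.normalizer (Q' : Set G)).mul_mem hcy hx.2)
          ((Subgroup.normalizer (Q' : Set G)).inv_mem hcy)⟩
    have hRz : MulAut.conj z • R ≤ M1 :=
      CfsgLib.Coprime.conj_smul_le.2 fun x hx => hzM1 x (hRM1 hx)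
    haveI : Group.IsNilpotent (Q'.subgroupOf M1) :=
      ((hQp.comap_of_injective M1.subtype M1.subtype_injective) : IsPGroup p (Q'.subgroupOf M1)).isNilpotent
    obtain ⟨q, hq, he⟩ := CfsgLib.Coprime.conj_complement_of_card (Q'.subgroupOf M1) hcop
      (Or.inl inferInstance) ((MulAut.conj z • R).subgroupOf M1) R0
      (by rw [CfsgLib.Coprime.card_subgroupOf hRz, CfsgLib.Coprime.card_conj_smul, hR,
        Subgroup.card_map_of_injective M1.subtype_injective, hR0card]) hR0card
    refine ⟨(q : G) * c, C.mul_mem (hQC (Subgroup.mem_subgroupOf.1 hq)) hc, ?_⟩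
    refine Subgroup.mem_normalizer_fintype fun x hx => ?_
    have h1 : z * x * z⁻¹ ∈ MulAut.conj z • R := CfsgLib.Coprime.conj_smul_le.1 le_rfl x hx
    have h2 := CfsgLib.Coprime.conj_smul_le.1 he.le ⟨z * x * z⁻¹, hRz h1⟩ h1
    have e : (q : G) * c * y * x * ((q : G) * c * y)⁻¹ = (q : G) * (z * x * z⁻¹) * (q : G)⁻¹ := by
      rw [hz]; group
    rw [e]
    exact ⟨_, h2, rfl⟩

end CfsgLib.Homogeneous
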