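import Mathlib
import Cfsg.Agent.Classical.SLGen

/-!
# Normal subgroups of the general linear group over a prime field

A normal subgroup of `GL(V)`, `V` a vector space over `ZMod p`, that contains an element of order `p`,
or a non-scalar element with `dim V ≥ 3` or `p ≥ 5`, contains every transvection, hence every element
of determinant one.
-/

set_option autoImplicit false
set_option linter.unusedSimpArgs false
set_option linter.style.haveILetI false

namespace CfsgLib.Homogeneous

open Module
open scoped commutatorElement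

section Gen

variable {K : Type*} [Field K] {V : Type*} [AddCommGroup V] [Module K V]

theorem oneApply (v : V) : (1 : V ≃ₗ[K] V) v = v := rfl

theorem tvApply {f : Dual K V} {a : V} (h : f a = 0) (v : V) :
    LinearEquiv.transvection h v = v + f v • a := rfl

@[simp]
theorem lmApply (f : Dual K V) (a v : V) : LinearMap.transvection f a v = v + f v • a := rfl

/-- Some vector is not an eigenvector. -/
def Nonscalar (u : V ≃ₗ[K] V) : Prop := ∃ a, u a ∉ Submodule.span K ({a} : Set V)

theorem mul_comm_of_not_nonscalar {u v : V ≃ₗ[K] V} (hu : ¬ Nonscalar u) (hv : ¬ Nonscalar v) :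
    u * v = v * u := by
  simp only [Nonscalar, not_exists, not_not, Submodule.mem_span_singleton] at hu hv
  push Not at hu hv
  ext a
  obtain ⟨c, hc⟩ := hu a
  obtain ⟨d, hd⟩ := hv a
  rw [LinearEquiv.mul_apply, LinearEquiv.mul_apply, ← hd, ← hc, map_smul, map_smul, ← hc, ← hd,
    smul_comm]

theorem Nonscalar.ne_zero {u : V ≃ₗ[K] V} {a : V} (h : u a ∉ Submodule.span K ({a} : Set V)) :
    a ≠ 0 := by
  rintro rfl
  exact h (by simp)

theorem linearIndependent_pair_of_notMem {a b : V} (ha : a ≠ 0)
    (hb : b ∉ Submodule.span K ({a} : Set V)) : LinearIndependent K ![a, b] := by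
  rw [LinearIndependent.pair_iff]
  intro s t h
  by_cases ht : t = 0
  · subst ht
    simp only [zero_smul, add_zero, smul_eq_zero, ha, or_false] at h
    exact ⟨h, rfl⟩
  · refine absurd (Submodule.mem_span_singleton.2 ⟨-(t⁻¹ * s), ?_⟩) hb
    have h1 : t • b = -(s • a) := eq_neg_of_add_eq_zero_right h
    rw [neg_smul, ← smul_smul, ← smul_neg, ← h1, smul_smul, inv_mul_cancel₀ ht, one_smul]

theorem exists_dual_eq_one {W : Submodule K V} {a : V} (ha : a ∉ W) :
    ∃ f : Dual K V, f a = 1 ∧ ∀ w ∈ W, f w = 0 := by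
  obtain ⟨f, hfa, hf⟩ := Submodule.exists_dual_map_eq_bot_of_notMem ha inferInstance
  refine ⟨(f a)⁻¹ • f, by simp [hfa], fun w hw => ?_⟩
  have : f w = 0 := by
    rw [← Submodule.mem_bot K, ← hf]
    exact Submodule.mem_map_of_mem hw
  simp [this]

theorem transvection_congr {f g : Dual K V} {a b : V} (hf : f a = 0) (hg : g b = 0)
    (h : ∀ v, f v • a = g v • b) : LinearEquiv.transvection hf = LinearEquiv.transvection hg :=
  LinearEquiv.ext fun v => by
    rw [tvApply, tvApply, h]

theorem conj_transvection (g : V ≃ₗ[K] V) {f : Dual K V} {a : V} (hf : f a = 0)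
    {f' : Dual K V} {a' : V} (hf' : f' a' = 0) (ha : g a = a') (hff : ∀ v, f' (g v) = f v) :
    g * LinearEquiv.transvection hf * g⁻¹ = LinearEquiv.transvection hf' := by
  rw [mul_inv_eq_iff_eq_mul]
  refine LinearEquiv.ext fun v => ?_
  simp only [LinearEquiv.mul_apply, tvApply, map_add, map_smul, ha, hff]

theorem transvection_inv {f : Dual K V} {a : V} (hf : f a = 0) :
    (LinearEquiv.transvection hf)⁻¹ = LinearEquiv.transvection (f := -f) (v := a) (by simp [hf]) := by
  rw [inv_eq_iff_mul_eq_one]
  refine LinearEquiv.ext fun v => ?_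
  simp only [LinearEquiv.mul_apply, tvApply, oneApply,
    LinearMap.neg_apply, map_add, map_smul, hf]
  simp

theorem transvection_mul {f g : Dual K V} {a : V} (hf : f a = 0) (hg : g a = 0) :
    LinearEquiv.transvection hf * LinearEquiv.transvection hg =
      LinearEquiv.transvection (f := f + g) (v := a) (by simp [hf, hg]) := by
  refine LinearEquiv.ext fun v => ?_
  simp only [LinearEquiv.mul_apply, tvApply, LinearMap.add_apply, map_add,
    map_smul, hf]
  simp [hg, add_smul]
  abel

theorem transvection_ne_one {f : Dual K V} {a : V} (hf : f a = 0) (hf0 : f ≠ 0) (ha : a ≠ 0) :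
    LinearEquiv.transvection hf ≠ 1 := by
  intro h
  apply hf0
  refine LinearMap.ext fun v => ?_
  have := LinearEquiv.congr_fun h v
  rw [tvApply, oneApply, add_eq_left, smul_eq_zero] at this
  exact this.resolve_right ha

theorem commutator_transvection (u : V ≃ₗ[K] V) {f : Dual K V} {a : V} (hf : f a = 0) :
    ⁅u, LinearEquiv.transvection hf⁆ =
      LinearEquiv.transvection (f := f.comp (u⁻¹ : V ≃ₗ[K] V).toLinearMap) (v := u a)
          (by simpa using hf) *
        LinearEquiv.transvection (f := -f) (v := a) (by simp [hf]) := by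
  rw [commutatorElement_def, transvection_inv hf,
    conj_transvection u hf (f' := f.comp (u⁻¹ : V ≃ₗ[K] V).toLinearMap) (by simpa using hf) rfl
      (fun v => by simp)]

theorem commutator_mem_of_normal {G : Type*} [Group G] {J : Subgroup G} (hJ : J.Normal) {u : G}
    (hu : u ∈ J) (g : G) : ⁅u, g⁆ ∈ J := by
  have h : ⁅u, g⁆ = u * (g * u⁻¹ * g⁻¹) := by rw [commutatorElement_def]; group
  rw [h]
  exact J.mul_mem hu (hJ.conj_mem _ (J.inv_mem hu) g)

end Gen

section Prime

variable {p : ℕ} [Fact p.Prime] {V : Type*} [AddCommGroup V] [Module (ZMod p) V]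

/-- All transvections lie in `J`. -/
def AllT (J : Subgroup (V ≃ₗ[ZMod p] V)) : Prop :=
  ∀ (a : V) (f : Dual (ZMod p) V) (h : f a = 0), LinearEquiv.transvection h ∈ J

theorem transvection_pow {f : Dual (ZMod p) V} {a : V} (hf : f a = 0) (k : ℕ) :
    LinearEquiv.transvection hf ^ k =
      LinearEquiv.transvection (f := (k : ZMod p) • f) (v := a) (by simp [hf]) := by
  induction k with
  | zero =>
    refine LinearEquiv.ext fun v => ?_
    rw [pow_zero, oneApply, tvApply]
    simp
  | succ k ih =>
    rw [pow_succ, ih, transvection_mul]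
    exact transvection_congr _ _ fun v => by simp [add_mul]

theorem transvection_smul_mem {J : Subgroup (V ≃ₗ[ZMod p] V)} {f : Dual (ZMod p) V} {a : V}
    (hf : f a = 0) (h : LinearEquiv.transvection hf ∈ J) (c : ZMod p) {f' : Dual (ZMod p) V} {a' : V}
    (hf' : f' a' = 0) (he : ∀ v, (c * f v) • a = f' v • a') : LinearEquiv.transvection hf' ∈ J := by
  have h1 := J.pow_mem h c.val
  rw [transvection_pow] at h1
  convert h1 using 1
  refine transvection_congr _ _ fun v => ?_
  rw [LinearMap.smul_apply, smul_eq_mul, ZMod.natCast_zmod_val, he]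

/-- One transvection generates all under conjugation. -/
theorem allT_of_mem {J : Subgroup (V ≃ₗ[ZMod p] V)} (hJ : J.Normal) {f : Dual (ZMod p) V} {a : V}
    (hf : f a = 0) (hf0 : f ≠ 0) (ha : a ≠ 0) (hmem : LinearEquiv.transvection hf ∈ J) : AllT J := by
  -- every nonzero vector is a centre
  have step1 : ∀ a' : V, a' ≠ 0 → ∃ (f' : Dual (ZMod p) V) (h : f' a' = 0),
      f' ≠ 0 ∧ LinearEquiv.transvection h ∈ J := by
    intro a' ha'
    by_cases hd : a' ∈ Submodule.span (ZMod p) ({a} : Set V)
    · obtain ⟨c, rfl⟩ := Submodule.mem_span_singleton.1 hd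
      refine ⟨f, by simp [hf], hf0, transvection_smul_mem hf hmem c _ fun v => ?_⟩
      rw [smul_smul, mul_comm]
    · obtain ⟨k, hka, hk⟩ : ∃ k : Dual (ZMod p) V, k a = 1 ∧ k (a' - a) = 0 := by
        have hnot : a ∉ Submodule.span (ZMod p) ({a' - a} : Set V) := by
          intro hmem'
          obtain ⟨c, hc⟩ := Submodule.mem_span_singleton.1 hmem'
          rcases eq_or_ne c 0 with rfl | hc0
          · exact ha (by simpa using hc.symm)
          · refine hd (Submodule.mem_span_singleton.2 ⟨c⁻¹ + 1, ?_⟩)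
            rw [add_smul, one_smul]
            conv_lhs => enter [1]; rw [← hc, smul_smul, inv_mul_cancel₀ hc0, one_smul]
            abel
        obtain ⟨k, hk1, hk2⟩ := exists_dual_eq_one hnot
        exact ⟨k, hk1, hk2 _ (Submodule.mem_span_singleton_self _)⟩
      set g := LinearEquiv.transvection hk with hg
      have hga : g a = a' := by
        rw [hg, tvApply, hka, one_smul]
        abel
      set f' : Dual (ZMod p) V := f.comp (g⁻¹ : V ≃ₗ[ZMod p] V).toLinearMap with hf'def
      have hf' : f' a' = 0 := by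
        rw [← hga]
        simpa [hf'def] using hf
      refine ⟨f', hf', fun h0 => hf0 ?_, ?_⟩
      · refine LinearMap.ext fun v => ?_
        have := LinearMap.congr_fun h0 (g v)
        simpa [hf'def] using this
      · rw [← conj_transvection g hf hf' hga fun v => by simp [hf'def]]
        exact hJ.conj_mem _ hmem g
  intro a' f' h'
  by_cases ha' : a' = 0
  · convert J.one_mem
    refine LinearEquiv.ext fun v => ?_
    simp [ha', tvApply]
  obtain ⟨f₁, h₁, hf₁, hm⟩ := step1 a' ha'
  by_cases hc : ∃ c : ZMod p, f' = c • f₁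
  · obtain ⟨c, rfl⟩ := hc
    exact transvection_smul_mem h₁ hm c h' fun v => rfl
  -- `f₁`, `f'` are independent: find `x` on which both are one
  have hker : ∀ {φ ψ : Dual (ZMod p) V}, φ ≠ 0 → (¬ ∃ c : ZMod p, ψ = c • φ) →
      ∃ v, φ v = 0 ∧ ψ v = 1 := by
    intro φ ψ hφ hψ
    by_contra hno
    push Not at hno
    obtain ⟨z, hz⟩ : ∃ z, φ z = 1 := by
      obtain ⟨w, hw⟩ : ∃ w, φ w ≠ 0 := by
        by_contra hall
        push Not at hall
        exact hφ (LinearMap.ext hall)
      exact ⟨(φ w)⁻¹ • w, by simp [hw]⟩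
    refine hψ ⟨ψ z, LinearMap.ext fun v => ?_⟩
    by_contra hv
    have h0 : φ (v - φ v • z) = 0 := by simp [hz]
    have hne : ψ (v - φ v • z) ≠ 0 := by
      intro h
      apply hv
      rw [map_sub, map_smul, sub_eq_zero] at h
      simp [h, mul_comm]
    exact hno ((ψ (v - φ v • z))⁻¹ • (v - φ v • z)) (by simp [h0])
      (by rw [map_smul, smul_eq_mul, inv_mul_cancel₀ hne])
  have hf'0 : f' ≠ 0 := fun h => hc ⟨0, by simp [h]⟩
  have hc' : ¬ ∃ c : ZMod p, f₁ = c • f' := by
    rintro ⟨c, hcc⟩
    rcases eq_or_ne c 0 with rfl | hc0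
    · exact hf₁ (by simp [hcc])
    · exact hc ⟨c⁻¹, by rw [hcc, smul_smul, inv_mul_cancel₀ hc0, one_smul]⟩
  obtain ⟨y, hy1, hy2⟩ := hker hf₁ hc
  obtain ⟨z, hz1, hz2⟩ := hker hf'0 hc'
  set x := y + z with hx
  have hk : (f₁ - f') x = 0 := by simp [hx, hy1, hy2, hz1, hz2]
  set g := LinearEquiv.transvection hk with hg
  have hga : g a' = a' := by simp [hg, tvApply, h₁, h']
  rw [← conj_transvection g h₁ h' hga fun v => ?_]
  · exact hJ.conj_mem _ hm g
  · rw [hg, tvApply, map_add, map_smul, LinearMap.sub_apply]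
    simp [hx, hy2, hz1]

variable [Finite V]

/-- An element of order `p` in a normal subgroup gives a transvection. -/
theorem allT_of_pow_eq_one {J : Subgroup (V ≃ₗ[ZMod p] V)} (hJ : J.Normal) {u : V ≃ₗ[ZMod p] V}
    (hu : u ∈ J) (hup : u ^ p = 1) (hu1 : u ≠ 1) : AllT J := by
  haveI : Nontrivial V := by
    by_contra h
    rw [not_nontrivial_iff_subsingleton] at h
    exact hu1 (LinearEquiv.ext fun v => Subsingleton.elim _ _)
  have hP : IsPGroup p (Subgroup.zpowers u) := by
    intro g
    obtain ⟨g, k, rfl⟩ := g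
    refine ⟨1, Subtype.ext ?_⟩
    show (u ^ k) ^ p ^ 1 = 1
    rw [pow_one, ← zpow_natCast, ← zpow_mul, mul_comm, zpow_mul, zpow_natCast, hup, one_zpow]
  obtain ⟨a, ha, ha0⟩ := hP.exists_fixed_point_of_prime_dvd_card_of_fixed_point V
    (by rw [Module.natCard_eq_pow_finrank (K := ZMod p), Nat.card_zmod]; exact dvd_pow_self p Module.finrank_pos.ne')
    (a := (0 : V)) (fun g => map_zero (g : V ≃ₗ[ZMod p] V))
  have hua : u a = a := ha ⟨u, Subgroup.mem_zpowers u⟩
  have ha0' : a ≠ 0 := fun h => ha0 h.symm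
  have huia : (u⁻¹ : V ≃ₗ[ZMod p] V) a = a := by
    conv_lhs => rw [← hua]
    rw [← LinearEquiv.mul_apply, inv_mul_cancel, oneApply]
  by_cases hall : ∀ f : Dual (ZMod p) V, f a = 0 → ∀ v, f ((u⁻¹ : V ≃ₗ[ZMod p] V) v) = f v
  · obtain ⟨φ, hφ, -⟩ := exists_dual_eq_one (W := (⊥ : Submodule (ZMod p) V)) (a := a)
      (by simpa using ha0')
    set g : Dual (ZMod p) V := φ.comp ((u⁻¹ : V ≃ₗ[ZMod p] V).toLinearMap - LinearMap.id) with hg
    have hga : g a = 0 := by simp [hg, huia]
    have heq : u⁻¹ = LinearEquiv.transvection hga := by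
      refine LinearEquiv.ext fun v => ?_
      rw [tvApply]
      set d := (u⁻¹ : V ≃ₗ[ZMod p] V) v - v with hd
      have hd' : d = φ d • a := by
        by_contra hne
        obtain ⟨f, hf1, hf2⟩ := exists_dual_eq_one (W := Submodule.span (ZMod p) ({a} : Set V))
          (a := d) (fun hmem => by
            obtain ⟨c, hc⟩ := Submodule.mem_span_singleton.1 hmem
            apply hne
            rw [← hc, map_smul, hφ, smul_eq_mul, mul_one])
        have := hall f (hf2 a (Submodule.mem_span_singleton_self a)) v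
        rw [hd, map_sub, this, sub_self] at hf1
        exact zero_ne_one hf1
      rw [show g v = φ d by simp [hg, hd], ← hd', hd]
      abel
    have hg0 : g ≠ 0 := by
      intro h0
      apply hu1
      rw [← inv_eq_one, heq]
      refine LinearEquiv.ext fun v => ?_
      simp [tvApply, h0]
    exact allT_of_mem hJ hga hg0 ha0' (heq ▸ J.inv_mem hu)
  · push Not at hall
    obtain ⟨f, hfa, v, hv⟩ := hall
    set g : Dual (ZMod p) V := f.comp (u⁻¹ : V ≃ₗ[ZMod p] V).toLinearMap - f with hg
    have hga : g a = 0 := by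
      show f ((u⁻¹ : V ≃ₗ[ZMod p] V) a) - f a = 0
      rw [huia, sub_self]
    have hg0 : g ≠ 0 := fun h0 => hv (by
      have := LinearMap.congr_fun h0 v
      simpa [hg, sub_eq_zero] using this)
    refine allT_of_mem hJ hga hg0 ha0' ?_
    have h1 := commutator_mem_of_normal hJ hu (LinearEquiv.transvection hfa)
    rw [commutator_transvection] at h1
    convert h1 using 1
    refine LinearEquiv.ext fun w => ?_
    simp only [LinearEquiv.mul_apply, tvApply, hg, LinearMap.sub_apply, LinearMap.comp_apply,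
      LinearEquiv.coe_coe, LinearMap.neg_apply, map_add, map_smul, hua, huia, hfa, smul_eq_mul]
    rw [zero_smul, add_zero, sub_smul, neg_smul]
    abel

theorem exists_order_p {G : Type*} [Group G] (J : Subgroup G) [Finite J] (h : p ∣ Nat.card J) :
    ∃ u ∈ J, u ^ p = 1 ∧ u ≠ 1 := by
  obtain ⟨u, hu⟩ := exists_prime_orderOf_dvd_card' p h
  refine ⟨u, u.2, ?_, fun h1 => ?_⟩
  · have := pow_orderOf_eq_one u
    rw [hu] at this
    exact_mod_cast congrArg Subtype.val this
  · rw [show u = 1 from Subtype.ext h1, orderOf_one] at hu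
    exact (Fact.out : p.Prime).ne_one hu.symm

theorem allT_of_dvd {J : Subgroup (V ≃ₗ[ZMod p] V)} (hJ : J.Normal) (h : p ∣ Nat.card J) :
    AllT J := by
  haveI : Finite (V ≃ₗ[ZMod p] V) := Finite.of_injective _ DFunLike.coe_injective
  obtain ⟨u, hu, hup, hu1⟩ := exists_order_p J h
  exact allT_of_pow_eq_one hJ hu hup hu1

/-- In dimension at least three a non-scalar normal subgroup contains all transvections. -/
theorem allT_of_nonscalar {J : Subgroup (V ≃ₗ[ZMod p] V)} (hJ : J.Normal) {u : V ≃ₗ[ZMod p] V}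
    (hu : u ∈ J) (hn : Nonscalar u) (hd : 3 ≤ finrank (ZMod p) V) : AllT J := by
  obtain ⟨a, ha⟩ := hn
  set W := Submodule.span (ZMod p) ({a, u a} : Set V) with hW
  obtain ⟨z, hz⟩ : ∃ z, z ∉ W := by
    by_contra h
    push Not at h
    have h2 : finrank (ZMod p) W ≤ 2 := by
      classical
      have := finrank_span_le_card (R := ZMod p) ({a, u a} : Set V)
      refine this.trans ?_
      simp only [Set.toFinset_insert, Set.toFinset_singleton]
      exact Finset.card_le_two
    rw [show W = ⊤ from Submodule.eq_top_iff'.2 h, finrank_top] at h2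
    omega
  obtain ⟨f, hfz, hf⟩ := exists_dual_eq_one hz
  have hfa : f a = 0 := hf a (Submodule.subset_span (by simp))
  have hfb : f (u a) = 0 := hf _ (Submodule.subset_span (by simp))
  set g : Dual (ZMod p) V := f.comp (u⁻¹ : V ≃ₗ[ZMod p] V).toLinearMap with hg
  have hgb : g (u a) = 0 := by simp [hg, hfa]
  set M := LinearEquiv.transvection hgb *
    LinearEquiv.transvection (f := -f) (v := a) (by simp [hfa]) with hM
  have hMJ : M ∈ J := by
    have := commutator_mem_of_normal hJ hu (LinearEquiv.transvection hfa)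
    rwa [commutator_transvection] at this
  set N : Module.End (ZMod p) V := (M : V ≃ₗ[ZMod p] V).toLinearMap - 1 with hN
  have hMv : ∀ v, M v = v + (-f v) • a + (g v + (-f v) * g a) • u a := by
    intro v
    simp only [hM, LinearEquiv.mul_apply, tvApply, LinearMap.neg_apply, map_add, map_smul, smul_eq_mul]
    module
  have hNv : ∀ v, N v = (-f v) • a + (g v + (-f v) * g a) • u a := by
    intro v
    simp [hN, hMv v, Module.End.one_apply]
    abel
  have hNa : N a = g a • u a := by rw [hNv, hfa]; simp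
  have hNb : N (u a) = 0 := by rw [hNv, hfb, hgb]; simp
  have hN3 : ∀ v, N (N (N v)) = 0 := by
    intro v
    rw [hNv v, map_add, map_smul, map_smul, hNb, smul_zero, add_zero, map_smul, hNa, map_smul, hNb,
      smul_zero, smul_zero]
  -- `M ^ (p ^ 2) = 1`
  have hM1 : M ≠ 1 := by
    intro h1
    have h2 := hMv z
    rw [h1, oneApply, hfz, add_assoc, left_eq_add] at h2
    exact one_ne_zero (neg_eq_zero.1 ((LinearIndependent.pair_iff.1
      (linearIndependent_pair_of_notMem (Nonscalar.ne_zero ha) ha)) _ _ h2).1)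
  haveI : Nontrivial V := ⟨⟨a, 0, Nonscalar.ne_zero ha⟩⟩
  haveI : CharP (Module.End (ZMod p) V) p :=
    charP_of_injective_algebraMap (algebraMap (ZMod p) (Module.End (ZMod p) V)).injective p
  have hN0 : N ^ (p ^ 2) = 0 := by
    have h3 : N ^ 3 = 0 := LinearMap.ext fun v => by
      simp [pow_succ, hN3 v]
    refine pow_eq_zero_of_le ?_ h3
    have := (Fact.out : p.Prime).two_le
    nlinarith
  have hMend : (M : V ≃ₗ[ZMod p] V).toLinearMap = N + 1 := by simp [hN]
  have hMpow : ∀ k : ℕ, ((M ^ k : V ≃ₗ[ZMod p] V).toLinearMap : Module.End (ZMod p) V) =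
      (N + 1) ^ k := by
    intro k
    induction k with
    | zero => rfl
    | succ k ih => rw [pow_succ, pow_succ, ← ih, ← hMend]; rfl
  have hMp : M ^ (p ^ 2) = 1 := by
    apply LinearEquiv.toLinearMap_injective
    rw [hMpow, add_pow_char_pow_of_commute (p := p) (n := 2) (Commute.one_right N), hN0, zero_add, one_pow]
    rfl
  haveI : Finite (V ≃ₗ[ZMod p] V) := Finite.of_injective _ DFunLike.coe_injective
  refine allT_of_dvd hJ ?_
  have h4 := orderOf_dvd_of_pow_eq_one hMp
  obtain ⟨k, -, hk⟩ := (Nat.dvd_prime_pow Fact.out).1 h4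
  have h5 : k ≠ 0 := fun h0 => hM1 (orderOf_eq_one_iff.1 (by simp [hk, h0]))
  exact (dvd_pow_self p h5).trans (hk ▸ Subgroup.orderOf_dvd_natCard J hMJ)

end Prime

end CfsgLib.Homogeneous
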