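import Cfsg.Agent.Lib.Homogeneous.Invariant

/-!
# Elementary subgroups normalised by outer `p`-elements

`L` is characteristic in the homogeneous group `G` and contains an element of order `p`. If an
elementary abelian `p`-subgroup `U ≤ L` is normalised by a `p`-element outside `L`, then `L` induces
the trivial group on `U`.
-/

set_option autoImplicit false
set_option linter.unusedSimpArgs false
set_option linter.style.haveILetI false
set_option maxHeartbeats 1000000

namespace CfsgLib.Homogeneous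

open Module

universe u

section Linear

variable {p n : ℕ} [Fact p.Prime]

theorem two_le_of_pow_eq_one {u : (Fin n → ZMod p) ≃ₗ[ZMod p] (Fin n → ZMod p)} (hu : u ^ p = 1)
    (hu1 : u ≠ 1) : 2 ≤ n := by
  by_contra hn
  refine hu1 (LinearEquiv.ext fun v => ?_)
  show u v = v
  by_cases hv : v = 0
  · rw [hv, map_zero]
  by_contra hne
  have hmem : u v ∈ Submodule.span (ZMod p) ({v} : Set (Fin n → ZMod p)) := by
    by_contra h
    have := (linearIndependent_pair_of_notMem hv h).fintype_card_le_finrank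
    rw [Fintype.card_fin, Module.finrank_fin_fun] at this
    omega
  obtain ⟨c, hc⟩ := Submodule.mem_span_singleton.1 hmem
  have hit : ∀ k : ℕ, (u ^ k) v = c ^ k • v := by
    intro k
    induction k with
    | zero => rw [pow_zero, pow_zero, oneApply, one_smul]
    | succ k ih => rw [pow_succ', LinearEquiv.mul_apply, ih, map_smul, ← hc, smul_smul, pow_succ]
  have h1 := hit p
  rw [hu, oneApply, ZMod.pow_card] at h1
  exact hne (hc.symm.trans h1.symm)

/-- A non-trivial normal subgroup fixes no non-zero vector. -/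
theorem eq_zero_of_fixed_normal
    {J : Subgroup ((Fin n → ZMod p) ≃ₗ[ZMod p] (Fin n → ZMod p))} (hJ : J.Normal) (hne : J ≠ ⊥)
    {a : Fin n → ZMod p} (ha : ∀ u ∈ J, u a = a) : a = 0 := by
  by_contra ha0
  refine hne (eq_bot_iff.2 fun u hu => Subgroup.mem_bot.2 (LinearEquiv.ext fun b => ?_))
  show u b = b
  by_cases hb : b ∈ Submodule.span (ZMod p) ({a} : Set (Fin n → ZMod p))
  · obtain ⟨c, rfl⟩ := Submodule.mem_span_singleton.1 hb
    rw [map_smul, ha u hu]
  have hnot : a ∉ Submodule.span (ZMod p) ({b - a} : Set (Fin n → ZMod p)) := by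
    intro hmem'
    obtain ⟨c, hc⟩ := Submodule.mem_span_singleton.1 hmem'
    rcases eq_or_ne c 0 with rfl | hc0
    · exact ha0 (by simpa using hc.symm)
    · refine hb (Submodule.mem_span_singleton.2 ⟨c⁻¹ + 1, ?_⟩)
      rw [add_smul, one_smul]
      conv_lhs => enter [1]; rw [← hc, smul_smul, inv_mul_cancel₀ hc0, one_smul]
      abel
  obtain ⟨k, hk1, hk2⟩ := exists_dual_eq_one hnot
  have hk := hk2 _ (Submodule.mem_span_singleton_self (b - a))
  set g := LinearEquiv.transvection hk with hg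
  have hga : g a = b := by
    rw [hg, tvApply, hk1, one_smul]
    abel
  have h2 : g⁻¹ * u * g ∈ J := by
    have := hJ.conj_mem u hu g⁻¹
    rwa [inv_inv] at this
  have h3 := congrArg g (ha _ h2)
  rw [← LinearEquiv.mul_apply, hga, ← mul_assoc, mul_inv_cancel_left, LinearEquiv.mul_apply, hga] at h3
  exact h3

theorem det_eq_one_of_pow {u : (Fin n → ZMod p) ≃ₗ[ZMod p] (Fin n → ZMod p)} {k : ℕ}
    (hu : u ^ p ^ k = 1) : LinearEquiv.det u = 1 := by
  have h1 : (LinearEquiv.det u) ^ p ^ k = 1 := by rw [← map_pow, hu, map_one]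
  have h2 : (LinearEquiv.det u) ^ (p - 1) = 1 := ZMod.units_pow_card_sub_one_eq_one p _
  have hp := (Fact.out : p.Prime)
  have h3 := Nat.eq_one_of_dvd_coprimes
    (Nat.Coprime.pow_left k ((hp.coprime_iff_not_dvd).2 fun h => by
      have := Nat.le_of_dvd (by have := hp.two_le; omega) h
      have := hp.two_le
      omega))
    (orderOf_dvd_of_pow_eq_one h1) (orderOf_dvd_of_pow_eq_one h2)
  exact orderOf_eq_one_iff.1 h3

end Linear

variable {G : Type u} [Group G] [Finite G] {p : ℕ} [Fact p.Prime]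

/-- A `p`-element outside `L`. -/
def IsOuter (p : ℕ) (L : Subgroup G) (y : G) : Prop := y ∉ L ∧ ∃ k, orderOf y = p ^ k

/-- The `p`-part of a product congruent to an outer `p`-element is outer. -/
theorem isOuter_pPart {L : Subgroup G} [L.Normal] {g z : G} (hg : IsOuter p L g)
    (hz : z * g⁻¹ ∈ L) {e : ℕ} (he : ∀ i, p ^ i ∣ orderOf z → e ≡ 1 [MOD p ^ i])
    (hk : ∃ k, orderOf (z ^ e) = p ^ k) : IsOuter p L (z ^ e) := by
  refine ⟨fun h => hg.1 ?_, hk⟩
  obtain ⟨k, hk'⟩ := hg.2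
  have hzg : (QuotientGroup.mk' L) z = (QuotientGroup.mk' L) g := by
    rw [QuotientGroup.mk'_apply, QuotientGroup.mk'_apply, QuotientGroup.eq_iff_div_mem,
      div_eq_mul_inv]
    exact hz
  have h1 : (QuotientGroup.mk' L) (z ^ e) = (QuotientGroup.mk' L) z :=
    map_pow_pPart he _ (j := k) (by rw [hzg, ← map_pow, ← hk', pow_orderOf_eq_one, map_one])
  rw [hzg, QuotientGroup.mk'_apply, QuotientGroup.mk'_apply, (QuotientGroup.eq_one_iff _).2 h] at h1
  exact (QuotientGroup.eq_one_iff g).1 h1.symm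

/-- Outer `p`-elements have order at least `p²`; their element of order `p` lies in `L`. -/
theorem IsOuter.exists_top (hG : Hom G) {L : Subgroup G} [L.Characteristic]
    (hp : p ∣ Nat.card L) {y : G} (hy : IsOuter p L y) :
    ∃ w ∈ L, orderOf w = p ∧ ∃ j, w = y ^ (p ^ j) ∧ j ≠ 0 := by
  obtain ⟨hyL, k, hk⟩ := hy
  obtain ⟨t, ht⟩ := exists_prime_orderOf_dvd_card' p hp
  rw [← Subgroup.orderOf_coe] at ht
  have hall : ∀ w : G, orderOf w = p → w ∈ L := fun w hw => hG.mem_of_orderOf_eq t.2 (ht.trans hw.symm)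
  have hp' := (Fact.out : p.Prime)
  rcases k with _ | _ | k
  · rw [pow_zero, orderOf_eq_one_iff] at hk
    exact absurd (hk ▸ L.one_mem) hyL
  · rw [zero_add, pow_one] at hk
    exact absurd (hall y hk) hyL
  · have hw : orderOf (y ^ (p ^ (k + 1))) = p := by
      have h1 : p ^ (k + 1) ∣ orderOf y := hk ▸ pow_dvd_pow p (Nat.le_succ _)
      rw [orderOf_pow_of_dvd (pow_ne_zero _ hp'.ne_zero) h1, hk, pow_succ,
        Nat.mul_div_cancel_left _ (pow_pos hp'.pos _)]
    exact ⟨_, hall _ hw, hw, k + 1, rfl, Nat.succ_ne_zero k⟩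

/-- Step 4a: `L` centralises an elementary `U ≤ L` normalised by an outer `p`-element. -/
theorem normalizer_le_centralizer_of_outer (hG : Hom G) {L : Subgroup G} [L.Characteristic]
    (hp : p ∣ Nat.card L) (U : Subgroup G) (hUL : U ≤ L) (hU : Cfsg.IsElementaryAbelian p U)
    {y : G} (hy : IsOuter p L y) (hyU : y ∈ Subgroup.normalizer (U : Set G)) :
    L ⊓ Subgroup.normalizer (U : Set G) ≤ Subgroup.centralizer (U : Set G) := by
  by_contra hbad
  -- a maximal counterexample
  obtain ⟨U, hUmax⟩ := ({U : Subgroup G | U ≤ L ∧ Cfsg.IsElementaryAbelian p U ∧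
    (∃ y, IsOuter p L y ∧ y ∈ Subgroup.normalizer (U : Set G)) ∧
    ¬ L ⊓ Subgroup.normalizer (U : Set G) ≤ Subgroup.centralizer (U : Set G)}).toFinite.exists_maximal
      ⟨U, hUL, hU, ⟨y, hy, hyU⟩, hbad⟩
  obtain ⟨hUL, hU, ⟨g, hg, hgU⟩, hbad⟩ := hUmax.prop
  obtain ⟨n, ⟨m⟩⟩ := exists_model hU
  set J := m.img L with hJdef
  have hJn : J.Normal := m.img_normal hG L
  have hJne : J ≠ ⊥ := by
    intro h
    refine hbad fun x hx => (m.action_eq_one_iff ⟨x, hx.2⟩).1 ?_
    rw [← Subgroup.mem_bot, ← h]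
    exact m.action_mem_img _ hx.1
  set M := L ⊓ Subgroup.normalizer (U : Set G) with hM
  set C := L ⊓ Subgroup.centralizer (U : Set G) with hC
  have hCM : C ≤ M := inf_le_inf_left _ (Subgroup.centralizer_le_normalizer _)
  -- a `p'`-group `Rb` of induced maps without fixed points, and an outer element preserving it
  obtain ⟨Rb, hRbJ, hRbp, hRbfix, y0, hy0, hy0U, hy0R, hy0c⟩ :
      ∃ Rb : Subgroup ((Fin n → ZMod p) ≃ₗ[ZMod p] (Fin n → ZMod p)), Rb ≤ J ∧
        ¬ p ∣ Nat.card Rb ∧ (∀ a, (∀ u ∈ Rb, u a = a) → a = 0) ∧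
        ∃ y0 : G, IsOuter p L y0 ∧ ∃ hy0U : y0 ∈ Subgroup.normalizer (U : Set G),
          (∀ u ∈ Rb, Model.action U m ⟨y0, hy0U⟩ * u * (Model.action U m ⟨y0, hy0U⟩)⁻¹ ∈ Rb) ∧
          (p ∣ Nat.card J → y0 ∈ Subgroup.centralizer (U : Set G)) := by
    by_cases hpJ : p ∣ Nat.card J
    · haveI : Finite ((Fin n → ZMod p) ≃ₗ[ZMod p] (Fin n → ZMod p)) :=
        Finite.of_injective _ DFunLike.coe_injective
      have hT := allT_of_dvd hJn hpJ
      obtain ⟨u, -, hup, hu1⟩ := exists_order_p J hpJ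
      obtain ⟨r, hrJ, hrp, hrfix⟩ := exists_fpf hT
        (by rw [Module.finrank_fin_fun]; exact two_le_of_pow_eq_one hup hu1)
      -- replace `g` by an element centralising `U`
      obtain ⟨k, hk⟩ := hg.2
      have hFg : Model.action U m ⟨g, hgU⟩ ∈ J := by
        refine mem_of_det_eq_one hT (det_eq_one_of_pow (k := k) ?_)
        rw [← map_pow]
        convert map_one (Model.action U m)
        exact Subtype.ext (by rw [SubmonoidClass.coe_pow, ← hk, pow_orderOf_eq_one]; rfl)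
      obtain ⟨l, hlL, hl⟩ := m.exists_action_eq hFg
      set z : Subgroup.normalizer (U : Set G) := l⁻¹ * ⟨g, hgU⟩ with hz
      have hzc : (z : G) ∈ Subgroup.centralizer (U : Set G) :=
        (m.action_eq_one_iff z).1 (by rw [hz, map_mul, map_inv, hl, inv_mul_cancel])
      obtain ⟨e, hek, he⟩ := exists_pow_pPart (p := p) (z : G)
      have hout : IsOuter p L ((z : G) ^ e) :=
        isOuter_pPart hg (show (l : G)⁻¹ * g * g⁻¹ ∈ L by rw [mul_inv_cancel_right]; exact L.inv_mem hlL)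
          he hek
      have hec : (z : G) ^ e ∈ Subgroup.centralizer (U : Set G) := pow_mem hzc e
      refine ⟨Subgroup.zpowers r, Subgroup.zpowers_le.2 hrJ, ?_,
        fun a ha => hrfix a (ha r (Subgroup.mem_zpowers r)), _, hout,
        Subgroup.centralizer_le_normalizer _ hec, ?_, fun _ => hec⟩
      · rw [Nat.card_zpowers]
        exact (Fact.out : p.Prime).coprime_iff_not_dvd.1 hrp.symm
      · intro u hu
        rw [(m.action_eq_one_iff _).2 hec, one_mul, inv_one, mul_one]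
        exact hu
    · exact ⟨J, le_rfl, hpJ, fun a ha => eq_zero_of_fixed_normal hJn hJne ha, g, hg, hgU,
        fun u hu => hJn.conj_mem u hu _, fun h => absurd h hpJ⟩
  -- the preimage
  set M0 : Subgroup G :=
    (Rb.comap (Model.action U m)).map (Subgroup.normalizer (U : Set G)).subtype ⊓ L with hM0
  have hM0mem : ∀ x, x ∈ M0 ↔ x ∈ L ∧ ∃ hx : x ∈ Subgroup.normalizer (U : Set G),
      Model.action U m ⟨x, hx⟩ ∈ Rb := by
    intro x
    constructor
    · rintro ⟨⟨⟨x, hxU⟩, hx, rfl⟩, hxL⟩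
      exact ⟨hxL, hxU, hx⟩
    · rintro ⟨hxL, hxU, hx⟩
      exact ⟨⟨⟨x, hxU⟩, hx, rfl⟩, hxL⟩
  have hCM0 : C ≤ M0 := fun x hx => (hM0mem x).2 ⟨hx.1, Subgroup.centralizer_le_normalizer _ hx.2, by
    rw [(m.action_eq_one_iff _).2 hx.2]; exact one_mem _⟩
  have hM0M : M0 ≤ M := fun x hx => ⟨((hM0mem x).1 hx).1, ((hM0mem x).1 hx).2.1⟩
  have hLn : ∀ x : G, x ∈ Subgroup.normalizer (L : Set G) := fun x =>
    Subgroup.le_normalizer_of_normal (Subgroup.mem_top x)
  have hMC : ∀ x ∈ Subgroup.normalizer (U : Set G), x ∈ Subgroup.normalizer (C : Set G) := by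
    intro x hx
    refine Subgroup.mem_normalizer_fintype fun c hc => ⟨(Subgroup.mem_normalizer_iff.1 (hLn x) c).1 hc.1, ?_⟩
    show x * c * x⁻¹ ∈ Subgroup.centralizer (U : Set G)
    intro v hv
    have h1 : x⁻¹ * v * x ∈ U := by
      have := (Subgroup.mem_normalizer_iff.1 (inv_mem hx) v).1 hv
      rwa [inv_inv] at this
    have h2 := Subgroup.mem_centralizer_iff.1 hc.2 _ h1
    calc v * (x * c * x⁻¹) = x * (x⁻¹ * v * x * c) * x⁻¹ := by group
      _ = x * c * x⁻¹ * v := by rw [h2]; group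
  have hidx : ¬ p ∣ C.relIndex M0 := by
    let f : M0 →* Rb := MonoidHom.codRestrict
      ((Model.action U m).comp (Subgroup.inclusion (hM0M.trans inf_le_right))) Rb
      fun x => ((hM0mem x).1 x.2).2.2
    intro h
    apply hRbp
    refine h.trans ?_
    have hk : C.subgroupOf M0 = f.ker := by
      ext x
      rw [Subgroup.mem_subgroupOf, MonoidHom.mem_ker, ← Subtype.val_inj, OneMemClass.coe_one]
      exact ⟨fun hx => (m.action_eq_one_iff _).2 hx.2, fun hx =>
        ⟨((hM0mem x).1 x.2).1, (m.action_eq_one_iff ⟨(x : G), ((hM0mem x).1 x.2).2.1⟩).1 hx⟩⟩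
    rw [Subgroup.relIndex, hk, Subgroup.index_ker]
    exact Subgroup.card_subgroup_dvd_card _
  obtain ⟨R, hRM, hRp, hRcov, hRn⟩ := exists_invariant_p'_subgroup M0 C hCM0
    (fun x hx => hMC x (hM0M hx).2) hidx
  have hy0M0 : y0 ∈ Subgroup.normalizer (M0 : Set G) := by
    refine Subgroup.mem_normalizer_fintype fun x hx => ?_
    obtain ⟨hxL, hxU, hxR⟩ := (hM0mem x).1 hx
    refine (hM0mem _).2 ⟨(Subgroup.mem_normalizer_iff.1 (hLn y0) x).1 hxL,
      mul_mem (mul_mem hy0U hxU) (inv_mem hy0U), ?_⟩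
    have := hy0R _ hxR
    rwa [← map_inv, ← map_mul, ← map_mul] at this
  obtain ⟨c, hc, hcy⟩ := hRn y0 hy0M0 (hMC y0 hy0U)
  have hcyU : c * y0 ∈ Subgroup.normalizer (U : Set G) :=
    mul_mem (Subgroup.centralizer_le_normalizer _ hc.2) hy0U
  obtain ⟨e, hek, he⟩ := exists_pow_pPart (p := p) (c * y0)
  set y := (c * y0) ^ e with hy'
  have hyout : IsOuter p L y :=
    isOuter_pPart hy0 (by rw [mul_inv_cancel_right]; exact hc.1) he hek
  have hyU : y ∈ Subgroup.normalizer (U : Set G) := pow_mem hcyU e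
  have hyR : y ∈ Subgroup.normalizer (R : Set G) := pow_mem hcy e
  obtain ⟨w, hwL, hwp, j, hwj, hj⟩ := hyout.exists_top hG hp
  have hwU : w ∈ Subgroup.normalizer (U : Set G) := hwj ▸ pow_mem hyU _
  -- `w` centralises `U`
  have hwc : w ∈ Subgroup.centralizer (U : Set G) := by
    by_cases hpJ : p ∣ Nat.card J
    · rw [hwj, hy']
      exact pow_mem (pow_mem (mul_mem hc.2 (hy0c hpJ)) _) _
    · refine (m.action_eq_one_iff ⟨w, hwU⟩).1 ?_
      by_contra hne
      apply hpJ
      have h1 : orderOf (Model.action U m ⟨w, hwU⟩) = p := by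
        refine orderOf_eq_prime ?_ hne
        rw [← map_pow]
        convert map_one (Model.action U m)
        exact Subtype.ext (by rw [SubmonoidClass.coe_pow, ← hwp, pow_orderOf_eq_one]; rfl)
      calc p = orderOf (Model.action U m ⟨w, hwU⟩) := h1.symm
        _ ∣ Nat.card J := Subgroup.orderOf_dvd_natCard J (m.action_mem_img _ hwL)
  -- the enlarged subgroup
  have hwpow : w ^ p = 1 := by rw [← hwp, pow_orderOf_eq_one]
  set U' := U ⊔ Subgroup.zpowers w with hU'
  have hU'L : U' ≤ L := sup_le hUL (Subgroup.zpowers_le.2 hwL)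
  have hU'e : Cfsg.IsElementaryAbelian p U' := by
    have hn : Subgroup.zpowers w ≤ Subgroup.normalizer (U : Set G) := Subgroup.zpowers_le.2 hwU
    haveI := hU.1
    have hform : ∀ a ∈ U', ∃ i : ℤ, ∃ v ∈ U, a = w ^ i * v := fun a ha => by
      obtain ⟨z, hz, v, hv, rfl⟩ := CfsgLib.Coprime.exists_mul_of_mem_sup hn (show a ∈ Subgroup.zpowers w ⊔ U by rw [sup_comm]; exact ha)
      obtain ⟨i, rfl⟩ := Subgroup.mem_zpowers_iff.1 hz
      exact ⟨i, v, hv, rfl⟩
    have hcw : ∀ v ∈ U, ∀ i : ℤ, Commute (w ^ i) v := fun v hv i =>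
      Commute.zpow_left (Subgroup.mem_centralizer_iff.1 hwc v hv).symm i
    refine ⟨⟨⟨fun a b => Subtype.ext ?_⟩⟩, fun a ha => ?_⟩
    · obtain ⟨i, u, hu, ha⟩ := hform a a.2
      obtain ⟨i', v, hv, hb⟩ := hform b b.2
      show (a : G) * b = b * a
      rw [ha, hb]
      have huv : Commute u v := congrArg Subtype.val (mul_comm' (⟨u, hu⟩ : U) ⟨v, hv⟩)
      exact (((Commute.zpow_zpow_self w i i').mul_right (hcw v hv i)).mul_left
        ((hcw u hu i').symm.mul_right huv)).eq
    · obtain ⟨i, u, hu, rfl⟩ := hform a ha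
      rw [(hcw u hu i).mul_pow, hU.2 u hu, mul_one, ← zpow_natCast, ← zpow_mul, mul_comm, zpow_mul,
        zpow_natCast, hwpow, one_zpow]
  have hyU' : y ∈ Subgroup.normalizer (U' : Set G) := by
    refine Subgroup.mem_normalizer_fintype fun a ha => ?_
    have h : U' ≤ U'.comap (MulAut.conj y).toMonoidHom := sup_le
      (fun v hv => (le_sup_left : U ≤ U') ((Subgroup.mem_normalizer_iff.1 hyU v).1 hv))
      (Subgroup.zpowers_le.2 (by
        show y * w * y⁻¹ ∈ U'
        rw [hwj, ((Commute.refl y).pow_right _).eq, mul_inv_cancel_right]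
        exact hwj ▸ (le_sup_right : _ ≤ U') (Subgroup.mem_zpowers w)))
    exact h ha
  -- the elements of `R` commuting with `w` induce all of `Rb`
  have hRU : R ≤ Subgroup.normalizer (U : Set G) := fun x hx => (hM0M (hRM hx)).2
  have hwR : ∀ a ∈ Subgroup.zpowers w, a ∈ Subgroup.normalizer (R : Set G) :=
    fun a ha => Subgroup.zpowers_le.2 (hwj ▸ pow_mem hyR _) ha
  have hcov : ∀ u ∈ Rb, ∃ r ∈ R ⊓ Subgroup.centralizer ({w} : Set G),
      ∃ hr : r ∈ Subgroup.normalizer (U : Set G), Model.action U m ⟨r, hr⟩ = u := by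
    intro u hu
    obtain ⟨x, hxL, hx⟩ := m.exists_action_eq (hRbJ hu)
    obtain ⟨r, hr, hrx⟩ := hRcov x ((hM0mem x).2 ⟨hxL, x.2, by rw [Subtype.coe_eta, hx]; exact hu⟩)
    have hru : Model.action U m ⟨r, hRU hr⟩ = u := by
      rw [← hx, eq_comm, ← inv_mul_eq_one, ← map_inv, ← map_mul]
      have h1 : (⟨r, hRU hr⟩⁻¹ * x : Subgroup.normalizer (U : Set G))⁻¹ =
          x⁻¹ * ⟨r, hRU hr⟩ := by group
      rw [← h1, map_inv, inv_eq_one]
      exact (m.action_eq_one_iff _).2 hrx.2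
    obtain ⟨c', hc', hN⟩ := CfsgLib.Coprime.exists_centralizing_rep (Subgroup.zpowers w) R
      hwR
      (by rw [Nat.card_zpowers, hwp]; exact hRp.symm)
      (Or.inl inferInstance) (R ⊓ Subgroup.centralizer (U : Set G)) inf_le_left
      (fun a ha => Subgroup.mem_normalizer_fintype fun v hv => Subgroup.mem_inf.2
        ⟨(Subgroup.mem_normalizer_iff.1 (hwR a ha) v).1 hv.1,
          mul_mem (mul_mem (Subgroup.zpowers_le.2 hwc ha) hv.2) (inv_mem (Subgroup.zpowers_le.2 hwc ha))⟩)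
      hr (fun a ha => Subgroup.mem_inf.2
        ⟨mul_mem (inv_mem hr) ((Subgroup.mem_normalizer_iff.1 (hwR a ha) r).1 hr), by
          have hac : a ∈ Subgroup.centralizer (U : Set G) := Subgroup.zpowers_le.2 hwc ha
          have haU := Subgroup.centralizer_le_normalizer _ hac
          refine (m.action_eq_one_iff
            ((⟨r, hRU hr⟩ : Subgroup.normalizer (U : Set G))⁻¹ * (⟨a, haU⟩ * ⟨r, hRU hr⟩ * ⟨a, haU⟩⁻¹))).1 ?_
          rw [map_mul, map_mul, map_mul, map_inv, map_inv, (m.action_eq_one_iff ⟨a, haU⟩).2 hac, one_mul,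
            inv_one, mul_one, inv_mul_cancel]⟩)
    refine ⟨c', ⟨hc'.1, fun v hv => ?_⟩, hRU hc'.1, ?_⟩
    · rw [Set.mem_singleton_iff.1 hv]
      exact hc'.2 w (Subgroup.mem_zpowers w)
    · rw [← hru, eq_comm, ← inv_mul_eq_one, ← map_inv, ← map_mul]
      exact (m.action_eq_one_iff _).2 hN.2
  have hbad' : ¬ L ⊓ Subgroup.normalizer (U' : Set G) ≤ Subgroup.centralizer (U' : Set G) := by
    intro hle
    have htriv : ∀ u ∈ Rb, u = 1 := fun u hu => by
      obtain ⟨r, ⟨hr, hrw⟩, hrU, hru⟩ := hcov u hu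
      have hrU' : r ∈ Subgroup.normalizer (U' : Set G) := by
        refine Subgroup.mem_normalizer_fintype fun a ha => ?_
        have h : U' ≤ U'.comap (MulAut.conj r).toMonoidHom := sup_le
          (fun v hv => (le_sup_left : U ≤ U') ((Subgroup.mem_normalizer_iff.1 hrU v).1 hv))
          (Subgroup.zpowers_le.2 (by
            show r * w * r⁻¹ ∈ U'
            rw [← hrw w rfl, mul_inv_cancel_right]
            exact (le_sup_right : _ ≤ U') (Subgroup.mem_zpowers w)))
        exact h ha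
      rw [← hru]
      exact (m.action_eq_one_iff _).2 fun v hv =>
        hle ⟨((hM0mem r).1 (hRM hr)).1, hrU'⟩ v ((le_sup_left : U ≤ U') hv)
    refine hJne ?_
    have hbot : ∀ u : U, u = 1 := fun u => m.vec_eq_zero.1
      (hRbfix _ fun v hv => by rw [htriv v hv]; rfl)
    exact absurd (fun x hx v hv => by
      rw [show v = 1 from congrArg Subtype.val (hbot ⟨v, hv⟩), one_mul, mul_one]) hbad
  have hUU' : U' = U :=
    (hUmax.eq_of_ge (show U' ∈ {V : Subgroup G | V ≤ L ∧ Cfsg.IsElementaryAbelian p V ∧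
      (∃ y, IsOuter p L y ∧ y ∈ Subgroup.normalizer (V : Set G)) ∧
      ¬ L ⊓ Subgroup.normalizer (V : Set G) ≤ Subgroup.centralizer (V : Set G)} from
        ⟨hU'L, hU'e, ⟨y, hyout, hyU'⟩, hbad'⟩) le_sup_left)
  have hwmem : w ∈ U := hUU' ▸ (le_sup_right : _ ≤ U') (Subgroup.mem_zpowers w)
  have hw0 : m.vec ⟨w, hwmem⟩ = 0 := hRbfix _ fun u hu => by
    obtain ⟨r, ⟨-, hrw⟩, hrU, hru⟩ := hcov u hu
    obtain ⟨w', hw', hw''⟩ := m.action_apply ⟨r, hrU⟩ ⟨w, hwmem⟩
    rw [← hru, hw'', show w' = ⟨w, hwmem⟩ from Subtype.ext (by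
      rw [hw']
      show r * w * r⁻¹ = w
      rw [← hrw w rfl, mul_inv_cancel_right])]
  rw [m.vec_eq_zero, Subtype.ext_iff] at hw0
  rw [show w = 1 from hw0, orderOf_one] at hwp
  exact (Fact.out : p.Prime).ne_one hwp.symm

end CfsgLib.Homogeneous
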