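import Cfsg.Agent.Lib.Homogeneous.Outer
import Cfsg.Agent.S0519

/-!
# Normal subgroups of order `p²` and outer elements on elementary subgroups of rank at most two
-/

set_option autoImplicit false
set_option linter.unusedSimpArgs false
set_option linter.style.haveILetI false

namespace CfsgLib.Homogeneous

universe u

variable {G : Type u} [Group G] [Finite G] {p : ℕ} [Fact p.Prime]

/-- A `p`-group normalising a non-trivial `p`-subgroup centralises an element of order `p` of it. -/
theorem exists_central_order_p {P N : Subgroup G} (hP : IsPGroup p P) (hN : IsPGroup p N)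
    (hPN : P ≤ Subgroup.normalizer (N : Set G)) (hne : N ≠ ⊥) :
    ∃ z ∈ N, orderOf z = p ∧ ∀ x ∈ P, x * z = z * x := by
  haveI : Nontrivial N := (Subgroup.nontrivial_iff_ne_bot N).2 hne
  obtain ⟨k, hk⟩ := hN.exists_card_eq
  have hk0 : k ≠ 0 := by
    rintro rfl
    have := Finite.one_lt_card (α := N)
    rw [hk, pow_zero] at this
    exact lt_irrefl 1 this
  letI : MulAction P N :=
    MulAction.compHom N ((Subgroup.normalizerMonoidHom N).comp (Subgroup.inclusion hPN))
  have hval : ∀ (x : P) (a : N), ((x • a : N) : G) = x * a * (x : G)⁻¹ := fun x a => rfl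
  obtain ⟨a, ha, ha1⟩ := hP.exists_fixed_point_of_prime_dvd_card_of_fixed_point N
    (hk ▸ dvd_pow_self p hk0) (a := (1 : N))
    (fun x => Subtype.ext (by rw [hval, OneMemClass.coe_one, mul_one, mul_inv_cancel]))
  have hac : ∀ x ∈ P, Commute x (a : G) := fun x hx => by
    have := congrArg Subtype.val (ha ⟨x, hx⟩)
    rw [hval] at this
    exact mul_inv_eq_iff_eq_mul.1 this
  obtain ⟨j, hj⟩ := IsPGroup.iff_orderOf.1 hN a
  have hj0 : j ≠ 0 := by
    rintro rfl
    rw [pow_zero, orderOf_eq_one_iff] at hj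
    exact ha1 hj.symm
  refine ⟨(a : G) ^ (p ^ (j - 1)), pow_mem a.2 _, ?_, fun x hx => ((hac x hx).pow_right _).eq⟩
  have hpos : 0 < p ^ (j - 1) := pow_pos (Fact.out : p.Prime).pos _
  rw [orderOf_pow_of_dvd hpos.ne' (by rw [Subgroup.orderOf_coe, hj]; exact pow_dvd_pow p (by omega)),
    Subgroup.orderOf_coe, hj]
  conv_lhs => rw [show j = (j - 1) + 1 by omega, pow_succ]
  rw [show j - 1 + 1 - 1 = j - 1 by omega]
  exact Nat.mul_div_cancel_left _ hpos

theorem zpowers_isElementaryAbelian {z : G} (hz : orderOf z = p) :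
    Cfsg.IsElementaryAbelian p (Subgroup.zpowers z) := by
  refine ⟨inferInstance, fun a ha => ?_⟩
  obtain ⟨i, rfl⟩ := Subgroup.mem_zpowers_iff.1 ha
  rw [← zpow_natCast, ← zpow_mul, mul_comm, zpow_mul, zpow_natCast, ← hz, pow_orderOf_eq_one, one_zpow]

/-- The join of two commuting cyclic subgroups of order `p`. -/
theorem pair_isElementaryAbelian {a b : G} (ha : orderOf a = p) (hb : orderOf b = p)
    (hab : Commute a b) (hnot : b ∉ Subgroup.zpowers a) :
    Cfsg.IsElementaryAbelian p (Subgroup.zpowers a ⊔ Subgroup.zpowers b) ∧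
      Nat.card (Subgroup.zpowers a ⊔ Subgroup.zpowers b : Subgroup G) = p ^ 2 := by
  have hn : Subgroup.zpowers b ≤ Subgroup.normalizer (Subgroup.zpowers a : Set G) :=
    Subgroup.zpowers_le.2 (Subgroup.centralizer_le_normalizer _ fun x hx => by
      obtain ⟨i, rfl⟩ := Subgroup.mem_zpowers_iff.1 hx
      exact (hab.zpow_left i).eq)
  have hform : ∀ x ∈ Subgroup.zpowers a ⊔ Subgroup.zpowers b, ∃ i j : ℤ, x = b ^ i * a ^ j := by
    intro x hx
    rw [sup_comm] at hx
    obtain ⟨y, hy, z, hz, rfl⟩ := CfsgLib.Coprime.exists_mul_of_mem_sup hn hx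
    obtain ⟨i, rfl⟩ := Subgroup.mem_zpowers_iff.1 hy
    obtain ⟨j, rfl⟩ := Subgroup.mem_zpowers_iff.1 hz
    exact ⟨i, j, rfl⟩
  refine ⟨⟨⟨⟨fun x y => Subtype.ext ?_⟩⟩, fun x hx => ?_⟩, ?_⟩
  · obtain ⟨i, j, hx⟩ := hform x x.2
    obtain ⟨i', j', hy⟩ := hform y y.2
    show (x : G) * y = y * x
    rw [hx, hy]
    exact (((Commute.zpow_zpow_self b i i').mul_right (hab.symm.zpow_zpow i j')).mul_left
      ((hab.zpow_zpow j i').mul_right (Commute.zpow_zpow_self a j j'))).eq
  · obtain ⟨i, j, rfl⟩ := hform x hx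
    rw [(hab.symm.zpow_zpow i j).mul_pow,
      (zpowers_isElementaryAbelian hb).2 _ ⟨i, rfl⟩, (zpowers_isElementaryAbelian ha).2 _ ⟨j, rfl⟩,
      one_mul]
  · have hd : Subgroup.zpowers a ⊓ Subgroup.zpowers b = ⊥ := by
      by_contra hne
      haveI : Nontrivial (Subgroup.zpowers a ⊓ Subgroup.zpowers b : Subgroup G) :=
        (Subgroup.nontrivial_iff_ne_bot _).2 hne
      have h1 : Nat.card (Subgroup.zpowers a ⊓ Subgroup.zpowers b : Subgroup G) ∣ p :=
        hb ▸ Nat.card_zpowers b ▸ Subgroup.card_dvd_of_le inf_le_right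
      rcases (Nat.dvd_prime (Fact.out : p.Prime)).1 h1 with h | h
      · exact (Finite.one_lt_card (α := (Subgroup.zpowers a ⊓ Subgroup.zpowers b : Subgroup G))).ne' h
      · have h2 : Subgroup.zpowers a ⊓ Subgroup.zpowers b = Subgroup.zpowers b :=
          Subgroup.eq_of_le_of_card_ge inf_le_right (by rw [h, Nat.card_zpowers, hb])
        exact hnot ((inf_eq_right.1 h2) (Subgroup.mem_zpowers b))
    rw [sup_comm, CfsgLib.Coprime.card_sup_of_disjoint hn hd, Nat.card_zpowers, Nat.card_zpowers,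
      ha, hb, sq]

theorem exists_independent_of_not_cyclic {A : Subgroup G} [IsMulCommutative A] (hA : IsPGroup p A)
    (hnc : ¬ IsCyclic A) : ∃ a b : A, orderOf a = p ∧ orderOf b = p ∧ b ∉ Subgroup.zpowers a := by
  by_contra hall
  push Not at hall
  apply hnc
  rcases subsingleton_or_nontrivial A with h | h
  · exact isCyclic_of_subsingleton
  obtain ⟨k, hk⟩ := hA.exists_card_eq
  have hk0 : k ≠ 0 := by
    rintro rfl
    have := Finite.one_lt_card (α := A)
    rw [hk, pow_zero] at this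
    exact lt_irrefl 1 this
  obtain ⟨a, ha⟩ := exists_prime_orderOf_dvd_card' p (hk ▸ dvd_pow_self p hk0)
  letI : CommGroup A := { (inferInstance : Group A) with mul_comm := mul_comm' }
  haveI : Fintype A := Fintype.ofFinite A
  have hsub : ∀ x : A, x ^ p = 1 → x ∈ Subgroup.zpowers a := fun x hx => by
    rcases eq_or_ne x 1 with rfl | hx1
    · exact one_mem _
    · exact hall a x ha (orderOf_eq_prime hx hx1)
  let φ : A →* A := powMonoidHom p
  have hker : ∀ j : ℕ, Nat.card {x : A // x ^ p ^ j = 1} ≤ p ^ j := by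
    intro j
    induction j with
    | zero =>
      simp only [pow_zero, pow_one]
      exact le_of_eq (by rw [Nat.card_eq_one_iff_unique]; exact ⟨inferInstance, inferInstance⟩)
    | succ j ih =>
      let K : Subgroup A := (powMonoidHom (p ^ (j + 1))).ker
      let K' : Subgroup A := (powMonoidHom (p ^ j)).ker
      let f : K →* A := φ.comp K.subtype
      have hr : Nat.card f.range ≤ Nat.card K' := Subgroup.card_le_of_le (by
        rintro _ ⟨x, rfl⟩
        show ((x : A) ^ p) ^ p ^ j = 1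
        rw [← pow_mul, ← pow_succ']
        exact x.2)
      have hkf : Nat.card f.ker ≤ p := by
        refine le_of_le_of_eq (Nat.card_le_card_of_injective
          (fun x => (⟨((x : K) : A), hsub _ x.2⟩ : Subgroup.zpowers a))
          fun x y hxy => Subtype.ext (Subtype.ext (congrArg (fun z : Subgroup.zpowers a => (z : A)) hxy))) ?_
        rw [Nat.card_zpowers, ha]
      have hfac := Subgroup.card_mul_index f.ker
      rw [Subgroup.index_ker] at hfac
      show Nat.card K ≤ _
      rw [← hfac, pow_succ']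
      exact Nat.mul_le_mul hkf (hr.trans ih)
  classical
  refine isCyclic_of_card_pow_eq_one_le fun n hn => ?_
  obtain ⟨j, -, hj⟩ := (Nat.dvd_prime_pow (Fact.out : p.Prime)).1 (Nat.gcd_dvd_left (p ^ k) n)
  refine le_trans ?_ ((hker j).trans (Nat.le_of_dvd hn (hj ▸ Nat.gcd_dvd_right (p ^ k) n)))
  rw [← Fintype.card_subtype, ← Nat.card_eq_fintype_card]
  refine Nat.card_le_card_of_injective (fun x => (⟨x.1, ?_⟩ : {x : A // x ^ p ^ j = 1}))
    fun x y hxy => Subtype.ext (congrArg (fun z : {x : A // x ^ p ^ j = 1} => (z : A)) hxy)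
  rw [← orderOf_dvd_iff_pow_eq_one, ← hj]
  exact Nat.dvd_gcd (hk ▸ orderOf_dvd_natCard x.1) (orderOf_dvd_of_pow_eq_one x.2)

/-- A non-cyclic abelian subgroup normalised by the `p`-group `P` containing it gives a `P`-invariant
elementary abelian subgroup of order `p²`. -/
theorem exists_normal_square {P A : Subgroup G} (hP : IsPGroup p P) (hAP : A ≤ P)
    (hPA : P ≤ Subgroup.normalizer (A : Set G)) [IsMulCommutative A] (hnc : ¬ IsCyclic A) :
    ∃ U : Subgroup G, U ≤ P ∧ Cfsg.IsElementaryAbelian p U ∧ Nat.card U = p ^ 2 ∧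
      P ≤ Subgroup.normalizer (U : Set G) := by
  obtain ⟨a, b, ha, hb, hab⟩ := exists_independent_of_not_cyclic (hP.to_le hAP) hnc
  rw [← Subgroup.orderOf_coe] at ha hb
  let W : Subgroup G :=
    { carrier := {x | x ∈ A ∧ x ^ p = 1}
      one_mem' := ⟨A.one_mem, one_pow p⟩
      mul_mem' := fun {x y} hx hy => ⟨A.mul_mem hx.1 hy.1, by
        rw [(show Commute x y from congrArg Subtype.val (mul_comm' (⟨x, hx.1⟩ : A) ⟨y, hy.1⟩)).mul_pow,
          hx.2, hy.2, one_mul]⟩
      inv_mem' := fun hx => ⟨A.inv_mem hx.1, by rw [inv_pow, hx.2, inv_one]⟩ }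
  have hWA : W ≤ A := fun x hx => hx.1
  have haW : (a : G) ∈ W := ⟨a.2, by rw [← ha, pow_orderOf_eq_one]⟩
  have hbW : (b : G) ∈ W := ⟨b.2, by rw [← hb, pow_orderOf_eq_one]⟩
  have hPW : P ≤ Subgroup.normalizer (W : Set G) := fun x hx => Subgroup.mem_normalizer_fintype
    fun y hy => ⟨(Subgroup.mem_normalizer_iff.1 (hPA hx) y).1 hy.1, by
      rw [conj_pow, hy.2, mul_one, mul_inv_cancel]⟩
  obtain ⟨z, hzW, hz, hzc⟩ := exists_central_order_p hP (hP.to_le (hWA.trans hAP)) hPW
    (fun h => (Fact.out : p.Prime).ne_one (by rw [← ha, orderOf_eq_one_iff, ← Subgroup.mem_bot, ← h]; exact haW))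
  have hzP : Subgroup.zpowers z ≤ P := Subgroup.zpowers_le.2 (hAP (hWA hzW))
  haveI : ((Subgroup.zpowers z).subgroupOf P).Normal := by
    refine Subgroup.normal_subgroupOf_of_le_normalizer fun x hx =>
      Subgroup.centralizer_le_normalizer _ fun y hy => ?_
    obtain ⟨i, rfl⟩ := Subgroup.mem_zpowers_iff.1 hy
    exact ((Commute.symm (hzc x hx)).zpow_left i).eq
  set π := QuotientGroup.mk' ((Subgroup.zpowers z).subgroupOf P) with hπ
  have hWn : (W.subgroupOf P).Normal := Subgroup.normal_subgroupOf_of_le_normalizer hPW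
  have hne : (W.subgroupOf P).map π ≠ ⊥ := by
    rw [Ne, Subgroup.map_eq_bot_iff, QuotientGroup.ker_mk']
    intro hle
    have h1 : ∀ c ∈ W, c ∈ Subgroup.zpowers z := fun c hc => hle (x := ⟨c, hAP (hWA hc)⟩) hc
    have h2 : Subgroup.zpowers (a : G) = Subgroup.zpowers z :=
      Subgroup.eq_of_le_of_card_ge (Subgroup.zpowers_le.2 (h1 _ haW))
        (by rw [Nat.card_zpowers, Nat.card_zpowers, ha, hz])
    apply hab
    obtain ⟨i, hi⟩ := Subgroup.mem_zpowers_iff.1 (h2.symm ▸ h1 _ hbW : (b : G) ∈ Subgroup.zpowers (a : G))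
    exact ⟨i, Subtype.ext (by simpa using hi)⟩
  have hQ : IsPGroup p (P ⧸ (Subgroup.zpowers z).subgroupOf P) := hP.to_quotient _
  obtain ⟨c, hc, hco, hcc⟩ := exists_central_order_p (P := ⊤) (hQ.to_subgroup _) (hQ.to_subgroup _)
    (by
      haveI := hWn.map π (QuotientGroup.mk'_surjective _)
      exact Subgroup.le_normalizer_of_normal) hne
  obtain ⟨c, hcW, rfl⟩ := hc
  have hcW' : (c : G) ∈ W := hcW
  have hcz : (c : G) ∉ Subgroup.zpowers z := fun h => by
    rw [hπ, QuotientGroup.mk'_apply, (QuotientGroup.eq_one_iff c).2 h, orderOf_one] at hco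
    exact (Fact.out : p.Prime).ne_one hco.symm
  have hcp : orderOf (c : G) = p :=
    orderOf_eq_prime hcW'.2 fun h => hcz (h ▸ one_mem _)
  obtain ⟨hU, hUc⟩ := pair_isElementaryAbelian hz hcp (hzc _ c.2).symm hcz
  refine ⟨_, sup_le hzP (Subgroup.zpowers_le.2 c.2), hU, hUc, fun x hx => ?_⟩
  refine Subgroup.mem_normalizer_fintype fun y hy => ?_
  have h : Subgroup.zpowers z ⊔ Subgroup.zpowers (c : G) ≤
      (Subgroup.zpowers z ⊔ Subgroup.zpowers (c : G)).comap (MulAut.conj x).toMonoidHom := by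
    refine sup_le (Subgroup.zpowers_le.2 ?_) (Subgroup.zpowers_le.2 ?_)
    · show x * z * x⁻¹ ∈ Subgroup.zpowers z ⊔ Subgroup.zpowers (c : G)
      rw [hzc x hx, mul_inv_cancel_right]
      exact (le_sup_left : _ ≤ Subgroup.zpowers z ⊔ _) (Subgroup.mem_zpowers z)
    · have h1 : π (⟨x, hx⟩ * c * ⟨x, hx⟩⁻¹ * c⁻¹) = 1 := by
        rw [map_mul, map_mul, map_mul, map_inv, map_inv, hcc (π ⟨x, hx⟩) (Subgroup.mem_top _)]
        group
      have h2 : x * c * x⁻¹ * (c : G)⁻¹ ∈ Subgroup.zpowers z :=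
        Subgroup.mem_subgroupOf.1 ((QuotientGroup.eq_one_iff ((⟨x, hx⟩ : P) * c * (⟨x, hx⟩ : P)⁻¹ * c⁻¹)).1 h1)
      show x * c * x⁻¹ ∈ Subgroup.zpowers z ⊔ Subgroup.zpowers (c : G)
      rw [show x * (c : G) * x⁻¹ = (x * c * x⁻¹ * (c : G)⁻¹) * c by group]
      exact Subgroup.mul_mem_sup h2 (Subgroup.mem_zpowers _)
  exact h hy

/-- A `p`-group with two commuting independent elements of order `p` has a normal subgroup of type
`(p,p)` or is generated by its elements of order `2` and `4` (the latter non-trivially present in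
every normal subgroup containing the involutions when they occur). -/
theorem normal_square_or_generated {P : Subgroup G} (hP : IsPGroup p P) {a b : P} (ha : orderOf a = p)
    (hb : orderOf b = p) (hab : Commute a b) (hnot : b ∉ Subgroup.zpowers a) :
    (∃ U : Subgroup G, U ≤ P ∧ Cfsg.IsElementaryAbelian p U ∧ Nat.card U = p ^ 2 ∧
      P ≤ Subgroup.normalizer (U : Set G)) ∨
    (p = 2 ∧ ∀ (L : Subgroup G), L.Normal → (∀ x : P, orderOf x = 2 → (x : G) ∈ L) →
      (∀ x y : P, (x : G) ∈ L → orderOf x = 4 → orderOf y = 4 → (y : G) ∈ L) → P ≤ L) := by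
  by_cases hn : ∀ A : Subgroup P, A.Normal → IsMulCommutative A → IsCyclic A
  swap
  · push Not at hn
    obtain ⟨A, hAn, hAc, hAnc⟩ := hn
    haveI := hAc
    left
    haveI : IsMulCommutative (A.map P.subtype) := Subgroup.map_isMulCommutative _ _
    refine exists_normal_square (A := A.map P.subtype) hP (Subgroup.map_subtype_le A) (fun x hx => ?_)
      fun h => hAnc ?_
    · refine Subgroup.mem_normalizer_fintype ?_
      rintro _ ⟨y, hy, rfl⟩
      exact ⟨⟨x, hx⟩ * y * ⟨x, hx⟩⁻¹, hAn.conj_mem y hy _, rfl⟩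
    · exact isCyclic_of_surjective (A.equivMapOfInjective P.subtype P.subtype_injective).symm
        (MulEquiv.surjective _)
  have hB : ∃ B : Subgroup P, IsMulCommutative B ∧ ¬ IsCyclic B := by
    obtain ⟨hU, hUc⟩ := pair_isElementaryAbelian ha hb hab hnot
    refine ⟨_, hU.1, fun h => ?_⟩
    haveI := h
    have h2 := IsCyclic.exponent_eq_card (α := (Subgroup.zpowers a ⊔ Subgroup.zpowers b : Subgroup P))
    rw [hUc] at h2
    have h3 : Monoid.exponent (Subgroup.zpowers a ⊔ Subgroup.zpowers b : Subgroup P) ∣ p :=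
      Monoid.exponent_dvd_of_forall_pow_eq_one fun g => Subtype.ext (hU.2 g g.2)
    rw [h2] at h3
    have := Nat.le_of_dvd (Fact.out : p.Prime).pos h3
    have h4 : p * 2 ≤ p * p := Nat.mul_le_mul_left p (Fact.out : p.Prime).two_le
    have h5 := (Fact.out : p.Prime).pos
    rw [sq] at this
    omega
  obtain ⟨rfl, hcases⟩ := Cfsg.Agent.S0519.result p hP hn hB
  refine Or.inr ⟨rfl, fun L hL h2 h4 => ?_⟩
  haveI := hL
  rcases hcases with ⟨n, ⟨e⟩⟩ | ⟨n, -, ⟨e⟩⟩ | ⟨n, hn3, hcardP, x, y, hx, hy, hxy⟩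
  · exfalso
    haveI : NeZero n := ⟨fun h => by
      subst h
      haveI : Infinite (QuaternionGroup 0) :=
        Infinite.of_injective (fun i : ℤ => (QuaternionGroup.a i : QuaternionGroup 0))
          fun i j h => QuaternionGroup.a.inj h
      haveI := Finite.of_equiv P e.toEquiv
      exact not_finite (QuaternionGroup 0)⟩
    have huniq : ∀ g : P, orderOf g = 2 → e g = QuaternionGroup.a (n : ZMod (2 * n)) := by
      intro g hg
      have hg' : orderOf (e g) = 2 := e.orderOf_eq g ▸ hg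
      rcases hgc : e g with i | i
      · rw [hgc] at hg'
        have h1 := pow_orderOf_eq_one (QuaternionGroup.a i)
        rw [hg', pow_two, QuaternionGroup.a_mul_a, QuaternionGroup.one_def, QuaternionGroup.a.injEq] at h1
        have hi0 : i ≠ 0 := by
          rintro rfl
          rw [← QuaternionGroup.one_def, orderOf_one] at hg'
          norm_num at hg'
        congr 1
        have h5 : ((2 * i.val : ℕ) : ZMod (2 * n)) = 0 := by
          push_cast
          rw [ZMod.natCast_zmod_val]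
          linear_combination h1
        rw [ZMod.natCast_eq_zero_iff] at h5
        have h6 : i.val < 2 * n := ZMod.val_lt i
        have h7 : i.val ≠ 0 := fun h => hi0 ((ZMod.val_eq_zero i).1 h)
        obtain ⟨c, hc⟩ := h5
        rcases c with _ | _ | c
        · omega
        · rw [← ZMod.natCast_zmod_val i]
          congr 1
          omega
        · have h8 : 2 * n * 2 ≤ 2 * n * (c + 1 + 1) := Nat.mul_le_mul_left _ (by omega)
          omega
      · rw [hgc, QuaternionGroup.orderOf_xa] at hg'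
        norm_num at hg'
    exact hnot (e.injective ((huniq a ha).trans (huniq b hb).symm) ▸ Subgroup.mem_zpowers a)
  · intro z hz
    have hgen : ∀ i : ZMod n, ((e.symm (DihedralGroup.sr i) : P) : G) ∈ L := fun i =>
      h2 _ (by rw [e.symm.orderOf_eq, DihedralGroup.orderOf_sr])
    obtain ⟨d, hd⟩ : ∃ d, e.symm d = ⟨z, hz⟩ := ⟨e ⟨z, hz⟩, e.symm_apply_apply _⟩
    rcases d with i | i
    · have h3 : DihedralGroup.r i = DihedralGroup.sr 0 * DihedralGroup.sr i := by simp
      have h4 := congrArg (fun g => ((e.symm g : P) : G)) h3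
      simp only [map_mul, Subgroup.coe_mul, hd] at h4
      rw [h4]
      exact L.mul_mem (hgen 0) (hgen i)
    · have := hgen i
      rwa [hd] at this
  · have hyL : (y : G) ∈ L := h2 y hy
    have hxyo : orderOf (x * y) = 4 := by
      have h1 : (x * y) ^ 2 = x ^ (2 ^ (n - 1)) := by
        rw [pow_two, show x * y * (x * y) = x * (y * x * y⁻¹) * (y * y) by group, hxy, ← pow_two,
          show y ^ 2 = 1 by rw [← hy, pow_orderOf_eq_one], mul_one, ← pow_succ', Nat.sub_add_cancel]
        exact Nat.one_le_two_pow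
      refine orderOf_eq_prime_pow (p := 2) (n := 1) ?_ ?_
      · rw [pow_one, h1]
        intro h
        have := orderOf_dvd_of_pow_eq_one h
        rw [hx, Nat.pow_dvd_pow_iff_le_right (by norm_num)] at this
        omega
      · rw [show 2 ^ (1 + 1) = 2 * 2 from rfl, pow_mul, h1, ← pow_mul, ← pow_succ,
          Nat.sub_add_cancel (by omega), ← hx, pow_orderOf_eq_one]
    -- an element of order four inside `L`
    have hfour : ∃ w : P, (w : G) ∈ L ∧ orderOf w = 4 := by
      have hd2 : 2 ∣ 2 ^ (n - 1) := dvd_pow_self 2 (by omega)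
      have hlt : 2 ≤ 2 ^ (n - 1) := Nat.le_of_dvd (pow_pos (by norm_num) _) hd2
      have hcL : ((x ^ (2 ^ (n - 1) - 1) * x⁻¹ : P) : G) ∈ L := by
        rw [← hxy, show y * x * y⁻¹ * x⁻¹ = y * (x * y⁻¹ * x⁻¹) by group, Subgroup.coe_mul]
        exact L.mul_mem hyL (by simpa using hL.conj_mem _ (L.inv_mem hyL) (x : G))
      refine ⟨(x ^ (2 ^ (n - 1) - 1) * x⁻¹) ^ (2 ^ (n - 3)),
        by rw [Subgroup.coe_pow]; exact L.pow_mem hcL _, ?_⟩
      rw [show x ^ (2 ^ (n - 1) - 1) * x⁻¹ = x ^ (2 ^ (n - 1) - 2) by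
        rw [mul_inv_eq_iff_eq_mul, ← pow_succ]; congr 1; omega]
      rw [← pow_mul, orderOf_pow, hx]
      obtain ⟨k, rfl⟩ : ∃ k, n = k + 3 := ⟨n - 3, by omega⟩
      simp only [show k + 3 - 1 = k + 2 from by omega, show k + 3 - 3 = k from by omega]
      rw [show (2 ^ (k + 2) - 2) * 2 ^ k = 2 ^ (k + 1) * (2 ^ (k + 1) - 1) by
        rw [Nat.sub_mul, Nat.mul_sub, mul_one, ← pow_add, ← pow_add, ← pow_succ' 2 k]; ring_nf,
        show 2 ^ (k + 3) = 2 ^ (k + 1) * 4 by ring, Nat.gcd_mul_left]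
      have hodd : Nat.gcd 4 (2 ^ (k + 1) - 1) = 1 := by
        have h1 : Odd (2 ^ (k + 1) - 1) :=
          Nat.Even.sub_odd Nat.one_le_two_pow ((Nat.even_pow.2 ⟨even_two, by omega⟩)) odd_one
        exact Nat.Coprime.pow_left 2 (Nat.coprime_two_left.2 h1)
      rw [hodd, mul_one, Nat.mul_div_cancel_left _ (by positivity)]
    obtain ⟨w, hwL, hw⟩ := hfour
    have hxL : (x : G) ∈ L := by
      have h5 := L.mul_mem (h4 w (x * y) hwL hw hxyo) (L.inv_mem hyL)
      simpa using h5
    intro z hz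
    have hidx : (Subgroup.zpowers x).index = 2 := by
      have h6 := (Subgroup.zpowers x).card_mul_index
      rw [Nat.card_zpowers, hx, hcardP, pow_succ] at h6
      exact Nat.eq_of_mul_eq_mul_left (pow_pos two_pos n) h6
    have hpow : ∀ w : P, w ∈ Subgroup.zpowers x → (w : G) ∈ L := fun w hw => by
      obtain ⟨i, rfl⟩ := Subgroup.mem_zpowers_iff.1 hw
      rw [Subgroup.coe_zpow]
      exact L.zpow_mem hxL i
    have hyx : y ∉ Subgroup.zpowers x := by
      intro hmem
      obtain ⟨i, hi⟩ := Subgroup.mem_zpowers_iff.1 hmem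
      have hc : y * x * y⁻¹ = x := by
        rw [← hi, ((Commute.refl x).zpow_left i).eq, mul_inv_cancel_right]
      rw [hxy] at hc
      obtain ⟨k, rfl⟩ : ∃ k, n = k + 3 := ⟨n - 3, by omega⟩
      simp only [show k + 3 - 1 = k + 2 from by omega] at hc
      have hlt : 2 ≤ 2 ^ (k + 1) := Nat.le_self_pow (by omega) 2
      have e2 : 2 ^ (k + 2) = 2 * 2 ^ (k + 1) := by ring
      have e3 : 2 ^ (k + 3) = 4 * 2 ^ (k + 1) := by ring
      have h7 : x ^ (2 ^ (k + 2) - 2) = 1 := by
        have h8 : x ^ (2 ^ (k + 2) - 2) * x = 1 * x := by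
          rw [← pow_succ, one_mul, show 2 ^ (k + 2) - 2 + 1 = 2 ^ (k + 2) - 1 by omega, hc]
        exact mul_right_cancel h8
      have h9 := Nat.le_of_dvd (by omega) (orderOf_dvd_of_pow_eq_one h7)
      rw [hx] at h9
      omega
    by_cases hzx : (⟨z, hz⟩ : P) ∈ Subgroup.zpowers x
    · exact hpow _ hzx
    · have h10 : (⟨z, hz⟩ : P) * y ∈ Subgroup.zpowers x :=
        (Subgroup.mul_mem_iff_of_index_two hidx).2 (iff_of_false hzx hyx)
      have h11 := L.mul_mem (hpow _ h10) (L.inv_mem hyL)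
      simpa using h11

end CfsgLib.Homogeneous
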