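import Cfsg.Agent.Lib.Homogeneous.CharElementary
import Cfsg.Agent.Lib.Homogeneous.TwoGroup
import Cfsg.Agent.Lib.OddOrder41.FixOmega
import Cfsg.Agent.Lib.Components.FStar

/-!
# The perfect core of a homogeneous group centralises the Fitting subgroup

A perfect characteristic subgroup `K` of a homogeneous group centralises `O_p(G)` for every prime;
for an odd prime dividing `|K|` one has `O_p(G) = 1`.
-/

set_option autoImplicit false
set_option linter.unusedSimpArgs false
set_option linter.style.haveILetI false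

namespace CfsgLib.Homogeneous

universe u

/-- A perfect group whose `p'`-elements act trivially acts trivially. -/
theorem eq_one_of_pPrime_trivial {p : ℕ} [Fact p.Prime] {X : Type u} [Group X] [Finite X]
    (hperf : commutator X = ⊤) {M : Type u} [Group M] (f : X →* M)
    (h : ∀ x, (orderOf x).Coprime p → f x = 1) : f = 1 := by
  haveI : Finite f.range := Finite.of_surjective _ f.rangeRestrict_surjective
  have hp : IsPGroup p f.range := by
    rintro ⟨_, x, rfl⟩
    obtain ⟨k, m, hm, hx⟩ := Nat.exists_eq_pow_mul_and_not_dvd (orderOf_pos x).ne' p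
      (Fact.out : p.Prime).ne_one
    refine ⟨k, Subtype.ext ?_⟩
    show f x ^ p ^ k = 1
    rw [← map_pow]
    refine h _ ?_
    have hk : p ^ k ∣ orderOf x := hx ▸ Dvd.intro m rfl
    have hpos : 0 < p ^ k := pow_pos (Fact.out : p.Prime).pos k
    rw [orderOf_pow_of_dvd hpos.ne' hk, hx, Nat.mul_div_cancel_left _ hpos, Nat.coprime_comm]
    exact (Fact.out : p.Prime).coprime_iff_not_dvd.2 hm
  haveI := hp.isNilpotent
  have h1 : commutator f.range = ⊤ := by
    rw [commutator_def, ← Subgroup.map_top_of_surjective _ f.rangeRestrict_surjective,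
      ← Subgroup.map_commutator]
    exact congrArg _ hperf
  have h2 : Subsingleton f.range := by
    by_contra hns
    rw [not_subsingleton_iff_nontrivial] at hns
    exact (Group.IsSolvable.commutator_lt_top_of_nontrivial f.range).ne h1
  exact MonoidHom.ext fun x => congrArg Subtype.val (h2.elim (f.rangeRestrict x) 1)

variable {G : Type u} [Group G]

theorem commutator_subgroup_eq_top {K : Subgroup G} (hK : ⁅K, K⁆ = K) : commutator K = ⊤ := by
  apply Subgroup.map_injective K.subtype_injective
  rw [Subgroup.map_subtype_commutator, hK, ← MonoidHom.range_eq_map, Subgroup.range_subtype]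

/-- The elements of order dividing `p` of the centre of `O_p(G)`. -/
def omegaCentre (p : ℕ) (G : Type u) [Group G] : Subgroup G where
  carrier := {z | z ∈ Cfsg.pCore p G ∧ z ∈ Subgroup.centralizer (Cfsg.pCore p G : Set G) ∧ z ^ p = 1}
  one_mem' := ⟨one_mem _, one_mem _, one_pow p⟩
  mul_mem' := fun {a b} ha hb => ⟨mul_mem ha.1 hb.1, mul_mem ha.2.1 hb.2.1, by
    have hc : Commute a b := (Subgroup.mem_centralizer_iff.1 ha.2.1 b hb.1).symm
    rw [hc.mul_pow, ha.2.2, hb.2.2, one_mul]⟩
  inv_mem' := fun ha => ⟨inv_mem ha.1, inv_mem ha.2.1, by rw [inv_pow, ha.2.2, inv_one]⟩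

theorem omegaCentre_isElementaryAbelian (p : ℕ) :
    Cfsg.IsElementaryAbelian p (omegaCentre p G) :=
  ⟨⟨⟨fun a b => Subtype.ext (Subgroup.mem_centralizer_iff.1 b.2.2.1 a a.2.1)⟩⟩, fun _ ha => ha.2.2⟩

instance omegaCentre_characteristic [Finite G] (p : ℕ) : (omegaCentre p G).Characteristic := by
  haveI : (Cfsg.pCore p G).Characteristic := CfsgLib.Fitting.pCore_characteristic p
  rw [Subgroup.characteristic_iff_le_comap]
  intro φ z hz
  refine ⟨map_mem_of_char φ hz.1, fun w hw => ?_, ?_⟩
  · have h1 := hz.2.1 _ (map_mem_of_char φ.symm hw)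
    have h2 := congrArg φ h1
    rwa [map_mul, map_mul, MulEquiv.apply_symm_apply] at h2
  · show φ z ^ p = 1
    rw [← map_pow, hz.2.2, map_one]

variable [Finite G] {p : ℕ} [Fact p.Prime]

theorem exists_omegaCentre_order (h : Cfsg.pCore p G ≠ ⊥) :
    ∃ z ∈ omegaCentre p G, orderOf z = p := by
  have hP := CfsgLib.Fitting.pCore_isPGroup (G := G) p
  haveI : Nontrivial (Cfsg.pCore p G) := (Subgroup.nontrivial_iff_ne_bot _).2 h
  haveI := hP.center_nontrivial
  have hZ : IsPGroup p (Subgroup.center (Cfsg.pCore p G)) := hP.to_subgroup _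
  obtain ⟨n, hn⟩ := hZ.exists_card_eq
  have hn0 : n ≠ 0 := by
    rintro rfl
    have := Finite.one_lt_card (α := Subgroup.center (Cfsg.pCore p G))
    rw [hn, pow_zero] at this
    exact lt_irrefl 1 this
  obtain ⟨z, hz⟩ := exists_prime_orderOf_dvd_card' p (hn ▸ dvd_pow_self p hn0)
  refine ⟨((z : Cfsg.pCore p G) : G), ⟨z.1.2, fun w hw => ?_, ?_⟩, ?_⟩
  · exact congrArg Subtype.val (Subgroup.mem_center_iff.1 z.2 ⟨w, hw⟩)
  · have h1 := pow_orderOf_eq_one z
    rw [hz] at h1
    exact congrArg (fun a : Subgroup.center (Cfsg.pCore p G) => ((a : Cfsg.pCore p G) : G)) h1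
  · rw [Subgroup.orderOf_coe, Subgroup.orderOf_coe, hz]

/-- If `O_p(G) ≠ 1` every element of order dividing `p` is centralised by `K`. -/
theorem le_centralizer_of_pow_eq_one (hG : Hom G) (K : Subgroup G) [K.Characteristic]
    (hperf : ⁅K, K⁆ = K) (hne : Cfsg.pCore p G ≠ ⊥) {z : G} (hz : z ^ p = 1) :
    z ∈ omegaCentre p G ∧ K ≤ Subgroup.centralizer ({z} : Set G) := by
  obtain ⟨z0, hz0, hz0o⟩ := exists_omegaCentre_order hne
  have hzE : z ∈ omegaCentre p G := by
    rcases eq_or_ne z 1 with rfl | h1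
    · exact one_mem _
    · exact hG.mem_of_orderOf_eq hz0 (hz0o.trans (orderOf_eq_prime hz h1).symm)
  refine ⟨hzE, ?_⟩
  have h := le_centralizer_of_char_elementary hG (omegaCentre p G)
    (omegaCentre_isElementaryAbelian p) K hperf
  exact h.trans (Subgroup.centralizer_le (by simpa using hzE))

/-- `K` centralises every `O_p(G)`. -/
theorem le_centralizer_pCore (hG : Hom G) (K : Subgroup G) [K.Characteristic] (hperf : ⁅K, K⁆ = K) :
    K ≤ Subgroup.centralizer (Cfsg.pCore p G : Set G) := by
  by_cases hne : Cfsg.pCore p G = ⊥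
  · rw [hne]
    intro x _ y hy
    rw [Subgroup.mem_bot.1 hy]
    simp
  have hP := CfsgLib.Fitting.pCore_isPGroup (G := G) p
  haveI := CfsgLib.Fitting.pCore_normal (G := G) p
  let f : K →* MulAut (Cfsg.pCore p G) := MulAut.conjNormal.comp K.subtype
  have hf : ∀ (x : K) (n : Cfsg.pCore p G), (f x n : G) = x * n * (x : G)⁻¹ := fun x n => rfl
  have hfix : ∀ (x : K) (n : Cfsg.pCore p G), n ^ p = 1 → f x n = n := by
    intro x n hn
    refine Subtype.ext ?_
    have h1 := (le_centralizer_of_pow_eq_one hG K hperf hne (z := (n : G))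
      (congrArg Subtype.val hn)).2 x.2
    rw [hf, ← (h1 (n : G) rfl), mul_inv_cancel_right]
  have h1 : f = 1 := by
    by_cases h2 : p = 2
    · subst h2
      refine eq_one_of_fix_involutions (commutator_subgroup_eq_top hperf) hP f
        (fun x n hn => hfix x n (by rw [pow_two]; exact hn)) fun n hn => Subgroup.mem_center_iff.2 fun m => ?_
      exact Subtype.ext ((le_centralizer_of_pow_eq_one hG K hperf hne (z := (n : G))
        (congrArg Subtype.val ((pow_two n).trans hn))).1.2.1 m m.2)
    · refine eq_one_of_pPrime_trivial (p := p) (commutator_subgroup_eq_top hperf) f fun x hx =>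
        MulEquiv.ext fun n => Subtype.ext ?_
      have h3 := CfsgLib.OddOrder41.fixes_of_fixes_exponent_p h2 (x : G)
        (by rwa [Subgroup.orderOf_coe]) (Nat.card (Cfsg.pCore p G)) (Cfsg.pCore p G) rfl hP
        (fun y hy => Subgroup.Normal.conj_mem inferInstance y hy _)
        (fun y hy hyp => by
          have h4 := (le_centralizer_of_pow_eq_one hG K hperf hne hyp).2 x.2
          exact (h4 y rfl).symm) n n.2
      show (f x n : G) = n
      rw [hf, h3, mul_inv_cancel_right]
  intro x hx y hy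
  have h2 := congrArg Subtype.val (MulEquiv.congr_fun (DFunLike.congr_fun h1 ⟨x, hx⟩) ⟨y, hy⟩)
  rw [hf] at h2
  exact (mul_inv_eq_iff_eq_mul.1 h2).symm

omit [Fact p.Prime] in
/-- `K` centralises the Fitting subgroup. -/
theorem le_centralizer_fitting (hG : Hom G) (K : Subgroup G) [K.Characteristic] (hperf : ⁅K, K⁆ = K) :
    K ≤ Subgroup.centralizer (Cfsg.fittingSubgroup G : Set G) := by
  rw [Subgroup.le_centralizer_iff, CfsgLib.Fitting.fitting_eq_iSup_pCore]
  refine iSup_le fun q => ?_
  haveI : Fact (q : ℕ).Prime := ⟨Nat.prime_of_mem_primeFactors q.2⟩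
  exact Subgroup.le_centralizer_iff.1 (le_centralizer_pCore hG K hperf)

/-- For an odd prime dividing `|K|` one has `O_p(G) = 1`. -/
theorem pCore_eq_bot_of_dvd (hG : Hom G) (K : Subgroup G) [K.Characteristic] (hperf : ⁅K, K⁆ = K)
    (hp : p ≠ 2) (hdvd : p ∣ Nat.card K) : Cfsg.pCore p G = ⊥ := by
  by_contra hne
  refine not_dvd_of_frobeniusCond (commutator_subgroup_eq_top hperf) ?_ hdvd
  intro Q hQ g hg hcop
  rw [Subgroup.mem_centralizer_iff]
  intro y hy
  have h3 := CfsgLib.OddOrder41.fixes_of_fixes_exponent_p hp g hcop (Nat.card Q) Q rfl hQ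
    (fun z hz => (Subgroup.mem_normalizer_iff.1 hg z).1 hz)
    (fun z _ hzp => Subtype.ext (((le_centralizer_of_pow_eq_one hG K hperf hne (z := (z : G))
      (congrArg Subtype.val hzp)).2 g.2) (z : G) rfl).symm) y hy
  exact h3.symm

end CfsgLib.Homogeneous
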