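import Cfsg.Agent.Lib.Homogeneous.Elementary
import Cfsg.Agent.Lib.Homogeneous.LinearTwo
import Mathlib

/-!
# A coprime element acts by scalars on elementary subgroups

If the order of a power of a prime `r ∤ |L|` is realised by an element `h` normalising an elementary
abelian `p`-subgroup `U` of `L` (`p` odd, prime to the index of `L`), then `h` fixes every cyclic
subgroup of `U`.
-/

set_option autoImplicit false
set_option linter.unusedSectionVars false
set_option linter.style.haveILetI false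

namespace CfsgLib.Homogeneous

universe u

variable {G : Type u} [Group G] [Finite G]

theorem mem_of_coprime_index {L : Subgroup G} [L.Normal] {x : G}
    (h : (orderOf x).Coprime L.index) : x ∈ L := by
  rw [← QuotientGroup.eq_one_iff x, ← orderOf_eq_one_iff]
  refine Nat.eq_one_of_dvd_coprimes h (orderOf_map_dvd (QuotientGroup.mk' L) x) ?_
  rw [Subgroup.index_eq_card]
  exact orderOf_dvd_natCard _

theorem sq_commute_cancel {h z : G} (hodd : Odd (orderOf h)) (hc : Commute (h ^ 2) z) : Commute h z := by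
  obtain ⟨k, hk⟩ := hodd
  have h1 : (h ^ 2) ^ (k + 1) = h := by
    rw [← pow_mul, show 2 * (k + 1) = (2 * k + 1) + 1 by ring, pow_succ, ← hk, pow_orderOf_eq_one,
      one_mul]
  rw [← h1]
  exact hc.pow_left _

variable {p : ℕ} [Fact p.Prime]

theorem card_gl_two_three :
    Nat.card ((Fin 2 → ZMod 3) ≃ₗ[ZMod 3] (Fin 2 → ZMod 3)) = 48 := by
  rw [← Nat.card_congr (LinearMap.GeneralLinearGroup.generalLinearEquiv (ZMod 3) (Fin 2 → ZMod 3)).toEquiv,
    ← Nat.card_congr (Matrix.GeneralLinearGroup.toLin (R := ZMod 3) (n := Fin 2)).toEquiv,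
    Matrix.card_GL_field]
  simp [Fin.prod_univ_two]

theorem exists_det_one {n : ℕ} (hn : 2 ≤ n) (d : (ZMod p)ˣ) :
    ∃ e : (Fin n → ZMod p) ≃ₗ[ZMod p] (Fin n → ZMod p),
      LinearEquiv.det e = 1 ∧ orderOf d ∣ orderOf e := by
  classical
  let i : Fin n := ⟨0, by omega⟩
  let j : Fin n := ⟨1, by omega⟩
  have hij : i ≠ j := by simp [i, j, Fin.ext_iff]
  let c : Fin n → (ZMod p)ˣ := Pi.mulSingle i d * Pi.mulSingle j d⁻¹
  let T : (Fin n → (ZMod p)ˣ) →* ((Fin n → ZMod p) ≃ₗ[ZMod p] (Fin n → ZMod p)) :=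
    MonoidHom.mk' (fun c => LinearEquiv.piCongrRight fun k => LinearEquiv.smulOfUnit (c k))
      fun a b => LinearEquiv.ext fun v => funext fun k => by
        simp [LinearEquiv.smulOfUnit, Units.smul_def, mul_assoc]
  have hT : ∀ c v k, T c v k = (c k : ZMod p) * v k := fun c v k => by
    simp [T, LinearEquiv.smulOfUnit, Units.smul_def]
  refine ⟨T c, Units.ext ?_, ?_⟩
  · rw [LinearEquiv.coe_det]
    have h1 : ((T c : (Fin n → ZMod p) ≃ₗ[ZMod p] (Fin n → ZMod p)) : (Fin n → ZMod p) →ₗ[ZMod p] (Fin n → ZMod p)) =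
        Matrix.toLin' (Matrix.diagonal fun k => (c k : ZMod p)) := by
      refine LinearMap.ext fun v => funext fun k => ?_
      rw [Matrix.toLin'_apply, Matrix.mulVec_diagonal]
      exact hT c v k
    rw [h1, LinearMap.det_toLin', Matrix.det_diagonal, Units.val_one, ← Units.coe_prod]
    simp [c, Finset.prod_mul_distrib, Fintype.prod_pi_mulSingle']
  · refine orderOf_dvd_of_pow_eq_one (Units.ext ?_)
    have h1 := congrFun (LinearEquiv.congr_fun (pow_orderOf_eq_one (T c)) (Pi.single i 1)) i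
    have hci : (c i : ZMod p) = d := by simp [c, hij]
    rw [← map_pow, hT, Pi.pow_apply, Units.val_pow_eq_pow_val, hci, Pi.single_eq_same, mul_one,
      oneApply, Pi.single_eq_same] at h1
    simpa using h1

/-- Step 7a: the action is scalar. -/
theorem conj_mem_zpowers (hG : Hom G) {L : Subgroup G} [L.Characteristic] (hp2 : p ≠ 2)
    (hpi : ¬ p ∣ L.index) {r : ℕ} [Fact r.Prime] (hr : ¬ r ∣ Nat.card L) (hr2 : r ≠ 2) (hrp : r ≠ p)
    {h : G} {k : ℕ} (hk : orderOf h = r ^ k) {U : Subgroup G}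
    (hU : Cfsg.IsElementaryAbelian p U) (hh : h ∈ Subgroup.normalizer (U : Set G)) :
    ∀ u ∈ U, h * u * h⁻¹ ∈ Subgroup.zpowers u := by
  obtain ⟨n, ⟨m⟩⟩ := exists_model hU
  set σ := Model.action U m ⟨h, hh⟩ with hσ
  by_cases hns : Nonscalar σ
  swap
  · intro u hu
    obtain ⟨u', hu', hσu⟩ := Model.action_apply m ⟨h, hh⟩ ⟨u, hu⟩
    simp only [Nonscalar, not_exists, not_not] at hns
    obtain ⟨a, ha⟩ := Submodule.mem_span_singleton.1 (hns (m.vec ⟨u, hu⟩))
    have h1 : m.vec ((⟨u, hu⟩ : U) ^ a.val) = m.vec u' := by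
      have : ∀ j : ℕ, m.vec ((⟨u, hu⟩ : U) ^ j) = (j : ZMod p) • m.vec ⟨u, hu⟩ := by
        intro j
        induction j with
        | zero => simp [m.vec_one]
        | succ j ih => rw [pow_succ, m.vec_mul, ih, Nat.cast_succ, add_smul, one_smul]
      rw [this, ZMod.natCast_zmod_val, ha, ← hσu]
    have h2 := congrArg (fun x : U => (x : G)) (m.vec_injective h1)
    refine Subgroup.mem_zpowers_iff.2 ⟨a.val, ?_⟩
    rw [zpow_natCast]
    show u ^ a.val = h * u * h⁻¹
    simpa [hu'] using h2
  exfalso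
  have hr' : r.Prime := Fact.out
  have hp' : p.Prime := Fact.out
  have hσd : orderOf σ ∣ r ^ k := by
    rw [← hk, ← Subgroup.orderOf_mk h hh]
    exact orderOf_map_dvd _ _
  obtain ⟨a, ha⟩ := hns
  have hn2 : 2 ≤ n := by
    by_contra hlt
    refine ha (Submodule.mem_span_singleton.2 ?_)
    rcases Nat.le_one_iff_eq_zero_or_eq_one.1 (by omega : n ≤ 1) with rfl | rfl
    · exact ⟨0, Subsingleton.elim _ _⟩
    · by_cases ha0 : a 0 = 0
      · have : a = 0 := funext fun i => by rw [Fin.eq_zero i]; exact ha0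
        exact ⟨0, by rw [this, map_zero, smul_zero]⟩
      · exact ⟨σ a 0 / a 0, funext fun i => by
          rw [Fin.eq_zero i, Pi.smul_apply, smul_eq_mul, div_mul_cancel₀ _ ha0]⟩
  have hmem : σ ∈ m.img (⊤ : Subgroup G) := Model.action_mem_img m ⟨h, hh⟩ (Subgroup.mem_top _)
  haveI : (m.img (⊤ : Subgroup G)).Normal := Model.img_normal m hG ⊤
  have hT : AllT (m.img (⊤ : Subgroup G)) := by
    rcases eq_or_lt_of_le hn2 with h2 | h3
    · subst h2
      have hp5 : 5 ≤ p := by
        by_contra hlt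
        have hp3 : p = 3 := by
          have := hp'.two_le
          rcases (by omega : p = 3 ∨ p = 4) with rfl | rfl
          · rfl
          · norm_num at hp'
        subst hp3
        have hd : orderOf σ ∣ 48 := card_gl_two_three ▸ orderOf_dvd_natCard σ
        have hc : (r ^ k).Coprime 48 := by
          refine Nat.Coprime.pow_left _ ((hr'.coprime_iff_not_dvd).2 fun hd' => ?_)
          rcases (hr'.dvd_mul.1 (show r ∣ 2 ^ 4 * 3 from hd')) with h' | h'
          · exact hr2 ((Nat.prime_dvd_prime_iff_eq hr' Nat.prime_two).1 (hr'.dvd_of_dvd_pow h'))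
          · exact hrp ((Nat.prime_dvd_prime_iff_eq hr' hp').1 h')
        have h1 := orderOf_eq_one_iff.1 (Nat.eq_one_of_dvd_coprimes hc hσd hd)
        exact ha (by rw [h1]; exact Submodule.mem_span_singleton_self a)
      exact allT_of_nonscalar_two inferInstance hmem ⟨a, ha⟩ (Module.finrank_fin_fun _) hp5
    · exact allT_of_nonscalar inferInstance hmem ⟨a, ha⟩ (by rw [Module.finrank_fin_fun]; omega)
  -- elements of order `p` in the image come from `L`
  obtain ⟨u, huI, hup, hu1⟩ : ∃ u ∈ m.img (⊤ : Subgroup G), u ^ p = 1 ∧ u ≠ 1 := by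
    let i : Fin n := ⟨0, by omega⟩
    let j : Fin n := ⟨1, by omega⟩
    have hij : i ≠ j := by simp [i, j, Fin.ext_iff]
    have hf : (LinearMap.proj i : Module.Dual (ZMod p) (Fin n → ZMod p)) (Pi.single j 1) = 0 := by
      simp [hij]
    refine ⟨LinearEquiv.transvection hf, ?_, ?_, transvection_ne_one hf ?_ ?_⟩
    · exact hT _ _ hf
    · refine LinearEquiv.ext fun v => ?_
      rw [transvection_pow hf p, tvApply, oneApply]
      simp
    · intro h0
      have := LinearMap.congr_fun h0 (Pi.single i 1)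
      simp at this
    · simp
  obtain ⟨g, -, hg⟩ := Model.exists_action_eq m huI
  obtain ⟨e, ⟨j, hj⟩, he⟩ := exists_pow_pPart (p := p) (g : G)
  have hge : (g : G) ^ e ∈ L := mem_of_coprime_index (by
    rw [hj]
    exact Nat.Coprime.pow_left _ ((hp'.coprime_iff_not_dvd).2 hpi))
  have heq : Model.action U m (g ^ e) = u := by
    rw [← hg]
    exact map_pow_pPart (fun i hi => he i (by rwa [Subgroup.orderOf_coe])) _ (j := 1)
      (by rw [hg, pow_one, hup])
  have huJ : u ∈ m.img L := heq ▸ Model.action_mem_img m (g ^ e) (by rw [SubgroupClass.coe_pow]; exact hge)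
  haveI : (m.img L).Normal := Model.img_normal m hG L
  have hTJ : AllT (m.img L) := allT_of_dvd inferInstance (by
    have h := orderOf_dvd_natCard (⟨u, huJ⟩ : m.img L)
    rwa [← Subgroup.orderOf_coe, orderOf_eq_prime hup hu1] at h)
  -- an element of order divisible by `r` in the image of `L`
  obtain ⟨e', he', hre⟩ : ∃ e' ∈ m.img L, r ∣ orderOf e' := by
    have hσ1 : σ ≠ 1 := fun h1 => ha (by rw [h1]; exact Submodule.mem_span_singleton_self a)
    by_cases hd : LinearEquiv.det σ = 1
    · refine ⟨σ, mem_of_det_eq_one hTJ hd, ?_⟩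
      obtain ⟨i, -, hi⟩ := (Nat.dvd_prime_pow hr').1 hσd
      rcases i with _ | i
      · exact absurd (orderOf_eq_one_iff.1 (by rw [hi, pow_zero])) hσ1
      · rw [hi]; exact dvd_pow_self r (Nat.succ_ne_zero _)
    · obtain ⟨e', he', hde⟩ := exists_det_one hn2 (LinearEquiv.det σ)
      refine ⟨e', mem_of_det_eq_one hTJ he', dvd_trans ?_ hde⟩
      obtain ⟨i, -, hi⟩ := (Nat.dvd_prime_pow hr').1 ((orderOf_map_dvd LinearEquiv.det σ).trans hσd)
      rcases i with _ | i
      · exact absurd (orderOf_eq_one_iff.1 (by rw [hi, pow_zero])) hd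
      · rw [hi]; exact dvd_pow_self r (Nat.succ_ne_zero _)
  obtain ⟨g', hg'L, hg'⟩ := Model.exists_action_eq m he'
  refine hr (hre.trans ?_)
  rw [← hg']
  refine (orderOf_map_dvd _ g').trans ?_
  rw [← Subgroup.orderOf_coe, ← Subgroup.orderOf_mk (g' : G) hg'L]
  exact orderOf_dvd_natCard _

end CfsgLib.Homogeneous
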